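import Mathlib.RepresentationTheory.Irreducible
import Mathlib.RingTheory.Nilpotent.Lemmas
import Mathlib.LinearAlgebra.Trace

/-!
Cyclic defect (helper85): irreducible representations over an algebraically closed field: the image
of the group algebra is everything and non-isomorphic ones are separated by it.
-/

set_option autoImplicit false
set_option linter.unusedSectionVars false
set_option linter.style.haveILetI false

open scoped MonoidAlgebra

namespace H85.Cyc

universe u v w

variable {K : Type v} [Field K] [IsAlgClosed K] {G : Type u} [Group G] [Finite G]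
variable {V : Type w} [AddCommGroup V] [Module K V] [FiniteDimensional K V]
  (ρ : Representation K G V)

theorem asAlgebraHom_surjective [ρ.IsIrreducible] : Function.Surjective ρ.asAlgebraHom := by
  classical
  intro f
  haveI : FiniteDimensional K ρ.asModule := inferInstanceAs (FiniteDimensional K V)
  have hend := IsSimpleModule.algebraMap_end_bijective_of_isAlgClosed (A := K[G]) (V := ρ.asModule) K
  let f' : Module.End (Module.End K[G] ρ.asModule) ρ.asModule :=
    { toFun := fun m => ρ.asModuleEquiv.symm (f (ρ.asModuleEquiv m))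
      map_add' := fun a b => by simp
      map_smul' := fun φ m => by
        obtain ⟨c, rfl⟩ := hend.2 φ
        show ρ.asModuleEquiv.symm (f (ρ.asModuleEquiv (c • m))) =
          c • ρ.asModuleEquiv.symm (f (ρ.asModuleEquiv m))
        simp }
  obtain ⟨s, hs⟩ := Module.Finite.fg_top (R := K) (M := V)
  obtain ⟨r, hr⟩ := jacobson_density f' (s.image ρ.asModuleEquiv.symm)
  refine ⟨r, LinearMap.ext_on hs fun v hv => ?_⟩
  have h := hr (ρ.asModuleEquiv.symm v) (Finset.mem_image_of_mem _ hv)
  have h' := congrArg ρ.asModuleEquiv h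
  rw [Representation.asModuleEquiv_map_smul] at h'
  simpa [f'] using h'.symm

theorem eq_smul_of_commute [ρ.IsIrreducible] (f : Module.End K V)
    (h : ∀ g, f * ρ g = ρ g * f) : ∃ c : K, f = c • (1 : Module.End K V) := by
  classical
  obtain ⟨b⟩ : Nonempty (Module.Basis (Fin (Module.finrank K V)) K V) :=
    ⟨Module.finBasis K V⟩
  by_cases hd : Nonempty (Fin (Module.finrank K V))
  · obtain ⟨i⟩ := hd
    have hall : ∀ a : K[G], f * ρ.asAlgebraHom a = ρ.asAlgebraHom a * f := by
      intro a
      induction a using MonoidAlgebra.induction_on with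
      | of g => rw [Representation.asAlgebraHom_of]; exact h g
      | add a b ha hb => rw [map_add, mul_add, add_mul, ha, hb]
      | smul r a ha => rw [map_smul, mul_smul_comm, smul_mul_assoc, ha]
    refine ⟨b.coord i (f (b i)), LinearMap.ext fun v => ?_⟩
    obtain ⟨a, ha⟩ := asAlgebraHom_surjective ρ ((b.coord i).smulRight v)
    have h1 := LinearMap.congr_fun (hall a) (b i)
    rw [Module.End.mul_apply, Module.End.mul_apply, ha, LinearMap.smulRight_apply,
      LinearMap.smulRight_apply, b.coord_apply, b.repr_self, Finsupp.single_eq_same, one_smul] at h1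
    rw [h1]
    simp
  · rw [not_nonempty_iff] at hd
    refine ⟨0, LinearMap.ext fun v => ?_⟩
    have : v = 0 := b.ext_elem fun l => hd.elim l
    subst this
    simp

variable {W : Type w} [AddCommGroup W] [Module K W] [FiniteDimensional K W]
  (σ : Representation K G W)

/-- An element acting as one on `ρ` and as zero on `σ`. -/
theorem exists_sep [ρ.IsIrreducible] [σ.IsIrreducible]
    (hne : ∀ T : W →ₗ[K] V, (∀ g w, T (σ g w) = ρ g (T w)) → T = 0) :
    ∃ a : K[G], ρ.asAlgebraHom a = 1 ∧ σ.asAlgebraHom a = 0 := by
  classical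
  obtain ⟨b⟩ : Nonempty (Module.Basis (Fin (Module.finrank K V)) K V) :=
    ⟨Module.finBasis K V⟩
  by_cases hz : ∃ a, σ.asAlgebraHom a = 0 ∧ ρ.asAlgebraHom a ≠ 0
  · obtain ⟨a, ha, ha'⟩ := hz
    obtain ⟨v, hv⟩ : ∃ v, ρ.asAlgebraHom a v ≠ 0 := by
      by_contra h
      push Not at h
      exact ha' (LinearMap.ext h)
    obtain ⟨i, hi⟩ : ∃ i, b.coord i (ρ.asAlgebraHom a v) ≠ 0 := by
      by_contra hne'
      push Not at hne'
      exact hv (b.ext_elem fun i => by simpa using hne' i)
    choose x hx using fun l => asAlgebraHom_surjective ρ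
      (((b.coord i (ρ.asAlgebraHom a v))⁻¹ • b.coord i).smulRight (b l))
    choose y hy using fun l => asAlgebraHom_surjective ρ ((b.coord l).smulRight v)
    refine ⟨∑ l, x l * a * y l, LinearMap.ext fun w => ?_, ?_⟩
    · simp only [map_sum, map_mul, LinearMap.sum_apply, Module.End.mul_apply, hx, hy,
        LinearMap.smulRight_apply, map_smul, LinearMap.smul_apply, smul_eq_mul,
        inv_mul_cancel₀ hi, one_smul, Module.End.one_apply]
      exact b.sum_repr w
    · simp [map_sum, map_mul, ha]
  push Not at hz
  exfalso
  obtain ⟨c⟩ : Nonempty (Module.Basis (Fin (Module.finrank K W)) K W) :=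
    ⟨Module.finBasis K W⟩
  have hn : Nontrivial (Subrepresentation σ) := IsSimpleOrder.toNontrivial
  have hW : Nonempty (Fin (Module.finrank K W)) := by
    by_contra h
    rw [not_nonempty_iff] at h
    obtain ⟨A, B, hAB⟩ := hn.exists_pair_ne
    refine hAB (SetLike.ext fun w => ?_)
    have : w = 0 := c.ext_elem fun l => h.elim l
    subst this
    exact ⟨fun _ => B.toSubmodule.zero_mem, fun _ => A.toSubmodule.zero_mem⟩
  obtain ⟨i⟩ := hW
  choose a ha using fun w => asAlgebraHom_surjective σ ((c.coord i).smulRight w)
  have hone : ρ.asAlgebraHom (a (c i)) ≠ 0 := by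
    intro h0
    choose y hy using fun l => asAlgebraHom_surjective σ ((c.coord l).smulRight (c i))
    have h1 : σ.asAlgebraHom (∑ l, a (c l) * a (c i) * y l - 1) = 0 := by
      rw [map_sub, map_one, sub_eq_zero]
      refine LinearMap.ext fun w => ?_
      simp only [map_sum, map_mul, LinearMap.sum_apply, Module.End.mul_apply, ha, hy,
        LinearMap.smulRight_apply, map_smul, c.coord_apply, c.repr_self, Finsupp.single_eq_same,
        one_smul, Module.End.one_apply]
      exact c.sum_repr w
    have h2 := hz _ h1
    rw [map_sub, map_one, map_sum] at h2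
    simp only [map_mul, h0, mul_zero, zero_mul, Finset.sum_const_zero, zero_sub, neg_eq_zero] at h2
    have hn' : Nontrivial (Subrepresentation ρ) := IsSimpleOrder.toNontrivial
    obtain ⟨A, B, hAB⟩ := hn'.exists_pair_ne
    refine hAB (SetLike.ext fun w => ?_)
    have : w = 0 := by simpa using LinearMap.congr_fun h2 w
    subst this
    exact ⟨fun _ => B.toSubmodule.zero_mem, fun _ => A.toSubmodule.zero_mem⟩
  obtain ⟨v, hv⟩ : ∃ v, ρ.asAlgebraHom (a (c i)) v ≠ 0 := by
    by_contra h
    push Not at h
    exact hone (LinearMap.ext h)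
  set w₀ := ρ.asAlgebraHom (a (c i)) v with hw₀
  have key : ∀ x y : K[G], σ.asAlgebraHom x = σ.asAlgebraHom y →
      ρ.asAlgebraHom x = ρ.asAlgebraHom y := fun x y hxy => sub_eq_zero.1 (by
    rw [← map_sub]; exact hz _ (by rw [map_sub, hxy, sub_self]))
  let T : W →ₗ[K] V :=
    { toFun := fun w => ρ.asAlgebraHom (a w) w₀
      map_add' := fun w w' => by
        rw [key (a (w + w')) (a w + a w') (by
          rw [map_add, ha, ha, ha]
          exact LinearMap.ext fun _ => smul_add _ _ _), map_add, LinearMap.add_apply]
      map_smul' := fun r w => by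
        rw [key (a (r • w)) (r • a w) (by
          rw [map_smul, ha, ha]
          exact LinearMap.ext fun _ => smul_comm _ _ _), map_smul, LinearMap.smul_apply,
          RingHom.id_apply] }
  have hT : T = 0 := hne T fun g w => by
    show ρ.asAlgebraHom (a (σ g w)) w₀ = _
    rw [key (a (σ g w)) (MonoidAlgebra.of K G g * a w) (by
      rw [map_mul, Representation.asAlgebraHom_of, ha, ha]
      exact LinearMap.ext fun z => by simp), map_mul, Representation.asAlgebraHom_of]
    rfl
  apply hv
  have h1 := LinearMap.congr_fun hT (c i)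
  change ρ.asAlgebraHom (a (c i)) w₀ = 0 at h1
  rw [← h1, hw₀, ← Module.End.mul_apply, ← map_mul]
  refine LinearMap.congr_fun (key _ _ ?_) v
  rw [map_mul, ha]
  exact LinearMap.ext fun z => by simp

end H85.Cyc
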