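import Cfsg.Agent.H85.Cyclic.RepAux
import Mathlib.GroupTheory.GroupAction.Quotient
import Mathlib.Algebra.CharP.Basic

/-!
Cyclic defect (helper85): negligible homomorphisms, averages and dévissage.
-/

set_option autoImplicit false
set_option linter.unusedSectionVars false
set_option linter.style.haveILetI false

open Finset
open scoped MonoidAlgebra

namespace H85.Cyc

universe u v w

variable {k : Type v} [Field k] {H : Type u} [Group H] [Fintype H]
  {U : Type w} [AddCommGroup U] [Module k U] {W : Type w} [AddCommGroup W] [Module k W]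
  (π : Representation k H U) (σ : Representation k H W)

/-- A trace from the trivial subgroup, over the subgroup `R`. -/
def NegOn (R : Subgroup H) (φ : U →ₗ[k] W) : Prop :=
  ∃ h : U →ₗ[k] W, ∀ [Fintype R] (u : U), φ u = ∑ x : R, σ x (h (π (x : H)⁻¹ u))

/-- A negligible homomorphism. -/
def Neg (φ : U →ₗ[k] W) : Prop :=
  ∃ h : U →ₗ[k] W, ∀ u : U, φ u = ∑ g : H, σ g (h (π g⁻¹ u))

/-- The trace of a map. -/
noncomputable def trMap (h : U →ₗ[k] W) : U →ₗ[k] W := ∑ g : H, σ g ∘ₗ h ∘ₗ π g⁻¹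

theorem trMap_apply (h : U →ₗ[k] W) (u : U) :
    trMap π σ h u = ∑ g : H, σ g (h (π g⁻¹ u)) := by simp [trMap, LinearMap.sum_apply]

theorem trMap_equivariant (h : U →ₗ[k] W) (x : H) (u : U) :
    trMap π σ h (π x u) = σ x (trMap π σ h u) := by
  rw [trMap_apply, trMap_apply, map_sum]
  refine (Fintype.sum_equiv (Equiv.mulLeft x) _ _ fun g => ?_).symm
  rw [Equiv.coe_mulLeft, ← Module.End.mul_apply, ← map_mul, mul_inv_rev, map_mul π g⁻¹,
    Module.End.mul_apply, ← Module.End.mul_apply (π x⁻¹), ← map_mul, inv_mul_cancel, map_one,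
    Module.End.one_apply]

theorem Neg.smul {φ : U →ₗ[k] W} (h : Neg π σ φ) (c : k) : Neg π σ (c • φ) := by
  obtain ⟨a, ha⟩ := h
  exact ⟨c • a, fun u => by simp [ha, Finset.smul_sum]⟩

theorem Neg.add {φ ψ : U →ₗ[k] W} (h : Neg π σ φ) (h' : Neg π σ ψ) : Neg π σ (φ + ψ) := by
  obtain ⟨a, ha⟩ := h
  obtain ⟨b, hb⟩ := h'
  exact ⟨a + b, fun u => by simp [ha, hb, Finset.sum_add_distrib]⟩

theorem neg_trMap (h : U →ₗ[k] W) : Neg π σ (trMap π σ h) := ⟨h, trMap_apply π σ h⟩

variable {X : Type w} [AddCommGroup X] [Module k X] (τ : Representation k H X)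

theorem Neg.comp_left {φ : U →ₗ[k] W} (h : Neg π σ φ) {ψ : W →ₗ[k] X}
    (hψ : ∀ g w, ψ (σ g w) = τ g (ψ w)) : Neg π τ (ψ ∘ₗ φ) := by
  obtain ⟨a, ha⟩ := h
  exact ⟨ψ ∘ₗ a, fun u => by simp [ha, hψ]⟩

theorem Neg.comp_right {φ : W →ₗ[k] X} (h : Neg σ τ φ) {ψ : U →ₗ[k] W}
    (hψ : ∀ g u, ψ (π g u) = σ g (ψ u)) : Neg π τ (φ ∘ₗ ψ) := by
  obtain ⟨a, ha⟩ := h
  exact ⟨a ∘ₗ ψ, fun u => by simp [ha, hψ]⟩

open Classical in
/-- A sum over a group, by cosets. -/
theorem sum_cosets {N : Type*} [AddCommMonoid N] (R : Subgroup H) [Fintype R] [Fintype (H ⧸ R)]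
    (F : H → N) : ∑ g : H, F g = ∑ q : H ⧸ R, ∑ x : R, F (q.out * (x : H)) := by
  rw [← Fintype.sum_prod_type (f := fun qx : (H ⧸ R) × R => F (qx.1.out * (qx.2 : H)))]
  have hmk : ∀ (q : H ⧸ R) (x : R), ((q.out * (x : H) : H) : H ⧸ R) = q := fun q x => by
    conv_rhs => rw [← q.out_eq]
    refine QuotientGroup.eq.2 ?_
    simpa [mul_assoc] using inv_mem x.2
  refine (Fintype.sum_bijective (fun qx : (H ⧸ R) × R => qx.1.out * (qx.2 : H)) ⟨?_, fun g => ?_⟩
    _ _ fun qx => rfl).symm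
  · rintro ⟨q, x⟩ ⟨q', x'⟩ h
    have hq : q = q' := by
      rw [← hmk q x, ← hmk q' x']
      exact congrArg _ h
    subst hq
    exact Prod.ext rfl (Subtype.ext (mul_left_cancel h))
  · obtain ⟨x, hx⟩ := QuotientGroup.mk_out_eq_mul R g
    refine ⟨((g : H ⧸ R), x⁻¹), ?_⟩
    show Quotient.out (g : H ⧸ R) * ((x⁻¹ : R) : H) = g
    rw [hx, Subgroup.coe_inv, mul_inv_cancel_right]

open Classical in
/-- The upgrade from `R` to the whole group. -/
theorem NegOn.upgrade (R : Subgroup H) {f z : k[H]}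
    (hz : ∀ x ∈ R, MonoidAlgebra.single x 1 * z = z * MonoidAlgebra.single x 1)
    (hsum : ∑ q : H ⧸ R, MonoidAlgebra.single q.out 1 * z * MonoidAlgebra.single q.out⁻¹ 1 = f)
    (hf : σ.asAlgebraHom f = 1) {φ : U →ₗ[k] W} (hφ : ∀ g u, φ (π g u) = σ g (φ u))
    (h : NegOn π σ R φ) : Neg π σ φ := by
  obtain ⟨a, ha⟩ := h
  refine ⟨σ.asAlgebraHom z ∘ₗ a, fun u => ?_⟩
  have h1 : φ u = σ.asAlgebraHom f (φ u) := by rw [hf]; rfl
  rw [h1, ← hsum, map_sum, LinearMap.sum_apply]
  rw [sum_cosets R]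
  refine Finset.sum_congr rfl fun q _ => ?_
  rw [map_mul, map_mul, Representation.asAlgebraHom_single_one,
    Representation.asAlgebraHom_single_one, Module.End.mul_apply, Module.End.mul_apply, ← hφ,
    ha, map_sum, map_sum]
  refine Finset.sum_congr rfl fun x _ => ?_
  rw [map_mul σ q.out, Module.End.mul_apply, mul_inv_rev, map_mul π (x : H)⁻¹,
    Module.End.mul_apply]
  congr 1
  have hzx := congrArg σ.asAlgebraHom (hz x x.2)
  rw [map_mul, map_mul, Representation.asAlgebraHom_single_one] at hzx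
  exact (LinearMap.congr_fun hzx _).symm

/-- A nonzero identity is not negligible when a central `p`-element acts trivially. -/
theorem not_neg_one {p : ℕ} [hp : Fact p.Prime] [CharP k p] {x : H} (hx : orderOf x = p)
    (hσx : σ x = 1) {w : W} (hw : w ≠ 0) : ¬ Neg σ σ (LinearMap.id : W →ₗ[k] W) := by
  classical
  rintro ⟨a, ha⟩
  apply hw
  let Z := Subgroup.zpowers x
  have hcard : Fintype.card Z = p := by rw [Fintype.card_zpowers, hx]
  have hσ : ∀ z : Z, σ (z : H) = 1 := fun z => by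
    have h : x ∈ MonoidHom.ker σ := hσx
    exact (Subgroup.zpowers_le.2 h) z.2
  have h1 := ha w
  rw [LinearMap.id_apply] at h1
  rw [h1, sum_cosets Z]
  refine Finset.sum_eq_zero fun q _ => ?_
  rw [Finset.sum_congr rfl (g := fun _ => σ q.out (a (σ q.out⁻¹ w))) fun z _ => ?_,
    Finset.sum_const, Finset.card_univ, hcard, ← Nat.cast_smul_eq_nsmul k, CharP.cast_eq_zero,
    zero_smul]
  rw [map_mul σ q.out, Module.End.mul_apply, hσ, Module.End.one_apply, mul_inv_rev,
    map_mul σ (z : H)⁻¹, Module.End.mul_apply, show σ (z : H)⁻¹ = 1 from hσ z⁻¹,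
    Module.End.one_apply]

open Classical in
/-- The average over a subgroup of invertible index. -/
theorem exists_avg (C : Subgroup H) (hC : (C.index : k) ≠ 0) {φ : Module.End k U}
    (hφ : ∀ c ∈ C, φ * π c = π c * φ) :
    ∃ Φ : Module.End k U, (∀ g, Φ * π g = π g * Φ) ∧
      ∀ {Y : Type w} [AddCommGroup Y] [Module k Y] (σ' : Representation k H Y) (f : U →ₗ[k] Y),
        (∀ g u, f (π g u) = σ' g (f u)) →
        (f ∘ₗ φ = f → f ∘ₗ Φ = f) ∧ (f ∘ₗ φ = 0 → f ∘ₗ Φ = 0) := by
  let T : H → Module.End k U := fun g => π g * φ * π g⁻¹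
  have hT : ∀ g c, c ∈ C → T (g * c) = T g := fun g c hc => by
    show π (g * c) * φ * π (g * c)⁻¹ = π g * φ * π g⁻¹
    rw [map_mul π g, mul_assoc (π g) (π c), ← hφ c hc, mul_inv_rev, map_mul π c⁻¹]
    simp only [mul_assoc]
    rw [← mul_assoc (π c) (π c⁻¹), ← map_mul π c c⁻¹, mul_inv_cancel, map_one, one_mul]
  refine ⟨(C.index : k)⁻¹ • ∑ q : H ⧸ C, T q.out, fun g => ?_, fun {Y} _ _ σ f hf => ?_⟩
  · rw [smul_mul_assoc, mul_smul_comm, Finset.sum_mul, Finset.mul_sum]
    congr 1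
    refine (Fintype.sum_equiv (MulAction.toPerm g) _ _ fun q => ?_).symm
    show π g * T q.out = T (g • q).out * π g
    obtain ⟨c, hc⟩ := QuotientGroup.mk_out_eq_mul C (g * q.out)
    have hgq : g • q = ((g * q.out : H) : H ⧸ C) := by
      conv_lhs => rw [← q.out_eq]
      rfl
    rw [hgq, hc, hT _ _ c.2]
    show π g * (π q.out * φ * π q.out⁻¹) = π (g * q.out) * φ * π (g * q.out)⁻¹ * π g
    rw [mul_assoc (π (g * q.out) * φ), ← map_mul π (g * q.out)⁻¹ g, mul_inv_rev, inv_mul_cancel_right,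
      map_mul π g q.out]
    simp only [mul_assoc]
  · have hval : ∀ u, f (((C.index : k)⁻¹ • ∑ q : H ⧸ C, T q.out) u) =
        (C.index : k)⁻¹ • ∑ q : H ⧸ C, σ q.out (f (φ (π q.out⁻¹ u))) := fun u => by
      rw [LinearMap.smul_apply, map_smul, LinearMap.sum_apply, map_sum]
      simp only [T, Module.End.mul_apply, hf]
    constructor <;> intro h <;> refine LinearMap.ext fun u => ?_ <;>
      rw [LinearMap.comp_apply, hval]
    · have h' : ∀ v, f (φ v) = f v := fun v => LinearMap.congr_fun h v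
      rw [Finset.sum_congr rfl (g := fun _ => f u) fun q _ => by
        rw [h', ← hf, ← Module.End.mul_apply, ← map_mul, mul_inv_cancel, map_one,
          Module.End.one_apply], Finset.sum_const, Finset.card_univ]
      rw [← Nat.card_eq_fintype_card, ← Subgroup.index, ← Nat.cast_smul_eq_nsmul k, smul_smul,
        inv_mul_cancel₀ hC, one_smul]
    · have h' : ∀ v, f (φ v) = 0 := fun v => LinearMap.congr_fun h v
      simp [h']

open Classical in
/-- A sum over cosets permuted freely by `R` is a trace over `R`. -/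
theorem exists_free_trace (R : Subgroup H) {α : Type u} [Fintype α] [MulAction R α]
    (hfree : ∀ (x : R) (q : α), x • q = q → x = 1) (T : α → Module.End k U)
    (hT : ∀ (x : R) (q : α), T (x • q) = π (x : H) * T q * π (x : H)⁻¹) :
    ∃ A : Module.End k U, ∀ [Fintype R],
      ∑ q : α, T q = ∑ x : R, π (x : H) * A * π (x : H)⁻¹ := by
  haveI : Fintype R := Fintype.ofFinite R
  let r : α → α := fun q => (Quotient.mk (MulAction.orbitRel R α) q).out
  let w : α → k := fun q => if r q = q then 1 else 0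
  refine ⟨∑ q : α, w q • T q, fun {iR} => ?_⟩
  have hone : ∀ q, ∑ x : R, w (x • q) = 1 := by
    intro q
    have hr : ∀ x : R, r (x • q) = r q := fun x => by
      show (Quotient.mk _ (x • q)).out = (Quotient.mk _ q).out
      rw [Quotient.sound (s := MulAction.orbitRel R α) (MulAction.mem_orbit q x)]
    obtain ⟨x₀, hx₀⟩ : r q ∈ MulAction.orbit R q :=
      Quotient.exact (Quotient.out_eq (Quotient.mk (MulAction.orbitRel R α) q))
    rw [Finset.sum_eq_single x₀ (fun x _ hne => if_neg fun h => hne ?_) (by simp)]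
    · exact if_pos (by rw [hr]; exact hx₀.symm)
    rw [hr] at h
    have h2 : (x₀⁻¹ * x) • q = q := by
      rw [mul_smul, ← h, ← show x₀ • q = r q from hx₀, inv_smul_smul]
    exact (inv_mul_eq_one.1 (hfree _ _ h2)).symm
  calc ∑ q : α, T q = ∑ q : α, ∑ x : R, w (x • q) • T q :=
        Finset.sum_congr rfl fun q _ => by rw [← Finset.sum_smul, hone, one_smul]
    _ = ∑ x : R, ∑ q : α, w (x • q) • T q := Finset.sum_comm
    _ = ∑ x : R, ∑ q : α, w q • T (x⁻¹ • q) := Finset.sum_congr rfl fun x _ =>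
        Fintype.sum_equiv (MulAction.toPerm x) _ _ fun q => by simp
    _ = ∑ x : R, π ((x⁻¹ : R) : H) * (∑ q : α, w q • T q) * π ((x⁻¹ : R) : H)⁻¹ :=
        Finset.sum_congr rfl fun x _ => by
          rw [Finset.mul_sum, Finset.sum_mul]
          exact Finset.sum_congr rfl fun q _ => by rw [hT, mul_smul_comm, smul_mul_assoc]
    _ = _ := Fintype.sum_equiv (Equiv.inv R) _ _ fun x => rfl

end H85.Cyc
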