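import Cfsg.Agent.H85.Cyclic.Sep
import Cfsg.Agent.H85.Cyclic.Neg

/-!
Cyclic defect (helper85): the scalar given by a relative trace of a local endomorphism.
-/

set_option autoImplicit false
set_option linter.unusedSectionVars false
set_option linter.style.haveILetI false

open Finset
open scoped MonoidAlgebra

namespace H85.Cyc

universe u v w

variable {k : Type v} [Field k] [IsAlgClosed k] {G : Type u} [Group G] [Fintype G]
  {V : Type w} [AddCommGroup V] [Module k V] [FiniteDimensional k V]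

open Classical in
/-- The double coset formula with one relevant double coset. -/
theorem mackey_scalar (π : Representation k G V) [π.IsIrreducible] (H D N : Subgroup G) (hDH : D ≤ H)
    (hDN : H ≤ N) (Q Φ h : Module.End k V) (hQD : ∀ d ∈ D, Q * π d = π d * Q)
    (hQH : ∀ x ∈ H, Q * π x = π x * Q) (hQh : Q * h = h)
    (hhD : ∀ d ∈ D, h * π d = π d * h)
    (hsum : ∑ q : H ⧸ D.subgroupOf H, π (q.out : G) * h * π (q.out : G)⁻¹ = Φ)
    (hQΦ : Q * Φ * Q = Φ)
    (horth : ∀ x ∈ N, x ∉ H → Q * π x * Q = 0)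
    (hfree : ∀ x : G, x ∉ N → ∀ d ∈ D, d ≠ 1 → x⁻¹ * d * x ∉ D) :
    ∃ (c : k) (A : Module.End k V), ∀ [Fintype D],
      c • (Q * Q) = Φ + ∑ x : D, π (x : G) * A * π (x : G)⁻¹ := by
  haveI := Fintype.ofFinite D
  let T : G → Module.End k V := fun g => π g * h * π g⁻¹
  have hT : ∀ g d, d ∈ D → T (g * d) = T g := fun g d hd => by
    show π (g * d) * h * π (g * d)⁻¹ = π g * h * π g⁻¹
    calc π (g * d) * h * π (g * d)⁻¹ = π g * (π d * h) * (π d⁻¹ * π g⁻¹) := by
          rw [map_mul π g d, mul_inv_rev, map_mul π d⁻¹ g⁻¹]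
          simp only [mul_assoc]
      _ = π g * h * (π d * π d⁻¹) * π g⁻¹ := by
          rw [← hhD d hd]
          simp only [mul_assoc]
      _ = π g * h * π g⁻¹ := by rw [← map_mul π d d⁻¹, mul_inv_cancel, map_one, mul_one]
  have hTmk : ∀ g : G, T (Quotient.out (g : G ⧸ D)) = T g := fun g => by
    obtain ⟨d, hd⟩ := QuotientGroup.mk_out_eq_mul D g
    rw [hd, hT _ _ d.2]
  have hTx : ∀ x g : G, T (x * g) = π x * T g * π x⁻¹ := fun x g => by
    show π (x * g) * h * π (x * g)⁻¹ = π x * (π g * h * π g⁻¹) * π x⁻¹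
    rw [map_mul, mul_inv_rev, map_mul]
    simp only [mul_assoc]
  have hmk : ∀ (x : G) (q : G ⧸ D), x • q = ((x * q.out : G) : G ⧸ D) := fun x q => by
    conv_lhs => rw [← QuotientGroup.out_eq' q]
    rfl
  have hsmul : ∀ (x : G) (q : G ⧸ D), T (x • q).out = π x * T q.out * π x⁻¹ := fun x q => by
    rw [hmk, hTmk, hTx]
  obtain ⟨c, hc⟩ := eq_smul_of_commute π (∑ q : G ⧸ D, T q.out) fun g => by
    rw [Finset.sum_mul, Finset.mul_sum]
    refine (Fintype.sum_equiv (MulAction.toPerm g) _ _ fun q => ?_).symm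
    rw [MulAction.toPerm_apply, hsmul, mul_assoc (π g * T q.out), ← map_mul π g⁻¹ g, inv_mul_cancel,
      map_one, mul_one]
  refine ⟨c, ?_⟩
  -- the free part
  let O : Finset (G ⧸ D) := univ.filter fun q => q.out ∉ N
  have hOmem : ∀ (x : D) (q : G ⧸ D), q.out ∉ N → ((x : G) • q).out ∉ N := fun x q hq hm => by
    rw [hmk] at hm
    obtain ⟨d, hd⟩ := QuotientGroup.mk_out_eq_mul D ((x : G) * q.out)
    rw [hd, N.mul_mem_cancel_right (hDN (hDH d.2)), N.mul_mem_cancel_left (hDN (hDH x.2))] at hm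
    exact hq hm
  letI : MulAction D {q : G ⧸ D // q.out ∉ N} :=
    { smul := fun x q => ⟨(x : G) • q.1, hOmem x q.1 q.2⟩
      one_smul := fun q => Subtype.ext (one_smul G q.1)
      mul_smul := fun x y q => Subtype.ext (mul_smul (x : G) (y : G) q.1) }
  obtain ⟨A, hA⟩ := exists_free_trace (k := k) π D (α := {q : G ⧸ D // q.out ∉ N})
    (fun x q hxq => by
      by_contra hx
      refine hfree q.1.out q.2 x x.2 (fun h1 => hx (Subtype.ext h1)) ?_
      have h1 : (((x : G) * q.1.out : G) : G ⧸ D) = (q.1.out : G ⧸ D) := by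
        rw [QuotientGroup.out_eq']
        refine Eq.trans ?_ (congrArg Subtype.val hxq)
        show _ = (x : G) • q.1
        conv_rhs => rw [← q.1.out_eq]
        rfl
      simpa [mul_assoc] using QuotientGroup.eq.1 h1.symm)
    (fun q => T q.1.out) (fun x q => hsmul x q.1)
  refine ⟨Q * A * Q, fun {iD} => ?_⟩
  have e1 : c • (Q * Q) = ∑ q : G ⧸ D, Q * T q.out * Q := by
    rw [← Finset.sum_mul, ← Finset.mul_sum, hc, mul_smul_comm, mul_one, smul_mul_assoc]
  rw [e1, ← Finset.sum_filter_not_add_sum_filter univ (fun q => q.out ∉ N)]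
  congr 1
  · -- cosets in `N`
    rw [← Finset.sum_filter_add_sum_filter_not _ (fun q : G ⧸ D => q.out ∈ H),
      show ∀ s t : Finset (G ⧸ D), ∑ q ∈ s, Q * T q.out * Q + ∑ q ∈ t, Q * T q.out * Q =
        ∑ q ∈ t, Q * T q.out * Q + ∑ q ∈ s, Q * T q.out * Q from fun s t => add_comm _ _,
      Finset.sum_eq_zero fun q hq => ?_, zero_add]
    · rw [← hQΦ, ← hsum, Finset.mul_sum, Finset.sum_mul]
      refine (Finset.sum_bij (fun q _ => ((q.out : H) : G ⧸ D)) (fun q _ => ?_) ?_ ?_ fun q _ => ?_).symm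
      · simp only [mem_filter, mem_univ, true_and, not_not]
        obtain ⟨d, hd⟩ := QuotientGroup.mk_out_eq_mul D ((q.out : H) : G)
        rw [hd]
        exact ⟨mul_mem (hDN q.out.2) (hDN (hDH d.2)), mul_mem q.out.2 (hDH d.2)⟩
      · intro a _ b _ hab
        rw [← a.out_eq, ← b.out_eq]
        refine QuotientGroup.eq.2 (Subgroup.mem_subgroupOf.2 ?_)
        simpa using QuotientGroup.eq.1 hab
      · intro b hb
        simp only [mem_filter, mem_univ, true_and, not_not] at hb
        refine ⟨((⟨b.out, hb.2⟩ : H) : H ⧸ D.subgroupOf H), mem_univ _, ?_⟩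
        obtain ⟨d, hd⟩ := QuotientGroup.mk_out_eq_mul (D.subgroupOf H) (⟨b.out, hb.2⟩ : H)
        rw [hd]
        conv_rhs => rw [← b.out_eq]
        refine QuotientGroup.eq.2 ?_
        have hd2 : ((d : H) : G) ∈ D := d.2
        simpa using inv_mem hd2
      · rw [hTmk]
    · simp only [mem_filter, mem_univ, true_and, not_not] at hq
      show Q * (π q.out * h * π q.out⁻¹) * Q = 0
      calc Q * (π q.out * h * π q.out⁻¹) * Q = Q * π q.out * h * π q.out⁻¹ * Q := by
            simp only [mul_assoc]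
        _ = Q * π q.out * (Q * h) * π q.out⁻¹ * Q := by rw [hQh]
        _ = Q * π q.out * Q * h * π q.out⁻¹ * Q := by simp only [mul_assoc]
        _ = 0 := by rw [horth _ hq.1 hq.2]; simp
  · -- free orbits
    rw [← Finset.sum_mul, ← Finset.mul_sum,
      Finset.sum_subtype (p := fun q : G ⧸ D => q.out ∉ N) _ (by simp), hA, Finset.mul_sum,
      Finset.sum_mul]
    refine Finset.sum_congr rfl fun x _ => ?_
    calc Q * (π (x : G) * A * π (x : G)⁻¹) * Q
        = (Q * π (x : G)) * A * (π (x : G)⁻¹ * Q) := by simp only [mul_assoc]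
      _ = (π (x : G) * Q) * A * (Q * π (x : G)⁻¹) := by
          rw [hQD _ x.2, hQD _ (inv_mem x.2)]
      _ = _ := by simp only [mul_assoc]

end H85.Cyc
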