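import Cfsg.Agent.H85.Cyclic.Lower
import Cfsg.Agent.H85.Cyclic.Mackey

/-!
Cyclic defect (helper85): a simple module sees one extension; the inertial index is at most the
rank.
-/

set_option autoImplicit false
set_option linter.unusedSectionVars false
set_option linter.style.haveILetI false

open Cfsg Finset
open scoped MonoidAlgebra

namespace H85.Cyc

universe u v w

section General

variable {k : Type v} [Field k] [IsAlgClosed k] {C : Type u} [Group C] [Finite C] {H : Type u}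
  [Group H] {U : Type w} [AddCommGroup U] [Module k U] {W : Type w} [AddCommGroup W] [Module k W]
  [FiniteDimensional k W]

/-- Conjugation by `h` moves an element along an endomorphism of `C`. -/
theorem conj_asAlgebraHom (π : Representation k H U) (ι : C →* H) (h : H) (α : C ≃* C)
    (hα : ∀ c, ι (α c) = h * ι c * h⁻¹) (a : k[C]) :
    Representation.asAlgebraHom (π.comp ι) (MonoidAlgebra.domCongr k k α a) * π h =
      π h * Representation.asAlgebraHom (π.comp ι) a := by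
  induction a using MonoidAlgebra.induction_on with
  | of g =>
    rw [show MonoidAlgebra.domCongr k k α (MonoidAlgebra.of k C g) = MonoidAlgebra.of k C (α g) by
      simp, Representation.asAlgebraHom_of, Representation.asAlgebraHom_of]
    show π (ι (α g)) * π h = π h * π (ι g)
    rw [← map_mul, ← map_mul, hα, inv_mul_cancel_right]
  | add a b ha hb => rw [map_add, map_add, map_add, add_mul, mul_add, ha, hb]
  | smul r a ha => rw [map_smul, map_smul, map_smul, smul_mul_assoc, mul_smul_comm, ha]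

/-- The kernels of the powers of `X` are invariant under `H`. -/
theorem Basic.mem_ker_pow {f : k[C]} {q : ℕ} {X ε : k[C]} (hX : Basic f q X ε)
    (π : Representation k H U) (ι : C →* H) (h : H) (α : C ≃* C)
    (hα : ∀ c, ι (α c) = h⁻¹ * ι c * h) (hαf : MonoidAlgebra.domCongr k k α f = f) (n : ℕ) {v : U}
    (hv : Representation.asAlgebraHom (π.comp ι) (X ^ n) v = 0) :
    Representation.asAlgebraHom (π.comp ι) (X ^ n) (π h v) = 0 := by
  let φ := MonoidAlgebra.domCongr k k α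
  obtain ⟨y, hy, hz⟩ := hX.exists_eq_mul (z := φ X) (fun a => by
      obtain ⟨b, rfl⟩ := φ.surjective a
      rw [← map_mul, ← map_mul, hX.central])
    ⟨q, by rw [← map_pow, hX.pow_eq_zero, map_zero]⟩
    (by
      conv_lhs => rw [← hαf, ← map_mul, hX.mul_f])
  have h1 := LinearMap.congr_fun
    (conj_asAlgebraHom π ι h⁻¹ α (fun c => by rw [hα, inv_inv]) (X ^ n)) (π h v)
  rw [Module.End.mul_apply, Module.End.mul_apply] at h1
  have h2 : π h⁻¹ (π h v) = v := by
    rw [← Module.End.mul_apply, ← map_mul, inv_mul_cancel, map_one, Module.End.one_apply]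
  rw [h2, map_pow, show MonoidAlgebra.domCongr k k α X = X * y from hz,
    (show Commute X y from hy X).mul_pow, ((show Commute X y from hy X).pow_pow n n).eq, map_mul,
    Module.End.mul_apply, hv, map_zero] at h1
  have h3 := congrArg (π h) h1
  rw [map_zero, ← Module.End.mul_apply, ← map_mul, mul_inv_cancel, map_one,
    Module.End.one_apply] at h3
  exact h3.symm

open Classical in
/-- An equivariant endomorphism fixing one simple quotient and killing another. -/
theorem Basic.exists_equivariant [Fintype H] {f : k[C]} {q : ℕ} {X ε : k[C]}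
    (hX : Basic f q X ε) (π : Representation k H U) (ι : C →* H) (C' : Subgroup H)
    (hC' : ∀ h : H, h ∈ C' ↔ ∃ c, ι c = h) (hidx : (C'.index : k) ≠ 0)
    (hαex : ∀ h : H, ∃ α : C ≃* C, (∀ c, ι (α c) = h⁻¹ * ι c * h) ∧
      MonoidAlgebra.domCongr k k α f = f)
    (hπ : Representation.asAlgebraHom (π.comp ι) f = 1)
    {W' : Type w} [AddCommGroup W'] [Module k W'] [FiniteDimensional k W']
    (σ : Representation k H W) (τ : Representation k H W')
    (hσ : Representation.IsIrreducible (σ.comp ι)) (hτ : Representation.IsIrreducible (τ.comp ι))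
    (hne : ∀ T : W' →ₗ[k] W, (∀ h w, T (τ h w) = σ h (T w)) → T = 0)
    (fi : U →ₗ[k] W) (hfi : ∀ h u, fi (π h u) = σ h (fi u)) (hfi0 : fi ≠ 0)
    (fj : U →ₗ[k] W') (hfj : ∀ h u, fj (π h u) = τ h (fj u)) :
    ∃ Φ : Module.End k U, (∀ h, Φ * π h = π h * Φ) ∧ fi ∘ₗ Φ = fi ∧ fj ∘ₗ Φ = 0 := by
  haveI := hσ
  haveI := hτ
  have hexn : ∀ {Y : Type w} [AddCommGroup Y] [Module k Y] (g : U →ₗ[k] Y), g ≠ 0 →
      ∃ n, ∃ v, Representation.asAlgebraHom (π.comp ι) (X ^ n) v = 0 ∧ g v ≠ 0 := by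
    intro Y _ _ g hg
    obtain ⟨v, hv⟩ : ∃ v, g v ≠ 0 := by
      by_contra hcon
      push Not at hcon
      exact hg (LinearMap.ext hcon)
    exact ⟨q, v, by rw [hX.pow_eq_zero, map_zero, LinearMap.zero_apply], hv⟩
  -- one direction
  have main : ∀ {Y Z : Type w} [AddCommGroup Y] [Module k Y] [FiniteDimensional k Y]
      [AddCommGroup Z] [Module k Z] [FiniteDimensional k Z] (a : Representation k H Y)
      (b : Representation k H Z), Representation.IsIrreducible (a.comp ι) →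
      Representation.IsIrreducible (b.comp ι) →
      (∀ T : Z →ₗ[k] Y, (∀ h w, T (b h w) = a h (T w)) → T = 0) →
      ∀ (ga : U →ₗ[k] Y) (gb : U →ₗ[k] Z), (∀ h u, ga (π h u) = a h (ga u)) →
      (∀ h u, gb (π h u) = b h (gb u)) → ∀ n,
      (∃ v, Representation.asAlgebraHom (π.comp ι) (X ^ n) v = 0 ∧ ga v ≠ 0) →
      (∀ v, Representation.asAlgebraHom (π.comp ι) (X ^ (n - 1)) v = 0 → ga v = 0) →
      ∃ Φ : Module.End k U, (∀ h, Φ * π h = π h * Φ) ∧ ga ∘ₗ Φ = ga ∧ gb ∘ₗ Φ = 0 := by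
    intro Y Z _ _ _ _ _ _ a b hairr hbirr hab ga gb hga hgb n hex hmin
    haveI := hairr
    haveI := hbirr
    set F := LinearMap.ker (Representation.asAlgebraHom (π.comp ι) (X ^ n)) with hF
    have hFinv : ∀ (h : H) (v : U), v ∈ F → π h v ∈ F := fun h v hv => by
      obtain ⟨α, hα, hαf⟩ := hαex h
      exact LinearMap.mem_ker.2 (hX.mem_ker_pow π ι h α hα hαf n (LinearMap.mem_ker.1 hv))
    have hgood : ∃ v, Representation.asAlgebraHom (π.comp ι) (X ^ n) v = 0 ∧ ga v ≠ 0 ∧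
        gb v = 0 := by
      by_contra hcon
      push Not at hcon
      obtain ⟨v₀, hv₀, hv₀a⟩ := hex
      let gaF := ga ∘ₗ F.subtype
      let gbF := gb ∘ₗ F.subtype
      have hker : LinearMap.ker gbF ≤ LinearMap.ker gaF := fun v hv => by
        by_contra h
        exact hcon v.1 (LinearMap.mem_ker.1 v.2) h hv
      have hsurj : Function.Surjective gbF := by
        rcases eq_bot_or_top (b.comp ι) (LinearMap.range gbF) (fun c y hy => by
          obtain ⟨v, rfl⟩ := hy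
          exact ⟨⟨π (ι c) v.1, hFinv _ _ v.2⟩, hgb (ι c) v.1⟩) with h | h
        · exfalso
          refine hcon v₀ hv₀ hv₀a ?_
          exact LinearMap.congr_fun (LinearMap.range_eq_bot.1 h) ⟨v₀, hv₀⟩
        · exact LinearMap.range_eq_top.1 h
      obtain ⟨S, hS⟩ := LinearMap.exists_rightInverse_of_surjective gbF
        (LinearMap.range_eq_top.2 hsurj)
      have hgS : ∀ z, gbF (S z) = z := fun z => LinearMap.congr_fun hS z
      have hT : ∀ v : F, (gaF ∘ₗ S) (gbF v) = gaF v := fun v => by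
        have h := hker (show S (gbF v) - v ∈ LinearMap.ker gbF by
          rw [LinearMap.mem_ker, map_sub, hgS, sub_self])
        rw [LinearMap.mem_ker, map_sub, sub_eq_zero] at h
        exact h
      have hT0 := hab (gaF ∘ₗ S) fun h z => by
        obtain ⟨v, rfl⟩ := hsurj z
        rw [hT, show b h (gbF v) = gbF ⟨π h v.1, hFinv _ _ v.2⟩ from (hgb h v.1).symm, hT]
        exact hga h v.1
      apply hv₀a
      have := hT ⟨v₀, hv₀⟩
      rw [hT0] at this
      exact this.symm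
    obtain ⟨φ, hφ, hφa, hφb⟩ := hX.exists_endo (π.comp ι) hπ (a.comp ι) (b.comp ι) ga
      (fun c u => hga (ι c) u) gb (fun c u => hgb (ι c) u) n hgood hmin
    obtain ⟨Φ, hΦ, hΦf⟩ := exists_avg π C' hidx (φ := φ) fun c hc => by
      obtain ⟨c', rfl⟩ := (hC' c).1 hc
      exact hφ c'
    exact ⟨Φ, hΦ, (hΦf a ga hga).1 hφa, (hΦf b gb hgb).2 hφb⟩
  let ni := Nat.find (hexn fi hfi0)
  have hmini : ∀ v, Representation.asAlgebraHom (π.comp ι) (X ^ (ni - 1)) v = 0 → fi v = 0 := by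
    intro v hv
    by_contra h
    rcases Nat.eq_zero_or_pos ni with h0 | h0
    · obtain ⟨u, hu, hu'⟩ := Nat.find_spec (hexn fi hfi0)
      rw [show Nat.find (hexn fi hfi0) = 0 from h0, pow_zero, map_one, Module.End.one_apply] at hu
      exact hu' (by rw [hu, map_zero])
    · exact Nat.find_min (hexn fi hfi0) (show ni - 1 < ni by omega) ⟨v, hv, h⟩
  exact main σ τ hσ hτ hne fi fj hfi hfj ni (Nat.find_spec (hexn fi hfi0)) hmini

end General

end H85.Cyc

namespace H85.Cyc.Setup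

universe u

variable {M : Ideal AlgInt} [hMp : M.IsPrime] {G : Type u} [Group G] [Fintype G] {p : ℕ}
  [hp : Fact p.Prime] [CharP (H20.k M) p] [IsAlgClosed (H20.k M)] (S : Setup M G p)
  {W : Type u} [AddCommGroup W] [Module (H20.k M) W] [FiniteDimensional (H20.k M) W]

theorem single_conj {k : Type*} [Field k] {A : Type*} [Group A] (x : A) (a : k[A]) :
    MonoidAlgebra.single x 1 * a * MonoidAlgebra.single x⁻¹ 1 = H23.cj x a := by
  rw [single_mul_cj, mul_assoc, MonoidAlgebra.single_mul_single, mul_inv_cancel, one_mul,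
    ← MonoidAlgebra.one_def, mul_one]

theorem exists_aut (h : S.H1) : ∃ α : S.C1 ≃* S.C1,
    (∀ c, Subgroup.inclusion S.C1_le_H1 (α c) = h⁻¹ * Subgroup.inclusion S.C1_le_H1 c * h) ∧
      MonoidAlgebra.domCongr (H20.k M) (H20.k M) α (H23.res S.C1 S.f1) = H23.res S.C1 S.f1 := by
  let α := H23.cjEquiv (S.cjS_C1 (H23.mem_stab.1 (h⁻¹).2).1)
  have hα : ∀ c : S.C1, ((α c : S.C1) : G) = (h : G)⁻¹ * (c : G) * (h : G) := fun c => by
    rw [H23.coe_cjEquiv, Subgroup.coe_inv, inv_inv]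
  refine ⟨α, fun c => Subtype.ext (hα c), ?_⟩
  ext y
  obtain ⟨x, rfl⟩ := α.surjective y
  refine Eq.trans (Finsupp.mapDomain_apply α.injective _ x) ?_
  show (H23.res S.C1 S.f1).coeff x = (H23.res S.C1 S.f1).coeff (α x)
  rw [H23.coeff_res, H23.coeff_res, hα]
  have hfix := S.cidem.fix (h : G)⁻¹ (inv_mem h.2) (x : G)
  rw [inv_inv] at hfix
  exact hfix.symm

theorem index_eq : (Subgroup.inclusion S.C1_le_H1).range.index = S.e := by
  obtain ⟨t, ht, hteC, hgen, hdvd⟩ := S.exists_gen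
  haveI hN : (Subgroup.inclusion S.C1_le_H1).range.Normal := by
    refine ⟨fun c hc g => ?_⟩
    obtain ⟨c', rfl⟩ := hc
    obtain ⟨α, hα, -⟩ := S.exists_aut g⁻¹
    exact ⟨α c', by rw [hα, inv_inv]⟩
  let t' : S.H1 ⧸ (Subgroup.inclusion S.C1_le_H1).range :=
    ((⟨t, S.T_le_H1 ht⟩ : S.H1) : S.H1 ⧸ _)
  have hall : ∀ x, x ∈ Subgroup.zpowers t' := by
    intro x
    obtain ⟨h, rfl⟩ := QuotientGroup.mk_surjective x
    obtain ⟨i, c, hc, hi⟩ := hgen h h.2
    refine ⟨(i : ℤ), ?_⟩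
    show t' ^ (i : ℤ) = _
    rw [zpow_natCast, ← QuotientGroup.mk_pow]
    have hh : h = Subgroup.inclusion S.C1_le_H1 ⟨c, hc⟩ * (⟨t, S.T_le_H1 ht⟩ : S.H1) ^ i :=
      Subtype.ext hi
    have h1 : ((Subgroup.inclusion S.C1_le_H1 ⟨c, hc⟩ : S.H1) :
        S.H1 ⧸ (Subgroup.inclusion S.C1_le_H1).range) = 1 :=
      (QuotientGroup.eq_one_iff _).2 (MonoidHom.mem_range.2 ⟨_, rfl⟩)
    rw [hh, QuotientGroup.mk_mul, h1, one_mul]
  show Nat.card (S.H1 ⧸ (Subgroup.inclusion S.C1_le_H1).range) = S.e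
  rw [← orderOf_eq_card_of_forall_mem_zpowers hall]
  obtain ⟨hte, hge⟩ : t' ^ S.e = 1 ∧ ∀ i : ℕ, t' ^ i = 1 → S.e ∣ i := by
    constructor
    · rw [← QuotientGroup.mk_pow, QuotientGroup.eq_one_iff]
      have h1 : t ^ S.e ∈ S.C1 := hteC
      exact ⟨⟨_, h1⟩, Subtype.ext rfl⟩
    · intro i hi
      rw [← QuotientGroup.mk_pow, QuotientGroup.eq_one_iff] at hi
      obtain ⟨c, hc⟩ := hi
      refine hdvd i ?_
      have := congrArg Subtype.val hc
      rw [Subgroup.coe_inclusion] at this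
      simp only [SubgroupClass.coe_pow] at this
      exact this ▸ c.2
  exact Nat.dvd_antisymm (orderOf_dvd_of_pow_eq_one hte) (hge _ (pow_orderOf_eq_one t'))

theorem e_ne_zero : (S.e : H20.k M) ≠ 0 := by
  rw [Ne, CharP.cast_eq_zero_iff (H20.k M) p]
  exact S.p_ne_dvd_e

end H85.Cyc.Setup

namespace H85.Cyc

universe u v

open Classical in
/-- The upgrade of a trace over `D`, seen inside `H`. -/
theorem neg_of_negOn {k : Type v} [Field k] {p : ℕ} [Fact p.Prime] [CharP k p] {G : Type u}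
    [Group G] [Fintype G] {H D : Subgroup G} {f : k[G]} (hDH : D ≤ H) (hsupp : H23.Supp H f)
    (hfix : H23.IsFix H f) (hdef : H23.DefLE p H D f) {U W : Type u} [AddCommGroup U] [Module k U]
    [AddCommGroup W] [Module k W] (π : Representation k H U) (σ : Representation k H W)
    (hσ : σ.asAlgebraHom (H23.res H f) = 1) {φ : U →ₗ[k] W}
    (hφ : ∀ g u, φ (π g u) = σ g (φ u)) (h : NegOn π σ (D.subgroupOf H) φ) : Neg π σ φ := by
  obtain ⟨z, hzs, hzf, hz⟩ := exists_trace (p := p) hDH hsupp hfix hdef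
  have hres : ∀ x : H, MonoidAlgebra.single x 1 * H23.res H z * MonoidAlgebra.single x⁻¹ 1 =
      H23.res H (H23.cj (x : G) z) := fun x => by
    rw [Setup.single_conj]
    ext y
    simp [H23.coeff_res]
  refine h.upgrade π σ (D.subgroupOf H) (f := H23.res H f) (z := H23.res H z) (fun x hx => ?_) ?_
    hσ hφ
  · have h1 := hres x
    rw [H23.isFix_iff_cj.1 hzf (x : G) hx] at h1
    calc MonoidAlgebra.single x 1 * H23.res H z
        = MonoidAlgebra.single x 1 * H23.res H z *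
            (MonoidAlgebra.single x⁻¹ 1 * MonoidAlgebra.single x 1) := by
          rw [MonoidAlgebra.single_mul_single, inv_mul_cancel, one_mul, ← MonoidAlgebra.one_def,
            mul_one]
      _ = _ := by rw [← mul_assoc, h1]
  · rw [Finset.sum_congr rfl fun q _ => hres q.out, ← map_sum, hz]

/-- The values of a relative trace. -/
theorem trace_apply {k : Type v} [Field k] {G : Type u} [Group G] [Fintype G] {H D : Subgroup G}
    [Fintype (H ⧸ D.subgroupOf H)] {f z : k[G]}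
    (hz : ∑ q : H ⧸ D.subgroupOf H, H23.cj (q.out : G) z = f) {V : Type u} [AddCommGroup V]
    [Module k V] (π : Representation k G V) (Φ : Module.End k V)
    (hΦ : ∀ x ∈ H, Φ * π x = π x * Φ) :
    ∑ q : H ⧸ D.subgroupOf H, π (q.out : G) * (π.asAlgebraHom z * Φ) * π (q.out : G)⁻¹ =
      π.asAlgebraHom f * Φ := by
  rw [← hz, map_sum, Finset.sum_mul]
  refine Finset.sum_congr rfl fun q _ => ?_
  rw [cj_eq_conj]
  simp only [mul_assoc]
  rw [hΦ _ (inv_mem q.out.2)]

namespace Setup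

variable {M : Ideal AlgInt} [hMp : M.IsPrime] {G : Type u} [Group G] [Fintype G] {p : ℕ}
  [hp : Fact p.Prime] [CharP (H20.k M) p] [IsAlgClosed (H20.k M)] (S : Setup M G p)
  {W : Type u} [AddCommGroup W] [Module (H20.k M) W] [FiniteDimensional (H20.k M) W]

/-- The action of the block of the pair, inside a representation of the group. -/
theorem asAlgebraHom_f1 {V : Type u} [AddCommGroup V] [Module (H20.k M) V]
    (π : Representation (H20.k M) G V) :
    Representation.asAlgebraHom (π.comp S.H1.subtype) (H23.res S.H1 S.f1) = π.asAlgebraHom S.f1 := by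
  rw [comp_asAlgebraHom]
  exact congrArg π.asAlgebraHom (H23.emb_res S.cidem.supp)

open Classical in
/-- A simple module maps non-negligibly to one extension at most. -/
theorem no_two {V : Type u} [AddCommGroup V] [Module (H20.k M) V] [FiniteDimensional (H20.k M) V]
    (π : Representation (H20.k M) G V) [π.IsIrreducible]
    (ρ₁ ρ₂ : Representation (H20.k M) S.H1 W)
    (h1irr : Representation.IsIrreducible (ρ₁.comp (Subgroup.inclusion S.C1_le_H1)))
    (h2irr : Representation.IsIrreducible (ρ₂.comp (Subgroup.inclusion S.C1_le_H1)))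
    (hf1 : ρ₁.asAlgebraHom (H23.res S.H1 S.f1) = 1) (hf2 : ρ₂.asAlgebraHom (H23.res S.H1 S.f1) = 1)
    (hne : ∀ T : W →ₗ[H20.k M] W, (∀ h w, T (ρ₂ h w) = ρ₁ h (T w)) → T = 0)
    (ψ₁ : V →ₗ[H20.k M] W) (hψ₁ : ∀ h v, ψ₁ (π (S.H1.subtype h) v) = ρ₁ h (ψ₁ v))
    (hn1 : ¬ Neg (π.comp S.H1.subtype) ρ₁ ψ₁)
    (ψ₂ : V →ₗ[H20.k M] W) (hψ₂ : ∀ h v, ψ₂ (π (S.H1.subtype h) v) = ρ₂ h (ψ₂ v))
    (hn2 : ¬ Neg (π.comp S.H1.subtype) ρ₂ ψ₂) : False := by
  obtain ⟨q, X, ε, hX⟩ := S.exists_basic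
  obtain ⟨Q, hQ⟩ : ∃ Q, Q = π.asAlgebraHom S.f1 := ⟨_, rfl⟩
  have hQQ : Q * Q = Q := by rw [hQ, ← map_mul, S.cidem.idem]
  have hQH : ∀ x ∈ S.H1, Q * π x = π x * Q := fun x hx => by
    rw [hQ, ← Representation.asAlgebraHom_single_one, ← map_mul, ← map_mul, single_mul_cj,
      H23.isFix_iff_cj.1 S.cidem.fix x hx]
  have hψQ : ∀ (ρ : Representation (H20.k M) S.H1 W) (ψ : V →ₗ[H20.k M] W),
      (∀ h v, ψ (π (S.H1.subtype h) v) = ρ h (ψ v)) → ρ.asAlgebraHom (H23.res S.H1 S.f1) = 1 →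
      ∀ v, ψ (Q v) = ψ v := fun ρ ψ hψ hf v => by
    rw [hQ, ← S.asAlgebraHom_f1, hom_asAlgebraHom ρ (π.comp S.H1.subtype) hψ, hf,
      Module.End.one_apply]
  -- the module `f1 V`
  obtain ⟨U, hU⟩ : ∃ U, U = LinearMap.range Q := ⟨_, rfl⟩
  have hUinv : ∀ h : S.H1, ∀ u ∈ U, (π.comp S.H1.subtype) h u ∈ U := fun h u hu => by
    rw [hU] at hu ⊢
    obtain ⟨v, rfl⟩ := hu
    exact ⟨π h v, LinearMap.congr_fun (hQH h h.2) v⟩
  have hQU : ∀ u ∈ U, Q u = u := fun u hu => by
    rw [hU] at hu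
    obtain ⟨v, rfl⟩ := hu
    rw [← Module.End.mul_apply, hQQ]
  let πU := subR (π.comp S.H1.subtype) U hUinv
  have hπU : Representation.asAlgebraHom (πU.comp (Subgroup.inclusion S.C1_le_H1))
      (H23.res S.C1 S.f1) = 1 := by
    rw [comp_asAlgebraHom, ← S.res_H1_eq]
    refine LinearMap.ext fun u => Subtype.ext ?_
    rw [coe_subR, S.asAlgebraHom_f1, ← hQ, hQU u u.2]
    rfl
  have hfi0 : ψ₁ ∘ₗ U.subtype ≠ 0 := by
    intro h0
    refine hn1 ⟨0, fun v => ?_⟩
    rw [← hψQ ρ₁ ψ₁ hψ₁ hf1 v,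
      show ψ₁ (Q v) = 0 from LinearMap.congr_fun h0 ⟨Q v, by rw [hU]; exact ⟨v, rfl⟩⟩]
    simp
  obtain ⟨Φ₀, hΦ₀, hΦ1, hΦ2⟩ := hX.exists_equivariant πU (Subgroup.inclusion S.C1_le_H1)
    (Subgroup.inclusion S.C1_le_H1).range (fun h => Iff.rfl) (by rw [S.index_eq]; exact S.e_ne_zero)
    S.exists_aut hπU ρ₁ ρ₂ h1irr h2irr hne (ψ₁ ∘ₗ U.subtype) (fun h u => hψ₁ h u) hfi0
    (ψ₂ ∘ₗ U.subtype) (fun h u => hψ₂ h u)
  obtain ⟨Φ, hΦ⟩ : ∃ Φ : Module.End (H20.k M) V,
      Φ = U.subtype ∘ₗ Φ₀ ∘ₗ Q.codRestrict U (fun v => by rw [hU]; exact ⟨v, rfl⟩) := ⟨_, rfl⟩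
  have hΦapp : ∀ v, Φ v = ((Φ₀ ⟨Q v, by rw [hU]; exact ⟨v, rfl⟩⟩ : U) : V) := fun v => by
    rw [hΦ]; rfl
  have hΦH : ∀ x ∈ S.H1, Φ * π x = π x * Φ := fun x hx => LinearMap.ext fun v => by
    have h := congrArg Subtype.val (LinearMap.congr_fun (hΦ₀ ⟨x, hx⟩)
      ⟨Q v, by rw [hU]; exact ⟨v, rfl⟩⟩)
    rw [Module.End.mul_apply, Module.End.mul_apply, hΦapp, hΦapp]
    refine Eq.trans ?_ h
    rw [Module.End.mul_apply]
    congr 2
    exact Subtype.ext (LinearMap.congr_fun (hQH x hx) v)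
  have hQΦ : Q * Φ = Φ := LinearMap.ext fun v => by
    rw [Module.End.mul_apply, hΦapp, hQU _ (Subtype.prop _)]
  have hΦQ : Φ * Q = Φ := LinearMap.ext fun v => by
    rw [Module.End.mul_apply, hΦapp, hΦapp]
    congr 2
    exact Subtype.ext (LinearMap.congr_fun hQQ v)
  have hv1 : ∀ v, ψ₁ (Φ v) = ψ₁ v := fun v => by
    rw [hΦapp]
    exact (LinearMap.congr_fun hΦ1 _).trans (hψQ ρ₁ ψ₁ hψ₁ hf1 v)
  have hv2 : ∀ v, ψ₂ (Φ v) = 0 := fun v => by
    rw [hΦapp]
    exact LinearMap.congr_fun hΦ2 _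
  -- the relative trace
  obtain ⟨z, hzs, hzf, hz⟩ := exists_trace (p := p) S.D_le_H1 S.cidem.supp S.cidem.fix S.defLE
  obtain ⟨c, A, hA⟩ := mackey_scalar π S.H1 S.D (Subgroup.normalizer (S.D1 : Set G)) S.D_le_H1
    (fun x hx => (H23.mem_stab.1 hx).1) Q Φ (π.asAlgebraHom z * Φ)
    (fun d hd => hQH d (S.D_le_H1 hd)) hQH
    (by
      rw [← mul_assoc, hQ, ← map_mul, H23.CIdem.comm S.cidem.fix S.cidem.supp hzs, map_mul,
        mul_assoc, ← hQ, hQΦ])
    (fun d hd => by
      rw [mul_assoc, hΦH d (S.D_le_H1 hd), ← mul_assoc, ← mul_assoc,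
        ← Representation.asAlgebraHom_single_one, ← map_mul, ← map_mul, single_mul_cj,
        H23.isFix_iff_cj.1 hzf d hd])
    (by rw [trace_apply hz π Φ hΦH, ← hQ, hQΦ]) (by rw [hQΦ, hΦQ])
    (fun x hx hx1 => by
      rw [hQ, ← Representation.asAlgebraHom_single_one, ← map_mul, ← map_mul,
        mul_assoc, single_mul_cj, ← mul_assoc, S.mul_cj_eq_zero hx hx1, zero_mul, map_zero])
    (fun x hx d hd hd1 hmem => hx (by
      have hle : ∀ a ∈ S.D1, x⁻¹ * a * x ∈ S.D1 := by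
        intro a ha
        obtain ⟨i, rfl⟩ := Subgroup.mem_zpowers_iff.1 (S.D1_le_zpowers hd hd1 ha)
        have hmemD : x⁻¹ * d ^ i * x ∈ S.D := by
          have := zpow_mem hmem i
          rwa [show (x⁻¹ * d * x) ^ i = x⁻¹ * d ^ i * x by
            simpa using (conj_zpow (a := x⁻¹) (b := d) (i := i))] at this
        have himg : (H23.cjS x⁻¹ S.D1) ≤ S.D := by
          rintro _ ⟨b, hb, rfl⟩
          obtain ⟨j, rfl⟩ := Subgroup.mem_zpowers_iff.1 (S.D1_le_zpowers hd hd1 hb)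
          have := zpow_mem hmem j
          rwa [show (x⁻¹ * d * x) ^ j = (MulAut.conj x⁻¹).toMonoidHom (d ^ j) by
            simpa using (conj_zpow (a := x⁻¹) (b := d) (i := j))] at this
        have heq := H19.CyclicLocal.eq_of_card_eq S.hcyc himg S.hD1 (by rw [H23.card_cjS])
        rw [← heq]
        exact H23.mem_cjS.2 (by simpa [mul_assoc] using ha)
      refine H23.mem_normalizer_of_cjS_eq ?_
      have h1 : S.D1 ≤ H23.cjS x S.D1 := fun a ha => H23.mem_cjS.2 (hle a ha)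
      exact (Subgroup.eq_of_le_of_card_ge h1 (by rw [H23.card_cjS])).symm))
  haveI := Fintype.ofFinite S.D
  have hA' := hA
  rw [hQQ] at hA'
  -- both maps against the scalar
  have key : ∀ (ρ : Representation (H20.k M) S.H1 W) (ψ : V →ₗ[H20.k M] W),
      (∀ h v, ψ (π (S.H1.subtype h) v) = ρ h (ψ v)) → ρ.asAlgebraHom (H23.res S.H1 S.f1) = 1 →
      NegOn (π.comp S.H1.subtype) ρ (S.D.subgroupOf S.H1) (c • ψ - ψ ∘ₗ Φ) := by
    intro ρ ψ hψ hf
    refine ⟨ψ ∘ₗ A, fun {_} u => ?_⟩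
    have h := congrArg ψ (LinearMap.congr_fun hA' u)
    rw [LinearMap.smul_apply, map_smul, hψQ ρ ψ hψ hf, LinearMap.add_apply, map_add,
      LinearMap.sum_apply, map_sum] at h
    rw [LinearMap.sub_apply, LinearMap.smul_apply, LinearMap.comp_apply, h, add_sub_cancel_left]
    refine Fintype.sum_equiv (Subgroup.subgroupOfEquivOfLe S.D_le_H1).symm.toEquiv _ _ fun x => ?_
    rw [Module.End.mul_apply, Module.End.mul_apply,
      show π (x : G) = π (S.H1.subtype ((Subgroup.subgroupOfEquivOfLe S.D_le_H1).symm x : S.H1)) from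
        rfl, hψ]
    rfl
  have up : ∀ (ρ : Representation (H20.k M) S.H1 W) (ψ : V →ₗ[H20.k M] W),
      (∀ h v, ψ (π (S.H1.subtype h) v) = ρ h (ψ v)) → ρ.asAlgebraHom (H23.res S.H1 S.f1) = 1 →
      Neg (π.comp S.H1.subtype) ρ (c • ψ - ψ ∘ₗ Φ) := by
    intro ρ ψ hψ hf
    refine neg_of_negOn (p := p) S.D_le_H1 S.cidem.supp S.cidem.fix S.defLE _ ρ hf (fun g u => ?_)
      (key ρ ψ hψ hf)
    simp only [LinearMap.sub_apply, LinearMap.smul_apply, LinearMap.comp_apply, map_sub, map_smul]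
    congr 1
    · rw [← hψ]
      rfl
    · rw [← hψ]
      exact congrArg ψ (LinearMap.congr_fun (hΦH (g : G) g.2) u)
  by_cases hc : c = 0
  · apply hn1
    have h := (up ρ₁ ψ₁ hψ₁ hf1).smul _ _ (-1 : H20.k M)
    rwa [show (-1 : H20.k M) • (c • ψ₁ - ψ₁ ∘ₗ Φ) = ψ₁ from LinearMap.ext fun v => by
      simp [hc, hv1]] at h
  · apply hn2
    have h := (up ρ₂ ψ₂ hψ₂ hf2).smul _ _ c⁻¹
    rwa [show c⁻¹ • (c • ψ₂ - ψ₂ ∘ₗ Φ) = ψ₂ from LinearMap.ext fun v => by
      simp [hv2, smul_smul, inv_mul_cancel₀ hc]] at h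

/-- The inertial index is at most the rank. -/
theorem index_le_blockRank : S.e ≤ blockRank p S.B := by
  classical
  obtain ⟨q, X, ε, hX⟩ := S.exists_basic
  haveI := Fintype.ofFinite S.C1
  obtain ⟨W, _, _, _, σ, hirr, hσ⟩ := exists_irr_of_idem (M := M) (G := S.C1) hX.fidem hX.fcentral
    (fun h0 => hX.ne_zero (by rw [← hX.eps_mul, h0, mul_zero]))
  haveI := hirr
  obtain ⟨t, ht, hteC, hgen, hdvd⟩ := S.exists_gen
  let tH : S.H1 := ⟨t, S.T_le_H1 ht⟩
  obtain ⟨α, hα, hαf⟩ := S.exists_aut tH⁻¹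
  simp only [inv_inv] at hα
  have hint : ∃ T : Module.End (H20.k M) W, T ≠ 0 ∧ ∀ c, T * σ c = σ (α c) * T := by
    let σ' : Representation (H20.k M) S.C1 W := σ.comp α.toMonoidHom
    haveI : Representation.IsIrreducible σ' :=
      isIrreducible_of σ' (exists_ne_zero σ) fun U hU =>
        eq_bot_or_top σ U fun c v hv => by
          have h : σ' (α.symm c) v ∈ U := hU (α.symm c) v hv
          rwa [show σ' (α.symm c) = σ c from congrArg σ (α.apply_symm_apply c)] at h
    have hσ' : Representation.asAlgebraHom σ' (H23.res S.C1 S.f1) = 1 := by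
      have e : MonoidAlgebra.mapDomainAlgHom (H20.k M) (H20.k M) α.toMonoidHom
          (H23.res S.C1 S.f1) = H23.res S.C1 S.f1 := hαf
      rw [comp_asAlgebraHom, e, hσ]
    obtain ⟨T, hT, hT0⟩ := hX.exists_hom σ' σ hσ' hσ
    exact ⟨T, hT0, fun c => LinearMap.ext (hT c)⟩
  obtain ⟨ρ, hρ, hρne⟩ := exists_extensions (Subgroup.inclusion S.C1_le_H1)
    (Subgroup.inclusion_injective S.C1_le_H1) tH α hα S.e S.e_ne_zero ⟨t ^ S.e, hteC⟩
    (Subtype.ext rfl) (fun h => by
      obtain ⟨i, c, hc, hi⟩ := hgen h h.2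
      exact ⟨i, ⟨c, hc⟩, Subtype.ext hi⟩)
    (fun i ⟨c, hc⟩ => hdvd i (by
      have h : t ^ i = (c : G) := congrArg Subtype.val hc
      rw [h]; exact c.2)) σ hint
  have hprops := fun j => S.ext_props σ hσ (ρ j) (hρ j)
  have hres : ∀ j, Representation.IsIrreducible ((ρ j).comp (Subgroup.inclusion S.C1_le_H1)) :=
    fun j => by
      rw [show (ρ j).comp (Subgroup.inclusion S.C1_le_H1) = σ from MonoidHom.ext (hρ j)]
      exact hirr
  choose V i1 i2 i3 π ψ hπirr hπf hψ hneg using fun j =>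
    S.exists_simple (ρ j) (exists_ne_zero σ) (hprops j).1 (hprops j).2.2
  haveI := hπirr
  have h := le_blockRank S.hM S.hB π hπf fun i j hij T hT => by
    by_contra hT0
    have hb := bijective_of_hom (π i) (π j) hT hT0
    refine S.no_two (π j) (ρ i) (ρ j) (hres i) (hres j) (hprops i).1 (hprops j).1 (hρne i j hij)
      (ψ i ∘ₗ T) (fun g v => by rw [LinearMap.comp_apply, hT, hψ]; rfl) (fun hn => hneg i ?_)
      (ψ j) (hψ j) (hneg j)
    let eT := LinearEquiv.ofBijective T hb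
    have h2 := hn.comp_right (U := V i) ((π i).comp S.H1.subtype) ((π j).comp S.H1.subtype) (ρ i)
      (ψ := eT.symm.toLinearMap) fun g v => eT.injective (by
        show eT (eT.symm (π i g v)) = T (π j g (eT.symm v))
        rw [hT, eT.apply_symm_apply]
        exact congrArg (π i g) (eT.apply_symm_apply v).symm)
    rwa [show (ψ i ∘ₗ T) ∘ₗ eT.symm.toLinearMap = ψ i from LinearMap.ext fun v => by
      exact congrArg (ψ i) (eT.apply_symm_apply v)] at h2
  rwa [Fintype.card_fin] at h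

end Setup

end H85.Cyc
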