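import Cfsg.Agent.H85.Cyclic.Perm

/-!
Cyclic defect (helper85): the orbits of the inertial group on the family of the local block: one
fixed member, the other orbits are regular.
-/

set_option autoImplicit false
set_option linter.unusedSectionVars false
set_option linter.style.haveILetI false

open Cfsg H11.Star
open scoped MonoidAlgebra ComplexConjugate

namespace H85.Cyc

universe u

variable {M : Ideal AlgInt} [hMp : M.IsPrime] {G : Type u} [Group G] [Fintype G] {p : ℕ}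
  [hp : Fact p.Prime] [CharP (H20.k M) p] [IsAlgClosed (H20.k M)]

namespace Setup

variable (S : Setup M G p)

/-- A function on the centraliser of the subgroup of order `p`, moved by `x`. -/
noncomputable def tw (Ψ : S.C1 → ℂ) (x : G) : S.C1 → ℂ :=
  fun c => extendByZero S.C1 Ψ (x * (c : G) * x⁻¹)

theorem tw_apply {x : G} (hx : x ∈ Subgroup.normalizer (S.D1 : Set G)) (Ψ : S.C1 → ℂ) (c : S.C1) :
    S.tw Ψ x c = Ψ (S.cjC hx c) := by
  rw [tw, ← S.coe_cjC hx, H12.extendByZero_coe]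

theorem cjD_bijective {t : G} (ht : t ∈ S.T) : Function.Bijective (S.cjD ht) := by
  refine Finite.injective_iff_bijective.1 fun x y h => ?_
  exact Subtype.ext ((S.cjC (S.T_le_H1 ht).1).injective (congrArg Subtype.val h))

theorem eq_one_of_cjD {t : G} (ht : t ∈ S.T) (htC : t ∉ S.C1) {x : S.D.subgroupOf S.C1}
    (hx : S.cjD ht x = x) : x = 1 := by
  by_contra h1
  refine htC (S.C_le_C1 (H19.CyclicLocal.free S.hB S.hcyc S.hmax t ht _
    (Subgroup.mem_subgroupOf.1 x.2) ?_ ?_))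
  · exact fun h => h1 (Subtype.ext (Subtype.ext h))
  · exact congrArg (fun z : S.D.subgroupOf S.C1 => ((z : S.C1) : G)) hx

/-- A linear character fixed by an element outside `C1` is trivial. -/
theorem eq_one_of_comp {t : G} (ht : t ∈ S.T) (htC : t ∉ S.C1)
    {l : S.D.subgroupOf S.C1 →* ℂˣ} (hl : l.comp (S.cjD ht) = l) : l = 1 := by
  have hc : ∀ a b : S.D.subgroupOf S.C1, a * b = b * a := fun a b =>
    Subtype.ext (Subtype.ext (S.hab _ (Subgroup.mem_subgroupOf.1 a.2) _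
      (Subgroup.mem_subgroupOf.1 b.2)))
  let β : S.D.subgroupOf S.C1 →* S.D.subgroupOf S.C1 :=
    { toFun := fun x => S.cjD ht x * x⁻¹
      map_one' := by simp
      map_mul' := fun x y => by
        rw [map_mul, mul_inv_rev, hc y⁻¹ x⁻¹, mul_assoc, ← mul_assoc (S.cjD ht y) x⁻¹,
          hc (S.cjD ht y) x⁻¹, mul_assoc x⁻¹, ← mul_assoc] }
  have hβ : Function.Surjective β := (Finite.injective_iff_surjective.1 (by
    rw [← MonoidHom.ker_eq_bot_iff, eq_bot_iff]
    intro x hx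
    exact S.eq_one_of_cjD ht htC (mul_inv_eq_one.1 hx)))
  refine MonoidHom.ext fun y => ?_
  obtain ⟨x, rfl⟩ := hβ y
  show l (S.cjD ht x * x⁻¹) = 1
  rw [map_mul, map_inv, mul_inv_eq_one]
  exact DFunLike.congr_fun hl x

end Setup

namespace Loc

variable {S : Setup M G p} [Fintype S.C1] (L : Loc S)

include L in
theorem eq_of_fixed {t : G} (ht : t ∈ S.T) (htC : t ∉ S.C1)
    {π : (S.D.subgroupOf S.C1 →* ℂˣ) → (S.D.subgroupOf S.C1 →* ℂˣ)}
    (hπ : ∀ l, π l = l.comp (S.cjD ht) * π 1) {l m : S.D.subgroupOf S.C1 →* ℂˣ} (hl : π l = l)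
    (hm : π m = m) : l = m := by
  refine mul_inv_eq_one.1 (S.eq_one_of_comp ht htC ?_)
  conv_rhs => rw [← hl, ← hm, hπ l, hπ m]
  refine MonoidHom.ext fun x => ?_
  simp only [MonoidHom.mul_apply, MonoidHom.comp_apply, MonoidHom.inv_apply]
  rw [mul_inv_rev, mul_assoc, ← mul_assoc (π 1 x), mul_inv_cancel, one_mul]

include L in
theorem exists_fixed {t : G} (ht : t ∈ S.T) (htC : t ∉ S.C1)
    {π : (S.D.subgroupOf S.C1 →* ℂˣ) → (S.D.subgroupOf S.C1 →* ℂˣ)}
    (hπ : ∀ l, π l = l.comp (S.cjD ht) * π 1) : ∃ l, π l = l := by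
  haveI := finite_dual L.hab'
  let F : (S.D.subgroupOf S.C1 →* ℂˣ) →* (S.D.subgroupOf S.C1 →* ℂˣ) :=
    { toFun := fun l => l.comp (S.cjD ht) * l⁻¹
      map_one' := by ext x; simp
      map_mul' := fun l m => by
        ext x
        simp only [MonoidHom.mul_apply, MonoidHom.comp_apply, MonoidHom.inv_apply, mul_inv]
        rw [mul_mul_mul_comm] }
  have hF : Function.Surjective F := Finite.injective_iff_surjective.1 (by
    rw [← MonoidHom.ker_eq_bot_iff, eq_bot_iff]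
    intro l hl
    refine S.eq_one_of_comp ht htC (MonoidHom.ext fun x => ?_)
    have hx := DFunLike.congr_fun (MonoidHom.mem_ker.1 hl) x
    exact mul_inv_eq_one.1 hx)
  obtain ⟨l, hl⟩ := hF (π 1)⁻¹
  refine ⟨l, (hπ l).trans (MonoidHom.ext fun x => ?_)⟩
  have h : l (S.cjD ht x) * (l x)⁻¹ = (π 1 x)⁻¹ := DFunLike.congr_fun hl x
  show l (S.cjD ht x) * π 1 x = l x
  rw [mul_inv_eq_iff_eq_mul.1 h, mul_right_comm, inv_mul_cancel, one_mul]

/-- The permutation of the family by a generator of the inertial quotient. -/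
theorem exists_action : ∃ (t : G) (π : (S.D.subgroupOf S.C1 →* ℂˣ) → (S.D.subgroupOf S.C1 →* ℂˣ))
    (l₀ : S.D.subgroupOf S.C1 →* ℂˣ), t ∈ S.T ∧ t ^ S.e ∈ S.C1 ∧
      (∀ h ∈ S.H1, ∃ (i : ℕ), ∃ c ∈ S.C1, h = c * t ^ i) ∧ (∀ i : ℕ, t ^ i ∈ S.C1 → S.e ∣ i) ∧
      Function.Injective π ∧
      (∀ i l, S.tw (L.θ l : S.C1 → ℂ) (t ^ i) = (L.θ (π^[i] l) : S.C1 → ℂ)) ∧
      (∀ i, π^[i] l₀ = l₀) ∧ (∀ l, π^[S.e] l = l) ∧
      (∀ l, l ≠ l₀ → ∀ i, π^[i] l = l → S.e ∣ i) := by
  obtain ⟨t, ht, hte, hgen, hdvd⟩ := S.exists_gen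
  obtain ⟨π, hinj, hval, hπ⟩ := L.exists_perm ht
  have htw : ∀ i l, S.tw (L.θ l : S.C1 → ℂ) (t ^ i) = (L.θ (π^[i] l) : S.C1 → ℂ) := by
    intro i
    induction i with
    | zero =>
      intro l
      funext c
      simp [Setup.tw, H12.extendByZero_coe]
    | succ i ih =>
      intro l
      funext c
      rw [Function.iterate_succ_apply', hval, ← ih l]
      rw [Setup.tw, Setup.tw, S.coe_cjC, pow_succ]
      congr 1
      group
  have hpe : ∀ l, π^[S.e] l = l := fun l => by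
    refine L.inj (Subtype.ext ?_)
    rw [← htw]
    funext c
    have hn : t ^ S.e ∈ Subgroup.normalizer (S.D1 : Set G) := pow_mem (S.T_le_H1 ht).1 _
    rw [S.tw_apply hn]
    have : S.cjC hn c = (⟨t ^ S.e, hte⟩ : S.C1) * c * (⟨t ^ S.e, hte⟩ : S.C1)⁻¹ :=
      Subtype.ext rfl
    rw [this]
    exact H12.irr_isClassFunction (L.θ l) c _
  have huniq : ∀ i, ¬ S.e ∣ i → ∀ l m, π^[i] l = l → π^[i] m = m → l = m := by
    intro i hi l m hl hm
    have hti : t ^ i ∈ S.T := pow_mem ht i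
    have htC : t ^ i ∉ S.C1 := fun h => hi (hdvd i h)
    obtain ⟨π', -, hval', hπ'⟩ := L.exists_perm hti
    have heq : ∀ l, π' l = π^[i] l := fun l => L.inj (Subtype.ext (funext fun c => by
      rw [hval', ← htw, S.tw_apply (S.T_le_H1 hti).1]))
    exact L.eq_of_fixed hti htC hπ' (by rw [heq, hl]) (by rw [heq, hm])
  obtain ⟨l₀, hl₀⟩ : ∃ l₀, π l₀ = l₀ := by
    by_cases he : S.e = 1
    · refine ⟨1, ?_⟩
      have h := hpe 1
      rwa [he] at h
    · refine L.exists_fixed ht (fun h => he (Nat.dvd_one.1 (hdvd 1 (by rwa [pow_one])))) hπ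
  have hit : ∀ i, π^[i] l₀ = l₀ := fun i => Function.iterate_fixed hl₀ i
  exact ⟨t, π, l₀, ht, hte, hgen, hdvd, hinj, htw, hit, hpe, fun l hl i hli => by
    by_contra hd
    exact hl (huniq i hd l l₀ hli (hit i))⟩

end Loc

end H85.Cyc
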