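import Mathlib.RepresentationTheory.Irreducible
import Mathlib.LinearAlgebra.FiniteDimensional.Lemmas
import Mathlib.LinearAlgebra.Dimension.RankNullity

/-!
Cyclic defect (helper85): sub- and quotient representations; irreducible ones.
-/

set_option autoImplicit false
set_option linter.unusedSectionVars false
set_option linter.style.haveILetI false

open scoped MonoidAlgebra

namespace H85.Cyc

universe u v w

variable {K : Type v} [Field K] {G : Type u} [Group G]
variable {V : Type w} [AddCommGroup V] [Module K V] (ρ : Representation K G V)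

/-- The restriction to an invariant subspace. -/
def subR (S : Submodule K V) (hS : ∀ g, ∀ v ∈ S, ρ g v ∈ S) : Representation K G S where
  toFun g := (ρ g).restrict (hS g)
  map_one' := LinearMap.ext fun v => Subtype.ext (by simp)
  map_mul' g h := LinearMap.ext fun v => Subtype.ext (by simp)

/-- The action on the quotient by an invariant subspace. -/
def quotR (S : Submodule K V) (hS : ∀ g, ∀ v ∈ S, ρ g v ∈ S) : Representation K G (V ⧸ S) where
  toFun g := S.mapQ S (ρ g) fun v hv => hS g v hv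
  map_one' := Submodule.linearMap_qext _ (LinearMap.ext fun v => by simp)
  map_mul' g h := Submodule.linearMap_qext _ (LinearMap.ext fun v => by simp)

theorem coe_subR (S : Submodule K V) (hS : ∀ g, ∀ v ∈ S, ρ g v ∈ S) (a : K[G]) (v : S) :
    ((subR ρ S hS).asAlgebraHom a v : V) = ρ.asAlgebraHom a v := by
  induction a using MonoidAlgebra.induction_on with
  | of g => rw [Representation.asAlgebraHom_of, Representation.asAlgebraHom_of]; rfl
  | add a b ha hb => simp [map_add, ha, hb]
  | smul r a ha => simp [map_smul, ha]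

theorem quotR_mk (S : Submodule K V) (hS : ∀ g, ∀ v ∈ S, ρ g v ∈ S) (a : K[G]) (v : V) :
    (quotR ρ S hS).asAlgebraHom a (Submodule.Quotient.mk v) =
      Submodule.Quotient.mk (ρ.asAlgebraHom a v) := by
  induction a using MonoidAlgebra.induction_on with
  | of g => rw [Representation.asAlgebraHom_of, Representation.asAlgebraHom_of]; rfl
  | add a b ha hb => simp [map_add, ha, hb]
  | smul r a ha => simp [map_smul, ha]

theorem asAlgebraHom_mem (S : Submodule K V) (hS : ∀ g, ∀ v ∈ S, ρ g v ∈ S) (a : K[G]) {v : V}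
    (hv : v ∈ S) : ρ.asAlgebraHom a v ∈ S := by
  have h := ((subR ρ S hS).asAlgebraHom a ⟨v, hv⟩).2
  rwa [coe_subR] at h

theorem subR_eq_one {S : Submodule K V} (hS : ∀ g, ∀ v ∈ S, ρ g v ∈ S) {a : K[G]}
    (ha : ρ.asAlgebraHom a = 1) : (subR ρ S hS).asAlgebraHom a = 1 :=
  LinearMap.ext fun v => Subtype.ext (by rw [coe_subR, ha]; rfl)

theorem quotR_eq_one {S : Submodule K V} (hS : ∀ g, ∀ v ∈ S, ρ g v ∈ S) {a : K[G]}
    (ha : ρ.asAlgebraHom a = 1) : (quotR ρ S hS).asAlgebraHom a = 1 :=
  LinearMap.ext fun v => Submodule.Quotient.induction_on S v fun w => by rw [quotR_mk, ha]; rfl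

theorem isIrreducible_of (hV : ∃ v : V, v ≠ 0)
    (h : ∀ S : Submodule K V, (∀ g, ∀ v ∈ S, ρ g v ∈ S) → S = ⊥ ∨ S = ⊤) : ρ.IsIrreducible := by
  obtain ⟨v, hv⟩ := hV
  exact
    { exists_pair_ne := ⟨⊥, ⊤, fun hbt => hv (by
        have h1 : v ∈ (⊥ : Subrepresentation ρ) := hbt ▸ (by trivial : v ∈ (⊤ : Subrepresentation ρ))
        exact (Submodule.mem_bot K).1 h1)⟩
      eq_bot_or_eq_top := fun A => by
        rcases h A.toSubmodule fun g w hw => A.apply_mem_toSubmodule g hw with h1 | h1
        · exact Or.inl (SetLike.ext fun w => by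
            show w ∈ A.toSubmodule ↔ w ∈ (⊥ : Submodule K V)
            rw [h1])
        · exact Or.inr (SetLike.ext fun w => by
            show w ∈ A.toSubmodule ↔ w ∈ (⊤ : Submodule K V)
            rw [h1]) }

theorem eq_bot_or_top [hρ : ρ.IsIrreducible] (S : Submodule K V)
    (hS : ∀ g, ∀ v ∈ S, ρ g v ∈ S) : S = ⊥ ∨ S = ⊤ := by
  rcases hρ.eq_bot_or_eq_top (⟨S, fun g v hv => hS g v hv⟩ : Subrepresentation ρ) with h | h
  · exact Or.inl (congrArg Subrepresentation.toSubmodule h)
  · exact Or.inr (congrArg Subrepresentation.toSubmodule h)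

theorem exists_ne_zero [hρ : ρ.IsIrreducible] : ∃ v : V, v ≠ 0 := by
  by_contra hcon
  push Not at hcon
  obtain ⟨A, B, hAB⟩ := hρ.toNontrivial.exists_pair_ne
  refine hAB (SetLike.ext fun w => ?_)
  rw [hcon w]
  exact ⟨fun _ => B.toSubmodule.zero_mem, fun _ => A.toSubmodule.zero_mem⟩

/-- An irreducible subrepresentation. -/
theorem exists_irr_sub [FiniteDimensional K V] (hV : ∃ v : V, v ≠ 0) :
    ∃ (S : Submodule K V) (hS : ∀ g, ∀ v ∈ S, ρ g v ∈ S), (subR ρ S hS).IsIrreducible := by
  classical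
  have hex : ∃ n : ℕ, ∃ S : Submodule K V, S ≠ ⊥ ∧ (∀ g, ∀ v ∈ S, ρ g v ∈ S) ∧
      Module.finrank K S = n :=
    ⟨_, ⊤, fun h => by
      obtain ⟨v, hv⟩ := hV
      exact hv ((Submodule.mem_bot K).1 (h ▸ (Submodule.mem_top : v ∈ (⊤ : Submodule K V)))),
      fun _ _ _ => Submodule.mem_top, rfl⟩
  obtain ⟨S, hS0, hS, hn⟩ := Nat.find_spec hex
  refine ⟨S, hS, isIrreducible_of _ ?_ fun T hT => ?_⟩
  · obtain ⟨v, hv, hv0⟩ := S.exists_mem_ne_zero_of_ne_bot hS0
    exact ⟨⟨v, hv⟩, fun h => hv0 (congrArg Subtype.val h)⟩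
  · by_contra hcon
    push Not at hcon
    have hlt : T.map S.subtype ≠ ⊥ := fun h => hcon.1 (by
      exact Submodule.map_injective_of_injective S.injective_subtype (h.trans (Submodule.map_bot _).symm))
    have hT' : ∀ g, ∀ v ∈ T.map S.subtype, ρ g v ∈ T.map S.subtype := by
      rintro g _ ⟨w, hw, rfl⟩
      exact ⟨_, hT g w hw, rfl⟩
    have hmin := Nat.find_min' hex ⟨_, hlt, hT', rfl⟩
    rw [← hn, Submodule.finrank_map_subtype_eq] at hmin
    exact absurd (Submodule.finrank_lt hcon.2) (not_lt.2 hmin)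

variable {W : Type w} [AddCommGroup W] [Module K W] (σ : Representation K G W)

theorem hom_asAlgebraHom {T : W →ₗ[K] V} (hT : ∀ g w, T (σ g w) = ρ g (T w)) (a : K[G]) (w : W) :
    T (σ.asAlgebraHom a w) = ρ.asAlgebraHom a (T w) := by
  induction a using MonoidAlgebra.induction_on with
  | of g => rw [Representation.asAlgebraHom_of, Representation.asAlgebraHom_of]; exact hT g w
  | add a b ha hb => simp [map_add, ha, hb]
  | smul r a ha => simp [map_smul, ha]

theorem bijective_of_hom [ρ.IsIrreducible] [σ.IsIrreducible] {T : W →ₗ[K] V}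
    (hT : ∀ g w, T (σ g w) = ρ g (T w)) (hne : T ≠ 0) : Function.Bijective T := by
  constructor
  · rcases eq_bot_or_top σ (LinearMap.ker T) fun g v hv => by
      rw [LinearMap.mem_ker] at hv ⊢; rw [hT, hv, map_zero] with h | h
    · exact LinearMap.ker_eq_bot.1 h
    · exact absurd (LinearMap.ker_eq_top.1 h) hne
  · rcases eq_bot_or_top ρ (LinearMap.range T) fun g v hv => by
      obtain ⟨w, rfl⟩ := hv; exact ⟨σ g w, hT g w⟩ with h | h
    · exact absurd (LinearMap.range_eq_bot.1 h) hne
    · exact LinearMap.range_eq_top.1 h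

end H85.Cyc
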