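import Cfsg.Agent.H85.Cyclic.Sep
import Cfsg.Agent.H85.Cyclic.RepAux
import Mathlib.LinearAlgebra.Isomorphisms

/-!
Cyclic defect (helper85): a block algebra with a uniserial basic algebra: one simple module, and
endomorphisms of a module moving one simple quotient past another one.
-/

set_option autoImplicit false
set_option linter.unusedSectionVars false
set_option linter.style.haveILetI false

open Finset
open scoped MonoidAlgebra

namespace H85.Cyc

universe u v w

variable {K : Type v} [Field K] {G : Type u} [Group G]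

/-- The data of a uniserial block `f`: a generating idempotent `ε` and the central `X`. -/
structure Basic (f : K[G]) (q : ℕ) (X ε : K[G]) : Prop where
  central : ∀ a, a * X = X * a
  fcentral : ∀ a, a * f = f * a
  fidem : f * f = f
  mul_f : X * f = X
  pow_eq_zero : X ^ q = 0
  idem : ε * ε = ε
  eps_mul : ε * f = ε
  gen : ∃ (n : ℕ) (a b : Fin n → K[G]), f = ∑ l, a l * ε * b l
  span : ∀ x, ∃ c : ℕ → K, ε * x * ε = ∑ i ∈ range q, c i • (X ^ i * ε)
  ne_zero : ε ≠ 0
  pos : 0 < q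

namespace Basic

variable {f : K[G]} {q : ℕ} {X ε : K[G]}

theorem central_pow (h : Basic f q X ε) (i : ℕ) (a : K[G]) : a * X ^ i = X ^ i * a :=
  ((show Commute a X from h.central a).pow_right i).eq

/-- A functional which is one at a nonzero vector. -/
theorem exists_coord {V : Type w} [AddCommGroup V] [Module K V] {v : V} (hv : v ≠ 0) :
    ∃ L : V →ₗ[K] K, L v = 1 := by
  obtain ⟨L, hL⟩ := LinearMap.exists_leftInverse_of_injective (LinearMap.toSpanSingleton K V v)
    (LinearMap.ker_eq_bot.2 fun a b hab => smul_left_injective K hv (by simpa using hab))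
  exact ⟨L, by simpa using LinearMap.congr_fun hL 1⟩

section Irr

variable [IsAlgClosed K] [Finite G] {V : Type w} [AddCommGroup V] [Module K V]
  [FiniteDimensional K V] (ρ : Representation K G V) [ρ.IsIrreducible]

theorem apply_X (h : Basic f q X ε) : ρ.asAlgebraHom X = 0 := by
  obtain ⟨c, hc⟩ := eq_smul_of_commute ρ (ρ.asAlgebraHom X) fun g => by
    rw [← Representation.asAlgebraHom_single_one, ← map_mul, ← map_mul, h.central]
  have hq : ρ.asAlgebraHom X ^ q = 0 := by rw [← map_pow, h.pow_eq_zero, map_zero]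
  rw [hc, smul_pow, one_pow] at hq
  obtain ⟨v, hv⟩ := exists_ne_zero ρ
  have := LinearMap.congr_fun hq v
  rw [LinearMap.smul_apply, Module.End.one_apply, LinearMap.zero_apply, smul_eq_zero] at this
  rw [hc, pow_eq_zero_iff h.pos.ne' |>.1 (this.resolve_right hv), zero_smul]

theorem apply_eps_ne_zero (h : Basic f q X ε) (hf : ρ.asAlgebraHom f = 1) :
    ρ.asAlgebraHom ε ≠ 0 := by
  intro h0
  obtain ⟨n, a, b, hab⟩ := h.gen
  obtain ⟨v, hv⟩ := exists_ne_zero ρ
  apply hv
  calc v = ρ.asAlgebraHom f v := by rw [hf]; rfl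
    _ = 0 := by simp [hab, map_sum, map_mul, h0]

theorem apply_corner (h : Basic f q X ε) {x : K[G]} {c : ℕ → K}
    (hc : ε * x * ε = ∑ i ∈ range q, c i • (X ^ i * ε)) :
    ρ.asAlgebraHom (ε * x * ε) = c 0 • ρ.asAlgebraHom ε := by
  rw [hc, map_sum, sum_eq_single 0 (fun i _ hi => by
      rw [map_smul, map_mul, map_pow, h.apply_X ρ, zero_pow hi, zero_mul, smul_zero])
    (fun h0 => absurd (mem_range.2 h.pos) h0), map_smul, pow_zero, one_mul]

/-- The image of `ε` is a line. -/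
theorem exists_smul (h : Basic f q X ε) {w : V} (hw : ρ.asAlgebraHom ε w ≠ 0) (w' : V) :
    ∃ c : K, ρ.asAlgebraHom ε w' = c • ρ.asAlgebraHom ε w := by
  obtain ⟨L, hL⟩ := exists_coord (K := K) hw
  obtain ⟨a, ha⟩ := asAlgebraHom_surjective ρ (L.smulRight w')
  obtain ⟨c, hc⟩ := h.span a
  refine ⟨c 0, ?_⟩
  have := LinearMap.congr_fun (h.apply_corner ρ hc) w
  rw [map_mul, map_mul, Module.End.mul_apply, Module.End.mul_apply, ha, LinearMap.smulRight_apply,
    hL, one_smul, LinearMap.smul_apply] at this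
  exact this

/-- One simple module. -/
theorem exists_hom (h : Basic f q X ε) {W : Type w} [AddCommGroup W] [Module K W]
    [FiniteDimensional K W] (σ : Representation K G W) [σ.IsIrreducible]
    (hρ : ρ.asAlgebraHom f = 1) (hσ : σ.asAlgebraHom f = 1) :
    ∃ T : W →ₗ[K] V, (∀ g w, T (σ g w) = ρ g (T w)) ∧ T ≠ 0 := by
  by_contra hcon
  push Not at hcon
  obtain ⟨a, ha, ha'⟩ := exists_sep ρ σ hcon
  obtain ⟨c, hc⟩ := h.span a
  have h1 := h.apply_corner ρ hc
  have h2 := h.apply_corner σ hc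
  rw [map_mul, map_mul, ha, mul_one, ← map_mul, h.idem] at h1
  rw [map_mul, map_mul, ha', mul_zero, zero_mul, eq_comm, smul_eq_zero] at h2
  rw [h2.resolve_right (h.apply_eps_ne_zero σ hσ), zero_smul] at h1
  exact h.apply_eps_ne_zero ρ hρ h1

end Irr

/-- A central nilpotent element of the block is a multiple of `X`. -/
theorem exists_eq_mul (h : Basic f q X ε) {z : K[G]} (hz : ∀ a, a * z = z * a)
    (hzn : IsNilpotent z) (hzf : z * f = z) :
    ∃ y : K[G], (∀ a, a * y = y * a) ∧ z = X * y := by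
  obtain ⟨c, hc⟩ := h.span z
  have hcε : ε * z * ε = z * ε := by rw [hz ε, mul_assoc, h.idem]
  set y := ∑ i ∈ range (q - 1), c (i + 1) • X ^ i with hy
  have hyc : ∀ a, a * y = y * a := fun a => by
    rw [hy, mul_sum, sum_mul]
    exact sum_congr rfl fun i _ => by rw [mul_smul_comm, smul_mul_assoc, h.central_pow]
  have hq : q - 1 + 1 = q := Nat.succ_pred_eq_of_pos h.pos
  have hsplit : z * ε = c 0 • ε + X * y * ε := by
    rw [← hcε, hc, ← hq, sum_range_succ', pow_zero, one_mul, add_comm, hy, mul_sum, sum_mul]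
    congr 1
    exact sum_congr rfl fun i _ => by rw [mul_smul_comm, smul_mul_assoc, ← pow_succ']
  have hzε : IsNilpotent (z * ε) := Commute.isNilpotent_mul_right (hz ε).symm hzn
  have hXy : IsNilpotent (X * y * ε) := by
    refine Commute.isNilpotent_mul_right ?_ (Commute.isNilpotent_mul_right (hyc X) ⟨q, h.pow_eq_zero⟩)
    show _ = _
    rw [mul_assoc, ← hyc ε, ← mul_assoc, ← h.central ε, mul_assoc]
  have hc0 : c 0 = 0 := by
    have hn : IsNilpotent (c 0 • ε) := by
      rw [eq_sub_of_add_eq hsplit.symm]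
      refine Commute.isNilpotent_sub ?_ hzε hXy
      show _ = _
      have h1 : ∀ a, a * (X * y) = X * y * a := fun a => by
        rw [← mul_assoc, h.central, mul_assoc, hyc, mul_assoc]
      calc z * ε * (X * y * ε) = z * (ε * (X * y)) * ε := by simp only [mul_assoc]
        _ = X * y * (z * ε * ε) := by rw [h1 ε, ← mul_assoc, h1 z]; simp only [mul_assoc]
        _ = X * y * (ε * z * ε) := by rw [hz ε]
        _ = X * y * ε * (z * ε) := by simp only [mul_assoc]
    obtain ⟨m, hm⟩ := hn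
    rcases m with _ | m
    · rw [pow_zero] at hm
      exact absurd (by rw [← mul_one ε, hm, mul_zero]) h.ne_zero
    · rw [smul_pow, IsIdempotentElem.pow_succ_eq m h.idem, smul_eq_zero] at hm
      exact eq_zero_of_pow_eq_zero (hm.resolve_right h.ne_zero)
  rw [hc0, zero_smul, zero_add] at hsplit
  refine ⟨y * f, fun a => by rw [← mul_assoc, hyc, mul_assoc, h.fcentral, mul_assoc], ?_⟩
  obtain ⟨n, a, b, hab⟩ := h.gen
  calc z = z * f := hzf.symm
    _ = ∑ l, a l * (z * ε) * b l := by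
      rw [hab, mul_sum]
      exact sum_congr rfl fun l _ => by rw [← mul_assoc, ← mul_assoc, ← hz, mul_assoc (a l)]
    _ = ∑ l, X * y * (a l * ε * b l) := sum_congr rfl fun l _ => by
      rw [hsplit, ← mul_assoc (a l) (X * y), ← mul_assoc (a l) X, h.central, mul_assoc X, hyc]
      simp only [mul_assoc]
    _ = X * (y * f) := by rw [← mul_sum, ← hab, mul_assoc]

/-- An endomorphism of the corner, extended. -/
theorem exists_lift_corner (h : Basic f q X ε) {U : Type w} [AddCommGroup U] [Module K U]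
    (π : Representation K G U) (hπ : π.asAlgebraHom f = 1) (φ₀ : Module.End K U)
    (hεφ₀ : ∀ u, π.asAlgebraHom ε (φ₀ u) = φ₀ u)
    (hcorner : ∀ x u, φ₀ (π.asAlgebraHom (ε * x * ε) u) = π.asAlgebraHom (ε * x * ε) (φ₀ u)) :
    ∃ (N : ℕ) (a b : Fin N → K[G]) (φ : Module.End K U), f = ∑ l, a l * ε * b l ∧
      (∀ u, φ u = ∑ l, π.asAlgebraHom (a l) (φ₀ (π.asAlgebraHom (ε * b l) u))) ∧
      ∀ g, φ * π g = π g * φ := by
  obtain ⟨N, a, b, hab⟩ := h.gen
  obtain ⟨φ, hφ⟩ : ∃ φ : Module.End K U, ∀ u,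
      φ u = ∑ l, π.asAlgebraHom (a l) (φ₀ (π.asAlgebraHom (ε * b l) u)) :=
    ⟨∑ l, π.asAlgebraHom (a l) * φ₀ * π.asAlgebraHom (ε * b l), fun u => by
      simp [LinearMap.sum_apply]⟩
  refine ⟨N, a, b, φ, hab, hφ, fun g => LinearMap.ext fun u => ?_⟩
  rw [Module.End.mul_apply, Module.End.mul_apply, hφ, hφ,
    ← Representation.asAlgebraHom_single_one]
  generalize MonoidAlgebra.single g (1 : K) = g'
  have hins : ∀ l, π.asAlgebraHom (ε * b l) (π.asAlgebraHom g' u) = ∑ m,
      π.asAlgebraHom (ε * (b l * g' * a m) * ε) (π.asAlgebraHom (ε * b m) u) := fun l => by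
    have e0 : ε * b l * g' * f = ∑ m, ε * (b l * g' * a m) * ε * (ε * b m) := by
      rw [hab, mul_sum]
      refine sum_congr rfl fun m _ => ?_
      simp only [mul_assoc]
      rw [← mul_assoc ε ε (b m), h.idem]
    calc π.asAlgebraHom (ε * b l) (π.asAlgebraHom g' u)
        = π.asAlgebraHom (ε * b l * g' * f) u := by
          rw [map_mul _ _ f, hπ, mul_one, map_mul π.asAlgebraHom (ε * b l), Module.End.mul_apply]
      _ = _ := by
          rw [e0, map_sum, LinearMap.sum_apply]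
          exact sum_congr rfl fun m _ => by rw [map_mul, Module.End.mul_apply]
  rw [sum_congr rfl fun l _ => by rw [hins l, map_sum, map_sum], sum_comm, map_sum]
  refine sum_congr rfl fun m _ => ?_
  rw [sum_congr rfl fun l _ => show _ = π.asAlgebraHom (a l * (ε * (b l * g' * a m) * ε))
      (φ₀ (π.asAlgebraHom (ε * b m) u)) by rw [hcorner, map_mul π.asAlgebraHom (a l), Module.End.mul_apply],
    ← LinearMap.sum_apply, ← map_sum]
  have e2 : ∑ l, a l * (ε * (b l * g' * a m) * ε) = f * (g' * a m) * ε := by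
    rw [hab, sum_mul, sum_mul]
    exact sum_congr rfl fun l _ => by simp only [mul_assoc]
  rw [e2, map_mul, map_mul, hπ, one_mul, Module.End.mul_apply, hεφ₀, map_mul, Module.End.mul_apply]

variable [IsAlgClosed K] [Finite G]

/-- An endomorphism of the corner moving one simple quotient past the other. -/
theorem exists_core (h : Basic f q X ε) {U : Type w} [AddCommGroup U] [Module K U]
    (π : Representation K G U) (hπ : π.asAlgebraHom f = 1)
    {W : Type w} [AddCommGroup W] [Module K W] [FiniteDimensional K W] (σ : Representation K G W)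
    [σ.IsIrreducible]
    {W' : Type w} [AddCommGroup W'] [Module K W'] [FiniteDimensional K W']
    (τ' : Representation K G W') [τ'.IsIrreducible]
    (fi : U →ₗ[K] W) (hfiA : ∀ x u, fi (π.asAlgebraHom x u) = σ.asAlgebraHom x (fi u))
    (fj : U →ₗ[K] W') (hfjA : ∀ x u, fj (π.asAlgebraHom x u) = τ'.asAlgebraHom x (fj u)) (n' : ℕ)
    (hex : ∃ v, π.asAlgebraHom (X ^ (n' + 1)) v = 0 ∧ fi v ≠ 0 ∧ fj v = 0)
    (hmin : ∀ v, π.asAlgebraHom (X ^ n') v = 0 → fi v = 0) :
    ∃ φ₀ : Module.End K U, (∀ u, π.asAlgebraHom ε (φ₀ u) = φ₀ u) ∧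
      (∀ x u, φ₀ (π.asAlgebraHom (ε * x * ε) u) = π.asAlgebraHom (ε * x * ε) (φ₀ u)) ∧
      (∀ u, fi (φ₀ u) = σ.asAlgebraHom ε (fi u)) ∧ ∀ u, fj (φ₀ u) = 0 := by
  classical
  obtain ⟨N, a, b, hab⟩ := h.gen
  obtain ⟨v, hv1, hv2, hv3⟩ := hex
  obtain ⟨l₀, hl₀⟩ : ∃ l, fi (π.asAlgebraHom (ε * b l) v) ≠ 0 := by
    by_contra hcon
    push Not at hcon
    apply hv2
    calc fi v = fi (π.asAlgebraHom f v) := by rw [hπ, Module.End.one_apply]
      _ = ∑ l, σ.asAlgebraHom (a l) (fi (π.asAlgebraHom (ε * b l) v)) := by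
        rw [hab, map_sum, LinearMap.sum_apply, map_sum]
        exact sum_congr rfl fun l _ => by rw [mul_assoc, map_mul, Module.End.mul_apply, hfiA]
      _ = 0 := sum_eq_zero fun l _ => by rw [hcon, map_zero]
  obtain ⟨v₀, hv₀⟩ : ∃ v₀, v₀ = π.asAlgebraHom (ε * b l₀) v := ⟨_, rfl⟩
  rw [← hv₀] at hl₀
  have hv₀n : π.asAlgebraHom (X ^ (n' + 1)) v₀ = 0 := by
    rw [hv₀, ← Module.End.mul_apply, ← map_mul, ← h.central_pow, map_mul, Module.End.mul_apply, hv1,
      map_zero]
  have hv₀j : fj v₀ = 0 := by rw [hv₀, hfjA, hv3, map_zero]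
  have hv₀ε : π.asAlgebraHom ε v₀ = v₀ := by
    rw [hv₀, ← Module.End.mul_apply, ← map_mul, ← mul_assoc, h.idem]
  have hσε : σ.asAlgebraHom ε (fi v₀) = fi v₀ := by rw [← hfiA, hv₀ε]
  obtain ⟨L, hL⟩ := exists_coord (K := K) hl₀
  obtain ⟨α, hαd⟩ : ∃ α : U →ₗ[K] K, α = L ∘ₗ σ.asAlgebraHom ε ∘ₗ fi := ⟨_, rfl⟩
  have hαe : ∀ u, α u = L (σ.asAlgebraHom ε (fi u)) := fun u => by rw [hαd]; rfl
  have hα : ∀ u, σ.asAlgebraHom ε (fi u) = α u • fi v₀ := fun u => by
    obtain ⟨c, hc⟩ := h.exists_smul σ (w := fi v₀) (by rw [hσε]; exact hl₀) (fi u)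
    rw [hσε] at hc
    rw [hαe, hc, map_smul, hL, smul_eq_mul, mul_one]
  obtain ⟨M₀, hM₀⟩ : ∃ M₀ : Module.End K U, M₀ = π.asAlgebraHom (X ^ n' * ε) := ⟨_, rfl⟩
  have hker : LinearMap.ker M₀ ≤ LinearMap.ker α := fun u hu => by
    rw [LinearMap.mem_ker] at hu ⊢
    rw [hM₀, map_mul, Module.End.mul_apply] at hu
    rw [hαe, ← hfiA, hmin _ hu, map_zero]
  obtain ⟨τ, hτ'⟩ := LinearMap.exists_extend
    (((LinearMap.ker M₀).liftQ α hker) ∘ₗ M₀.quotKerEquivRange.symm.toLinearMap)
  have hτ : ∀ u, τ (M₀ u) = α u := fun u => by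
    have h1 := LinearMap.congr_fun hτ' ⟨M₀ u, u, rfl⟩
    simp only [LinearMap.comp_apply, Submodule.subtype_apply, LinearEquiv.coe_coe] at h1
    rw [h1]
    exact (congrArg ((LinearMap.ker M₀).liftQ α hker)
      (M₀.quotKerEquivRange_symm_apply_image u ⟨u, rfl⟩)).trans rfl
  have hτn : ∀ u, τ (π.asAlgebraHom (X ^ (n' + 1) * ε) u) = 0 := fun u => by
    rw [pow_succ, mul_assoc, ← h.central ε, ← mul_assoc, map_mul, Module.End.mul_apply, ← hM₀, hτ,
      hαe, hfiA, h.apply_X σ, LinearMap.zero_apply, map_zero, map_zero]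
  obtain ⟨φ₀, hφ₀⟩ : ∃ φ₀ : Module.End K U, ∀ u, φ₀ u = ∑ m ∈ range (n' + 1),
      τ (π.asAlgebraHom (X ^ (n' - m) * ε) u) • π.asAlgebraHom (X ^ m) v₀ :=
    ⟨∑ m ∈ range (n' + 1),
      (τ ∘ₗ π.asAlgebraHom (X ^ (n' - m) * ε)).smulRight (π.asAlgebraHom (X ^ m) v₀),
      fun u => by simp [LinearMap.sum_apply]⟩
  have hcomm : ∀ u, φ₀ (π.asAlgebraHom X u) = π.asAlgebraHom X (φ₀ u) := fun u => by
    rw [hφ₀, hφ₀, map_sum, sum_range_succ', sum_range_succ, Nat.sub_self, pow_zero]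
    have e0 : τ (π.asAlgebraHom (X ^ n' * ε) (π.asAlgebraHom X u)) = 0 := by
      rw [← Module.End.mul_apply, ← map_mul, mul_assoc, h.central ε, ← mul_assoc, ← pow_succ]
      exact hτn u
    rw [Nat.sub_zero, e0, zero_smul, add_zero, map_smul, ← Module.End.mul_apply _ _ v₀, ← map_mul,
      ← pow_succ', hv₀n, smul_zero, add_zero]
    refine sum_congr rfl fun m hm => ?_
    rw [map_smul, ← Module.End.mul_apply _ _ v₀, ← map_mul, ← Module.End.mul_apply _ _ u,
      ← map_mul, ← pow_succ', mul_assoc, h.central ε, ← mul_assoc, ← pow_succ,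
      show n' - (m + 1) + 1 = n' - m by have := mem_range.1 hm; omega]
  have hεφ₀ : ∀ u, π.asAlgebraHom ε (φ₀ u) = φ₀ u := fun u => by
    rw [hφ₀, map_sum]
    refine sum_congr rfl fun m _ => ?_
    rw [map_smul, ← Module.End.mul_apply (π.asAlgebraHom ε), ← map_mul, h.central_pow,
      map_mul π.asAlgebraHom (X ^ m) ε, Module.End.mul_apply, hv₀ε]
  have hφ₀ε : ∀ u, φ₀ (π.asAlgebraHom ε u) = φ₀ u := fun u => by
    rw [hφ₀, hφ₀]
    refine sum_congr rfl fun m _ => ?_
    rw [← Module.End.mul_apply _ _ u, ← map_mul, mul_assoc, h.idem]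
  have hpow : ∀ (i : ℕ) (u : U), φ₀ (π.asAlgebraHom (X ^ i) u) = π.asAlgebraHom (X ^ i) (φ₀ u) := by
    intro i
    induction i with
    | zero => intro u; simp
    | succ i ih =>
      intro u
      rw [pow_succ', map_mul, Module.End.mul_apply, hcomm, ih, Module.End.mul_apply]
  refine ⟨φ₀, hεφ₀, fun x u => ?_, fun u => ?_, fun u => ?_⟩
  · obtain ⟨c, hc⟩ := h.span x
    rw [hc, map_sum, LinearMap.sum_apply, LinearMap.sum_apply, map_sum]
    refine sum_congr rfl fun i _ => ?_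
    rw [map_smul, LinearMap.smul_apply, LinearMap.smul_apply, map_smul, map_mul,
      Module.End.mul_apply, Module.End.mul_apply, hpow, hφ₀ε, hεφ₀]
  · rw [hφ₀, map_sum, sum_eq_single 0 (fun m _ hm => by
      rw [map_smul, hfiA, map_pow, h.apply_X σ, zero_pow hm, LinearMap.zero_apply, smul_zero])
      (fun h0 => absurd (mem_range.2 (Nat.succ_pos _)) h0), map_smul, pow_zero, map_one,
      Module.End.one_apply, Nat.sub_zero, ← hM₀, hτ, hα]
  · rw [hφ₀, map_sum]
    exact sum_eq_zero fun m _ => by rw [map_smul, hfjA, hv₀j, map_zero, smul_zero]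

/-- An endomorphism fixing one simple quotient and killing another one. -/
theorem exists_endo (h : Basic f q X ε) {U : Type w} [AddCommGroup U] [Module K U]
    (π : Representation K G U) (hπ : π.asAlgebraHom f = 1)
    {W : Type w} [AddCommGroup W] [Module K W] [FiniteDimensional K W] (σ : Representation K G W)
    [σ.IsIrreducible]
    {W' : Type w} [AddCommGroup W'] [Module K W'] [FiniteDimensional K W']
    (τ' : Representation K G W') [τ'.IsIrreducible]
    (fi : U →ₗ[K] W) (hfi : ∀ g u, fi (π g u) = σ g (fi u))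
    (fj : U →ₗ[K] W') (hfj : ∀ g u, fj (π g u) = τ' g (fj u)) (n : ℕ)
    (hex : ∃ v, π.asAlgebraHom (X ^ n) v = 0 ∧ fi v ≠ 0 ∧ fj v = 0)
    (hmin : ∀ v, π.asAlgebraHom (X ^ (n - 1)) v = 0 → fi v = 0) :
    ∃ φ : Module.End K U, (∀ g, φ * π g = π g * φ) ∧ fi ∘ₗ φ = fi ∧ fj ∘ₗ φ = 0 := by
  have hfiA : ∀ x u, fi (π.asAlgebraHom x u) = σ.asAlgebraHom x (fi u) :=
    fun x u => hom_asAlgebraHom σ π hfi x u
  have hfjA : ∀ x u, fj (π.asAlgebraHom x u) = τ'.asAlgebraHom x (fj u) :=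
    fun x u => hom_asAlgebraHom τ' π hfj x u
  obtain ⟨n', rfl⟩ : ∃ n', n = n' + 1 := by
    obtain ⟨v, hv1, hv2, -⟩ := hex
    rcases n with _ | n'
    · exact absurd (by rw [pow_zero, map_one, Module.End.one_apply] at hv1; rw [hv1, map_zero]) hv2
    · exact ⟨n', rfl⟩
  rw [Nat.add_sub_cancel] at hmin
  obtain ⟨φ₀, h1, h2, h3, h4⟩ := h.exists_core π hπ σ τ' fi hfiA fj hfjA n' hex hmin
  obtain ⟨N, a, b, φ, hab, hφ, hcom⟩ := h.exists_lift_corner π hπ φ₀ h1 h2
  refine ⟨φ, hcom, LinearMap.ext fun u => ?_, LinearMap.ext fun u => ?_⟩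
  · rw [LinearMap.comp_apply, hφ, map_sum]
    conv_rhs => rw [← Module.End.one_apply (R := K) u, ← hπ, hab, map_sum, LinearMap.sum_apply,
      map_sum]
    refine sum_congr rfl fun l _ => ?_
    rw [hfiA, h3, ← hfiA, ← hfiA, ← Module.End.mul_apply (π.asAlgebraHom ε),
      ← Module.End.mul_apply (π.asAlgebraHom (a l)), ← map_mul, ← map_mul, ← mul_assoc ε ε, h.idem,
      mul_assoc]
  · rw [LinearMap.comp_apply, hφ, map_sum, LinearMap.zero_apply]
    exact sum_eq_zero fun l _ => by rw [hfjA, h4, map_zero]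

end Basic

end H85.Cyc
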