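import Cfsg.Agent.H85.Cyclic.Family

/-!
Cyclic defect (helper85): the nilpotent generator in the centre of a nilpotent block with cyclic
defect group.
-/

set_option autoImplicit false
set_option linter.unusedSectionVars false
set_option linter.style.haveILetI false

open Cfsg H11.Star
open scoped MonoidAlgebra ComplexConjugate

namespace H85.Cyc

universe u

variable {M : Ideal AlgInt} [hMp : M.IsPrime] {G : Type u} [Group G] [Fintype G] {p : ℕ}
  [hp : Fact p.Prime] [CharP (H20.k M) p] [IsAlgClosed (H20.k M)]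
  {B : Set (IrrCharacter G)} {P : Subgroup G} {e : (H20.k M)[G]}

open Classical in
/-- The sums `∑ λ(u) e_{θ λ}` are integral. -/
theorem memRing_twisted (hM : IsPModular p M) (hnil : IsNilpotentBlock p M B)
    (hcyc : IsCyclic P) (hmax : H23.IsMax p (H23.eB M B) P e)
    {θ : (P →* ℂˣ) → IrrCharacter G} [Fintype (P →* ℂˣ)] (hrange : Set.range θ = B)
    (hstar : ∀ l, (θ l : G → ℂ) = star P e (ext1 P l) (θ 1) p)
    (hdeg : ∀ l, (θ l : G → ℂ) 1 = (θ 1 : G → ℂ) 1) (hd : Nat.card P = p ^ blockDefect p B)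
    (u : P) (g : G) :
    MemLocalRing M (∑ l : P →* ℂˣ, (l u : ℂ) * blockCoeff {θ l} g) := by
  have hB : IsPBlock M B := hnil.1
  have hab := comm_of_cyclic hcyc
  have hcoef : ∀ l, blockCoeff {θ l} g =
      (Nat.card G : ℂ)⁻¹ * ((θ 1 : G → ℂ) 1 * (θ l : G → ℂ) g⁻¹) := fun l => by
    rw [blockCoeff, finsum_mem_singleton, hdeg l, ← H12.irr_inv]
  set x := H20.pPart p g⁻¹ with hx
  set n := H12.degree (θ 1 : G → ℂ)
  have hterm : ∀ b ∈ blks M x, ∃ z : ℂ, MemLocalRing M z ∧
      ∑ l : P →* ℂˣ, (l u : ℂ) * etaB p P e (ext1 P l) x b = (Nat.card P : ℂ) * z := by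
    intro b hb
    by_cases h : H23.InBlk (H23.eB M B) (Subgroup.zpowers x) b
    · obtain ⟨t, ht⟩ := (inBlk_iff_exists hB hmax hb).1 h
      have hmem : t * x * t⁻¹ ∈ P := (ht.le p) ⟨_, Subgroup.mem_zpowers _, rfl⟩
      rw [Finset.sum_congr rfl fun l _ => by
        rw [etaB_eq (stable_ext1 hnil hmax hab l) ht, ext1_of_mem _ hmem, ← Units.val_mul, ← map_mul],
        sum_dual (comm_sub hcyc)]
      split_ifs
      · exact ⟨1, by simpa using H20.memRing_natCast (M := M) 1, by rw [mul_one]⟩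
      · exact ⟨0, by simpa using H20.memRing_natCast (M := M) 0, by rw [mul_zero]⟩
    · refine ⟨0, by simpa using H20.memRing_natCast (M := M) 0, ?_⟩
      rw [mul_zero]
      exact Finset.sum_eq_zero fun l _ => by rw [etaB_of_not_inBlk hB hmax hb _ h, mul_zero]
  choose! z hz hzeq using hterm
  have hsum : ∑ l : P →* ℂˣ, (l u : ℂ) * (θ l : G → ℂ) g⁻¹ =
      (Nat.card P : ℂ) * ∑ b ∈ blks M x, z b * val (θ 1) g⁻¹ b := by
    simp only [hstar, H11.Star.star, Finset.mul_sum, ← mul_assoc]
    rw [Finset.sum_comm]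
    refine Finset.sum_congr rfl fun b hb => ?_
    rw [← Finset.sum_mul, hzeq b hb]
  have hrepr : ∑ l : P →* ℂˣ, (l u : ℂ) * blockCoeff {θ l} g =
      ((n * Nat.card P : ℕ) : ℂ) * (Nat.card G : ℂ)⁻¹ *
        ∑ b ∈ blks M x, z b * val (θ 1) g⁻¹ b := by
    simp only [hcoef]
    rw [show ∑ l : P →* ℂˣ, (l u : ℂ) * ((Nat.card G : ℂ)⁻¹ * ((θ 1 : G → ℂ) 1 * (θ l : G → ℂ) g⁻¹)) =
      (Nat.card G : ℂ)⁻¹ * (θ 1 : G → ℂ) 1 * ∑ l : P →* ℂˣ, (l u : ℂ) * (θ l : G → ℂ) g⁻¹ by
      rw [Finset.mul_sum]; exact Finset.sum_congr rfl fun l _ => by ring]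
    rw [hsum, H12.irr_apply_one]
    push_cast
    ring
  rw [hrepr]
  refine H20.memRing_mul ?_ (H20.memRing_sum _ _ fun b hb => H20.memRing_mul (hz b hb) ?_)
  · -- the `p`-parts agree
    have hinf : sInf ((fun χ : IrrCharacter G => (charDegree (χ : G → ℂ)).factorization p) '' B) =
        n.factorization p := by
      have hset : (fun χ : IrrCharacter G => (charDegree (χ : G → ℂ)).factorization p) '' B =
          {n.factorization p} := by
        have hcd : ∀ χ ∈ B, charDegree (χ : G → ℂ) = n := by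
          intro χ hχ
          rw [← hrange] at hχ
          obtain ⟨l, rfl⟩ := hχ
          rw [charDegree, hdeg l, H12.irr_apply_one, Complex.natCast_re, Nat.floor_natCast]
        refine Set.Subset.antisymm (Set.image_subset_iff.2 fun χ hχ => ?_)
          (Set.singleton_subset_iff.2 ⟨θ 1, hrange ▸ ⟨1, rfl⟩, ?_⟩)
        · show (charDegree (χ : G → ℂ)).factorization p ∈ ({n.factorization p} : Set ℕ)
          rw [Set.mem_singleton_iff, hcd χ hχ]
        · dsimp only
          rw [hcd _ (hrange ▸ ⟨1, rfl⟩)]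
      rw [hset, csInf_singleton]
    have hn0 : n ≠ 0 := (H12.irr_degree_pos (θ 1)).ne'
    have hpn : p ^ (Nat.card G).factorization p ∣ n * Nat.card P := by
      rw [hd, blockDefect, hinf]
      obtain ⟨m, hm⟩ := Nat.ordProj_dvd n p
      refine (pow_dvd_pow p (show (Nat.card G).factorization p ≤ n.factorization p + ((Nat.card G).factorization p - n.factorization p) by omega)).trans ?_
      rw [pow_add]
      exact mul_dvd_mul ⟨m, hm⟩ dvd_rfl
    obtain ⟨r, hr⟩ := hpn
    have hG := Nat.ordProj_mul_ordCompl_eq_self (Nat.card G) p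
    have hcop : ¬ p ∣ Nat.card G / p ^ (Nat.card G).factorization p :=
      Nat.not_dvd_ordCompl hp.out Nat.card_pos.ne'
    set G' := Nat.card G / p ^ (Nat.card G).factorization p
    have e1 : ((n * Nat.card P : ℕ) : ℂ) * (Nat.card G : ℂ)⁻¹ = (r : ℂ) * (G' : ℂ)⁻¹ := by
      have eG : (Nat.card G : ℂ) = (p : ℂ) ^ (Nat.card G).factorization p * (G' : ℂ) := by
        exact_mod_cast hG.symm
      rw [hr, eG]
      push_cast
      have : (p : ℂ) ^ (Nat.card G).factorization p ≠ 0 :=
        pow_ne_zero _ (Nat.cast_ne_zero.2 hp.out.ne_zero)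
      field_simp
    rw [e1]
    refine H20.memRing_mul (H20.memRing_natCast _) ?_
    refine ⟨1, (G' : AlgInt), ?_, by simp [one_div]⟩
    intro hmem
    exact hcop ((H20.natCast_memIdeal_iff hM G').1 ((H20.memIdeal_coe_iff (G' : AlgInt)).2 hmem))
  · rw [val]
    split_ifs with hL
    · exact H20.memRing_sum _ _ fun y _ => H20.memRing_mul (Subtype.prop _) (H20.memRing_irr _ _)
    · simpa using H20.memRing_natCast (M := M) 0

open Classical in
/-- The nilpotent generator. -/
theorem exists_centre (hM : IsPModular p M) (hnil : IsNilpotentBlock p M B)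
    (hcyc : IsCyclic P) (hmax : H23.IsMax p (H23.eB M B) P e) :
    ∃ X : (H20.k M)[G], H20.IsCl X ∧ X * H23.eB M B = X ∧ X ^ Nat.card P = 0 ∧
      H23.eB M B * X ^ (Nat.card P - 1) ≠ 0 := by
  have hB : IsPBlock M B := hnil.1
  obtain ⟨θ, hinj, hrange, hstar, hreg, hdeg, -, -, hd⟩ := exists_family hM hnil hcyc hmax
  haveI := finite_dual (comm_sub hcyc)
  haveI := Fintype.ofFinite (P →* ℂˣ)
  obtain ⟨u, hu⟩ := hcyc.exists_zpow_surjective
  set q := Nat.card P
  have hlu : ∀ l : P →* ℂˣ, l u = 1 ↔ l = 1 := fun l =>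
    ⟨fun h => MonoidHom.ext fun x => by
      obtain ⟨i, rfl⟩ := hu x
      rw [map_zpow, h, one_zpow, MonoidHom.one_apply], fun h => by rw [h]; rfl⟩
  have hpow : ∀ l : P →* ℂˣ, (l u : ℂ) ^ q = 1 := fun l => by
    rw [← Units.val_pow_eq_pow_val, ← map_pow, pow_card_eq_one', map_one, Units.val_one]
  let cf : G → ℂ := fun g => ∑ l : P →* ℂˣ, (l u : ℂ) * blockCoeff {θ l} g
  have hcf : ∀ g, MemLocalRing M (cf g) :=
    memRing_twisted hM hnil hcyc hmax hrange hstar hdeg hd u
  let cO : (H20.O M)[G] := H20.ofFun fun g => ⟨cf g, hcf g⟩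
  obtain ⟨eO, heOcl, heOr, heOe⟩ := H20.exists_lift_eRed (H20.memRing_blockCoeff (M := M) hB)
  have hcOcl : H20.IsCl cO := H20.isCl_of_forall_isConj fun x y h => by
    simp only [cO, H20.coeff_ofFun, cf]
    simp only [H20.blockCoeff_of_isConj _ h]
  have hθB : ∀ l, θ l ∈ B := fun l => hrange ▸ ⟨l, rfl⟩
  have homc : ∀ χ : IrrCharacter G, H20.omega (χ : G → ℂ) (H20.emb cO) =
      ∑ l : P →* ℂˣ, (l u : ℂ) * (if χ = θ l then 1 else 0) := by
    intro χ
    have hdef : H20.emb cO = ∑ l : P →* ℂˣ, (l u : ℂ) • H20.eIdem {θ l} := by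
      ext g
      simp [cO, cf, H20.coeff_emb, H20.eIdem, Finsupp.finsetSum_apply]
    rw [hdef, H20.omega_sum]
    refine Finset.sum_congr rfl fun l _ => ?_
    rw [H20.omega_smul, H20.omega_eIdem]
    simp [Set.mem_singleton_iff]
  have hom_in : ∀ l, H20.omega (θ l : G → ℂ) (H20.emb cO) = (l u : ℂ) := fun l => by
    rw [homc, Finset.sum_eq_single l (fun l' _ hne => by
      rw [if_neg (fun h => hne (hinj h).symm), mul_zero]) (by simp), if_pos rfl, mul_one]
  have hom_out : ∀ χ ∉ B, H20.omega (χ : G → ℂ) (H20.emb cO) = 0 := fun χ hχ => by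
    rw [homc]
    exact Finset.sum_eq_zero fun l _ => by rw [if_neg (fun h => hχ (by rw [h]; exact hθB l)), mul_zero]
  let d : (H20.O M)[G] := cO + (1 - eO)
  have hdcl : H20.IsCl d := hcOcl.add (H20.isCl_one.sub heOcl)
  have hemb1 : H20.emb (1 : (H20.O M)[G]) = 1 := map_one _
  have homd : ∀ χ : IrrCharacter G, H20.omega (χ : G → ℂ) (H20.emb d) =
      H20.omega (χ : G → ℂ) (H20.emb cO) + (1 - if χ ∈ B then 1 else 0) := by
    intro χ
    show H20.omega _ (H20.emb (cO + (1 - eO))) = _
    rw [show H20.emb (cO + (1 - eO)) = H20.emb cO + (H20.emb 1 - H20.emb eO) by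
      unfold H20.emb; rw [map_add, map_sub], H20.omega_add, H20.omega_sub, hemb1, H20.omega_one,
      heOe, H20.omega_eIdem]
  have hdq : d ^ q = 1 := by
    apply H20.emb_injective
    rw [hemb1, show H20.emb (d ^ q) = H20.emb d ^ q from map_pow _ _ _]
    refine H20.ext_omega (hdcl.emb.pow q) H20.isCl_one fun χ => ?_
    rw [H20.omega_pow χ hdcl.emb, homd, H20.omega_one]
    by_cases hχ : χ ∈ B
    · rw [if_pos hχ, sub_self, add_zero]
      rw [← hrange] at hχ
      obtain ⟨l, rfl⟩ := hχ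
      rw [hom_in, hpow]
    · rw [if_neg hχ, hom_out χ hχ, zero_add, sub_zero, one_pow]
  set E := H23.eB M B with hE
  have hEr : H20.rd eO = E := heOr
  have hrdd : H20.rd d = H20.rd cO + (1 - E) := by
    show H20.rd (cO + (1 - eO)) = _
    simp only [H20.rd, map_add, map_sub, map_one]
    rw [← hEr]
    rfl
  set X := H20.rd cO - E with hX
  have hX1 : X + 1 = H20.rd d := by rw [hrdd, hX]; abel
  have hXcl : H20.IsCl X := hcOcl.rd.sub (H20.isCl_eRed B)
  refine ⟨X, hXcl, ?_, ?_, ?_⟩
  · have h1 : cO * eO = cO := by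
      apply H20.emb_injective
      rw [show H20.emb (cO * eO) = H20.emb cO * H20.emb eO from map_mul _ _ _]
      refine H20.ext_omega (hcOcl.emb.mul heOcl.emb) hcOcl.emb fun χ => ?_
      rw [H20.omega_mul χ hcOcl.emb, heOe, H20.omega_eIdem]
      by_cases hχ : χ ∈ B
      · rw [if_pos hχ, mul_one]
      · rw [if_neg hχ, mul_zero, hom_out χ hχ]
    rw [hX, sub_mul, show E * E = E from H20.eRed_mul_self hB, ← hEr, ← H11.Star.rd_mul, h1]
  · haveI : CharP (H20.k M)[G] p := charP_of_injective_algebraMap' (H20.k M) p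
    have h := congrArg H20.rd hdq
    rw [show H20.rd (d ^ q) = H20.rd d ^ q from map_pow _ _ _,
      show H20.rd (1 : (H20.O M)[G]) = 1 from map_one _, ← hX1,
      show q = p ^ blockDefect p B from hd, add_pow_char_pow_of_commute _ _ (Commute.one_right X),
      one_pow, add_eq_right] at h
    rw [show q = p ^ blockDefect p B from hd]
    exact h
  · haveI : CharP (H20.k M)[G] p := charP_of_injective_algebraMap' (H20.k M) p
    have hgeom : X ^ (q - 1) = ∑ i ∈ Finset.range q, (X + 1) ^ i := by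
      have hpoly : (Polynomial.X - 1 : Polynomial (H20.k M)) ^ (q - 1) =
          ∑ i ∈ Finset.range q, Polynomial.X ^ i := by
        refine mul_right_cancel₀ (Polynomial.X_sub_C_ne_zero (1 : H20.k M)) ?_
        have h1q : 1 ≤ q := Nat.card_pos
        rw [Polynomial.C_1, geom_sum_mul, ← pow_succ, Nat.sub_add_cancel h1q,
          show q = p ^ blockDefect p B from hd, sub_pow_char_pow, one_pow]
      have h := congrArg (Polynomial.aeval (X + 1)) hpoly
      simpa [map_pow, map_sub, map_sum] using h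
    have hkey : H20.emb (eO * ∑ i ∈ Finset.range q, d ^ i) = (q : ℂ) • H20.eIdem {θ 1} := by
      have hcl : H20.IsCl (H20.emb (eO * ∑ i ∈ Finset.range q, d ^ i)) := by
        refine H20.IsCl.emb (heOcl.mul ?_)
        intro g h
        simp only [MonoidAlgebra.coeff_sum, Finsupp.finsetSum_apply]
        exact Finset.sum_congr rfl fun i _ => hdcl.pow i g h
      refine H20.ext_omega hcl ((H20.isCl_eIdem _).smul _) fun χ => ?_
      rw [show H20.emb (eO * ∑ i ∈ Finset.range q, d ^ i) =
          H20.emb eO * ∑ i ∈ Finset.range q, H20.emb d ^ i by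
        simp only [H20.emb, map_mul, map_sum, map_pow],
        H20.omega_mul χ heOcl.emb, heOe, H20.omega_eIdem, H20.omega_smul, H20.omega_eIdem]
      by_cases hχ : χ ∈ B
      · rw [if_pos hχ, one_mul, H20.omega_sum]
        simp only [H20.omega_pow χ hdcl.emb, homd, if_pos hχ, sub_self, add_zero]
        rw [← hrange] at hχ
        obtain ⟨l, rfl⟩ := hχ
        rw [hom_in]
        by_cases hl : l = 1
        · subst hl
          simp
        · rw [if_neg (fun h => hl (hinj (Set.mem_singleton_iff.1 h))), mul_zero]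
          have hne : (l u : ℂ) ≠ 1 := fun h => hl ((hlu l).1 (Units.ext h))
          have := geom_sum_mul (l u : ℂ) q
          rw [hpow l, sub_self] at this
          exact (mul_eq_zero.1 this).resolve_right (sub_ne_zero.2 hne)
      · rw [if_neg hχ, zero_mul, if_neg (fun h => hχ (by rw [Set.mem_singleton_iff.1 h]; exact hθB 1)),
          mul_zero]
    intro h0
    have hr : H20.rd (eO * ∑ i ∈ Finset.range q, d ^ i) = 0 := by
      simp only [H20.rd, map_mul, map_sum, map_pow]
      rw [← h0, hgeom, hX1, ← hEr]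
      rfl
    refine (H23.isBlk_eB hB).ne_zero ?_
    ext g
    show E.coeff g = (0 : (H20.k M)[G]).coeff g
    by_contra hg
    have hreg' := H20.regular_of_coeff_ne_zero hM hB (g := g) (by simpa using hg)
    apply hg
    have hcoe : ((eO * ∑ i ∈ Finset.range q, d ^ i).coeff g : ℂ) = blockCoeff B g := by
      rw [← H20.coeff_emb, hkey]
      simp only [MonoidAlgebra.coeff_smul, Finsupp.smul_apply, H20.eIdem, H20.coeff_ofFun,
        smul_eq_mul, blockCoeff, finsum_mem_singleton]
      have himg : B = θ '' Set.univ := by rw [Set.image_univ, hrange]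
      conv_rhs => rw [himg, finsum_mem_image hinj.injOn, finsum_mem_univ, finsum_eq_sum_of_fintype]
      have hl : ∀ l, (θ l : G → ℂ) 1 * conj ((θ l : G → ℂ) g) =
          (θ 1 : G → ℂ) 1 * conj ((θ 1 : G → ℂ) g) := fun l => by rw [hdeg l, hreg l g hreg']
      rw [Finset.sum_congr rfl fun l _ => hl l, Finset.sum_const, Finset.card_univ, nsmul_eq_mul,
        ← Nat.card_eq_fintype_card, card_dual (comm_sub hcyc)]
      ring
    rw [MonoidAlgebra.coeff_zero, Finsupp.zero_apply, hE, H23.eB, H20.coeff_eRed, ← hcoe,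
      H20.redC_coe, ← H20.coeff_rd, hr]
    simp

end H85.Cyc
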