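import Mathlib.GroupTheory.FiniteAbelian.Duality
import Mathlib.Analysis.Complex.Polynomial.Basic
import Mathlib.RingTheory.RootsOfUnity.AlgebraicallyClosed

/-!
Cyclic defect (helper85): sums over the linear characters of a finite abelian group.
-/

set_option autoImplicit false
set_option linter.unusedSectionVars false
set_option linter.style.haveILetI false

namespace H85.Cyc

universe u

variable {A : Type u} [Group A] [Finite A]

theorem card_dual (hc : ∀ a b : A, a * b = b * a) : Nat.card (A →* ℂˣ) = Nat.card A := by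
  letI : CommGroup A := { (inferInstance : Group A) with mul_comm := hc }
  exact CommGroup.card_monoidHom_of_hasEnoughRootsOfUnity A ℂ

theorem finite_dual (hc : ∀ a b : A, a * b = b * a) : Finite (A →* ℂˣ) :=
  Nat.finite_of_card_ne_zero (by rw [card_dual hc]; exact Nat.card_pos.ne')

open Classical in
theorem sum_dual (hc : ∀ a b : A, a * b = b * a) [Fintype (A →* ℂˣ)] (x : A) :
    ∑ θ : A →* ℂˣ, (θ x : ℂ) = if x = 1 then (Nat.card A : ℂ) else 0 := by
  split_ifs with hx
  · subst hx
    simp [← card_dual hc, Nat.card_eq_fintype_card]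
  · letI : CommGroup A := { (inferInstance : Group A) with mul_comm := hc }
    obtain ⟨θ₀, h0⟩ := CommGroup.exists_apply_ne_one_of_hasEnoughRootsOfUnity A ℂ hx
    have e : ∑ θ : A →* ℂˣ, (θ x : ℂ) = (θ₀ x : ℂ) * ∑ θ : A →* ℂˣ, (θ x : ℂ) := by
      conv_lhs => rw [← Equiv.sum_comp (Equiv.mulLeft θ₀)]
      rw [Finset.mul_sum]
      exact Finset.sum_congr rfl fun θ _ => by simp
    by_contra hne
    exact h0 (Units.ext (mul_right_cancel₀ hne (e.symm.trans (one_mul _).symm)))

end H85.Cyc
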