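import Cfsg.Agent.H85.Cyclic.Sep
import Cfsg.Agent.H85.Cyclic.RepAux
import Mathlib.RingTheory.RootsOfUnity.AlgebraicallyClosed

/-!
Cyclic defect (helper85): the extensions of an invariant irreducible representation through a
cyclic quotient.
-/

set_option autoImplicit false
set_option linter.unusedSectionVars false
set_option linter.style.haveILetI false

open scoped MonoidAlgebra

namespace H85.Cyc

universe u v w

variable {K : Type v} [Field K] {H : Type u} [Group H] {C : Type u} [Group C]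
  {W : Type w} [AddCommGroup W] [Module K W]

/-- A representation through a cyclic quotient, from an intertwiner whose power is right. -/
theorem exists_rep_of_pow (ι : C →* H) (hι : Function.Injective ι) (t : H) (α : C →* C)
    (hα : ∀ c, ι (α c) = t * ι c * t⁻¹) (e : ℕ) (te : C) (hte : ι te = t ^ e)
    (hgen : ∀ h : H, ∃ (i : ℕ) (c : C), h = ι c * t ^ i)
    (hdvd : ∀ i : ℕ, (∃ c : C, t ^ i = ι c) → e ∣ i)
    (σ : Representation K C W) (M : Module.End K W) (hM : ∀ c, M * σ c = σ (α c) * M)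
    (hMe : M ^ e = σ te) :
    ∃ ρ : Representation K H W, (∀ c, ρ (ι c) = σ c) ∧ ρ t = M := by
  classical
  have hαi : ∀ (i : ℕ) (c : C), ∃ d : C, ι d = t ^ i * ι c * (t ^ i)⁻¹ ∧ M ^ i * σ c = σ d * M ^ i := by
    intro i
    induction i with
    | zero => exact fun c => ⟨c, by simp, by simp⟩
    | succ i ih =>
      intro c
      obtain ⟨d, hd, hd'⟩ := ih c
      refine ⟨α d, ?_, ?_⟩
      · rw [hα, hd, pow_succ']
        group
      · rw [pow_succ', mul_assoc, hd', ← mul_assoc, hM, mul_assoc]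
  have hwell : ∀ (i j : ℕ) (c d : C), i ≤ j → ι c * t ^ i = ι d * t ^ j →
      σ c * M ^ i = σ d * M ^ j := by
    intro i j c d hij h
    have h1 : t ^ (j - i) = ι (d⁻¹ * c) := by
      rw [map_mul, map_inv, eq_inv_mul_iff_mul_eq]
      refine mul_right_cancel (b := t ^ i) ?_
      rw [mul_assoc, ← pow_add, Nat.sub_add_cancel hij, h]
    obtain ⟨m, hm⟩ := hdvd _ ⟨_, h1⟩
    have h2 : te ^ m = d⁻¹ * c := hι (by rw [map_pow, hte, ← pow_mul, ← hm, h1])
    rw [show j = e * m + i by omega, pow_add, pow_mul, hMe, ← map_pow, h2, ← mul_assoc, ← map_mul,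
      mul_inv_cancel_left]
  have hwell' : ∀ (i j : ℕ) (c d : C), ι c * t ^ i = ι d * t ^ j →
      σ c * M ^ i = σ d * M ^ j := fun i j c d h => by
    rcases le_total i j with hij | hij
    · exact hwell i j c d hij h
    · exact (hwell j i d c hij h.symm).symm
  choose I C' hIC using hgen
  let f : H → Module.End K W := fun h => σ (C' h) * M ^ I h
  have hf : ∀ i c, f (ι c * t ^ i) = σ c * M ^ i := fun i c =>
    hwell' _ _ _ _ (hIC _).symm
  refine ⟨{ toFun := f, map_one' := ?_, map_mul' := fun a b => ?_ }, fun c => ?_, ?_⟩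
  · have := hf 0 1
    simpa using this
  · obtain ⟨d, hd, hd'⟩ := hαi (I a) (C' b)
    have h1 : a * b = ι (C' a * d) * t ^ (I a + I b) := by
      conv_lhs => rw [hIC a, hIC b]
      rw [map_mul, hd, pow_add]
      group
    rw [h1, hf]
    show _ = σ (C' a) * M ^ I a * (σ (C' b) * M ^ I b)
    rw [map_mul, pow_add, mul_assoc (σ (C' a)) (M ^ I a), ← mul_assoc (M ^ I a), hd']
    simp only [mul_assoc]
  · show f (ι c) = σ c
    have := hf 0 c
    simpa using this
  · show f t = M
    have := hf 1 1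
    simpa using this

variable [IsAlgClosed K] [Finite C] [FiniteDimensional K W]

/-- The extensions of an invariant irreducible representation. -/
theorem exists_extensions (ι : C →* H) (hι : Function.Injective ι) (t : H) (α : C ≃* C)
    (hα : ∀ c, ι (α c) = t * ι c * t⁻¹) (e : ℕ) (he : (e : K) ≠ 0) (te : C) (hte : ι te = t ^ e)
    (hgen : ∀ h : H, ∃ (i : ℕ) (c : C), h = ι c * t ^ i)
    (hdvd : ∀ i : ℕ, (∃ c : C, t ^ i = ι c) → e ∣ i)
    (σ : Representation K C W) [σ.IsIrreducible]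
    (hint : ∃ M : Module.End K W, M ≠ 0 ∧ ∀ c, M * σ c = σ (α c) * M) :
    ∃ ρ : Fin e → Representation K H W, (∀ j c, ρ j (ι c) = σ c) ∧
      ∀ i j, i ≠ j → ∀ T : W →ₗ[K] W, (∀ h w, T (ρ j h w) = ρ i h (T w)) → T = 0 := by
  classical
  obtain ⟨M, hM0, hM⟩ := hint
  let σ' : Representation K C W := σ.comp α.toMonoidHom
  haveI : σ'.IsIrreducible := isIrreducible_of σ' (exists_ne_zero σ) fun S hS =>
    eq_bot_or_top σ S fun c v hv => by
      have := hS (α.symm c) v hv
      rwa [show σ' (α.symm c) = σ c from congrArg σ (α.apply_symm_apply c)] at this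
  have hbij : Function.Bijective M := bijective_of_hom σ' σ (T := M)
    (fun c w => LinearMap.congr_fun (hM c) w) hM0
  -- scale
  have he0 : e ≠ 0 := fun h => he (by rw [h, Nat.cast_zero])
  have hαte : α te = te := hι (by rw [hα, hte]; group)
  have hαte' : α te⁻¹ = te⁻¹ := by rw [map_inv, hαte]
  have hpow : ∀ (i : ℕ) (c : C), ∃ d : C, ι d = t ^ i * ι c * (t ^ i)⁻¹ ∧
      M ^ i * σ c = σ d * M ^ i := by
    intro i
    induction i with
    | zero => exact fun c => ⟨c, by simp, by simp⟩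
    | succ i ih =>
      intro c
      obtain ⟨d, hd, hd'⟩ := ih c
      refine ⟨α d, ?_, ?_⟩
      · rw [hα, hd, pow_succ']
        group
      · rw [pow_succ', mul_assoc, hd', ← mul_assoc, hM, mul_assoc]
  obtain ⟨lam, hlam⟩ := eq_smul_of_commute σ (σ te⁻¹ * M ^ e) fun c => by
    obtain ⟨d, hd, hd'⟩ := hpow e c
    have hd2 : d = te * c * te⁻¹ := hι (by rw [hd, map_mul, map_mul, map_inv, hte])
    rw [mul_assoc, hd', ← mul_assoc, ← mul_assoc, ← map_mul, ← map_mul, hd2]
    congr 2
    group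
  have hMe : M ^ e = lam • σ te := by
    calc M ^ e = σ te * (σ te⁻¹ * M ^ e) := by
          rw [← mul_assoc, ← map_mul, mul_inv_cancel, map_one, one_mul]
      _ = _ := by rw [hlam, mul_smul_comm, mul_one]
  have hlam0 : lam ≠ 0 := by
    intro h0
    have hz : M ^ e = 0 := by rw [hMe, h0, zero_smul]
    obtain ⟨v, hv⟩ := exists_ne_zero σ
    apply hv
    have hinj : Function.Injective ⇑(M ^ e) := by
      rw [Module.End.coe_pow]
      exact hbij.1.iterate e
    exact hinj (by rw [hz, LinearMap.zero_apply, LinearMap.zero_apply])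
  obtain ⟨μ, hμ⟩ := IsAlgClosed.exists_pow_nat_eq lam⁻¹ (Nat.pos_of_ne_zero he0)
  haveI : NeZero (e : K) := ⟨he⟩
  obtain ⟨ζ, hζ⟩ := HasEnoughRootsOfUnity.exists_primitiveRoot K e
  have hex : ∀ j : Fin e, ∃ ρ : Representation K H W,
      (∀ c, ρ (ι c) = σ c) ∧ ρ t = (ζ ^ (j : ℕ) * μ) • M := by
    intro j
    refine exists_rep_of_pow ι hι t α.toMonoidHom hα e te hte hgen hdvd σ _ (fun c => ?_) ?_
    · rw [smul_mul_assoc, hM, mul_smul_comm]
      rfl
    · rw [smul_pow, mul_pow, ← pow_mul, mul_comm (j : ℕ) e, pow_mul, hζ.pow_eq_one, one_pow,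
        one_mul, hμ, hMe, smul_smul, inv_mul_cancel₀ hlam0, one_smul]
  choose ρ hρ hρt using hex
  refine ⟨ρ, hρ, fun i j hij T hT => ?_⟩
  obtain ⟨c, hc⟩ := eq_smul_of_commute σ T fun g => LinearMap.ext fun w => by
    have := hT (ι g) w
    rwa [hρ, hρ] at this
  by_contra hT0
  have hc0 : c ≠ 0 := fun h => hT0 (by rw [hc, h, zero_smul])
  obtain ⟨v, hv⟩ := exists_ne_zero σ
  have h1 := hT t v
  rw [hρt, hρt, hc] at h1
  simp only [LinearMap.smul_apply, Module.End.one_apply, map_smul, smul_smul] at h1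
  have hMv : M v ≠ 0 := fun h => hv (hbij.1 (h.trans (map_zero M).symm))
  have h2 := smul_left_injective K hMv h1
  have hμ0 : μ ≠ 0 := fun h => by
    rw [h, zero_pow he0] at hμ
    exact inv_ne_zero hlam0 hμ.symm
  have h3 : ζ ^ (j : ℕ) = ζ ^ (i : ℕ) := by
    refine mul_right_cancel₀ (mul_ne_zero hμ0 hc0) ?_
    linear_combination h2
  exact hij (Fin.ext (hζ.pow_inj i.2 j.2 h3.symm))

end H85.Cyc
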