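import Cfsg.Agent.H19.CyclicBlock
import Cfsg.Agent.H11.Star.FocalCount
import Cfsg.Agent.H11.Star.Linear
import Cfsg.Agent.H23.NilpotentBlocks
import Cfsg.Agent.H85.Cyclic.Dual

/-!
Cyclic defect (helper85): a nilpotent block with cyclic defect group is the family of the twists of
one character by the linear characters of the defect group, and its centre holds an element with
the order of nilpotency `|P|`.
-/

set_option autoImplicit false
set_option linter.unusedSectionVars false
set_option linter.style.haveILetI false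

open Cfsg H11.Star
open scoped MonoidAlgebra ComplexConjugate

namespace H85.Cyc

universe u

variable {M : Ideal AlgInt} [hMp : M.IsPrime] {G : Type u} [Group G] [Fintype G] {p : ℕ}
  [hp : Fact p.Prime] [CharP (H20.k M) p] [IsAlgClosed (H20.k M)]
  {B : Set (IrrCharacter G)} {P : Subgroup G} {e : (H20.k M)[G]}

theorem comm_of_cyclic (hcyc : IsCyclic P) : ∀ a ∈ P, ∀ b ∈ P, a * b = b * a := fun a ha b hb => by
  letI := hcyc.commGroup
  exact congrArg Subtype.val (mul_comm (⟨a, ha⟩ : P) ⟨b, hb⟩)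

theorem comm_sub (hcyc : IsCyclic P) : ∀ a b : P, a * b = b * a := fun a b =>
  Subtype.ext (comm_of_cyclic hcyc a a.2 b b.2)

/-- All linear characters of the defect group of a nilpotent block are stable. -/
theorem stable_ext1 (hnil : IsNilpotentBlock p M B) (hmax : H23.IsMax p (H23.eB M B) P e)
    (hab : ∀ a ∈ P, ∀ b ∈ P, a * b = b * a) (l : P →* ℂˣ) : Stable p P e (ext1 P l) := by
  intro x g f h h'
  have hx : x ∈ P := (h.le p) (Subgroup.mem_zpowers x)
  rw [H11.Star.cjS_zpowers] at h'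
  obtain ⟨π, hπ, he⟩ := H23.innerOnElements_of_nilpotent hnil hmax x hx g f h h'
  rw [← he, hab π hπ x hx, mul_inv_cancel_right]

/-- The twists of a character of a nilpotent block. -/
theorem exists_family (hM : IsPModular p M) (hnil : IsNilpotentBlock p M B)
    (hcyc : IsCyclic P) (hmax : H23.IsMax p (H23.eB M B) P e) :
    ∃ θ : (P →* ℂˣ) → IrrCharacter G, Function.Injective θ ∧ Set.range θ = B ∧
      (∀ l, (θ l : G → ℂ) = star P e (ext1 P l) (θ 1) p) ∧
      (∀ l, ∀ g : G, ¬ p ∣ orderOf g → (θ l : G → ℂ) g = (θ 1 : G → ℂ) g) ∧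
      (∀ l, (θ l : G → ℂ) 1 = (θ 1 : G → ℂ) 1) ∧
      blockRank p B = 1 ∧ Nat.card B = Nat.card P ∧ Nat.card P = p ^ blockDefect p B := by
  classical
  have hB : IsPBlock M B := hnil.1
  have hab := comm_of_cyclic hcyc
  obtain ⟨c, hc, rfl⟩ := H23.exists_of_isPair hmax.1
  have hPD := H23.isDefectGroup_of_isMax hB hmax
  have hstab := (H19.AbelianLocal.isNilpotentBlock_iff_stab_le hB hab hc.2 hmax).1 hnil
  obtain ⟨y, hy⟩ := (Subgroup.isCyclic_iff_exists_zpowers_eq_top P).1 hcyc
  have hyo : ∃ k : ℕ, orderOf y = p ^ k := by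
    obtain ⟨k, hk⟩ := IsPGroup.iff_orderOf.1 hmax.1.1 ⟨y, hy ▸ Subgroup.mem_zpowers y⟩
    exact ⟨k, by rwa [Subgroup.orderOf_mk] at hk⟩
  haveI := Fintype.ofFinite (Subgroup.centralizer (P : Set G))
  have hind : IsInducedBlock M (Subgroup.centralizer (P : Set G)) c B :=
    H19.SubNorm.induced_of_brauerPairOf hM hyo
      (by rw [← hy]; exact H17.Major.centralizer_zpowers_eq y)
      ((H23.isBrauerPairOf_iff hB hc).2 hmax.2.1)
  have hk1 := H19.CyclicBlock.natCard_le hM hB hPD hcyc hind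
  have hk2 := H19.CyclicBlock.rank_add_card_le hM hB hab hmax hstab
  have hl := H19.CyclicBlock.blockRank_eq_one hM hB hPD hcyc hind hnil
  have hd := H20.card_defectGroup hM hB hPD
  rw [← hd] at hk1
  have hk : Nat.card B = Nat.card P := by omega
  obtain ⟨χ₀, hχ₀⟩ := H20.block_nonempty hB
  let L : (P →* ℂˣ) → stLin p P (H23.eG M (Subgroup.centralizer (P : Set G)) c) :=
    fun l => ⟨l, stable_ext1 hnil hmax hab l⟩
  let θB : (P →* ℂˣ) → B := fun l => twist B hM hB hmax (L l) ⟨χ₀, hχ₀⟩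
  have hF := H23.pairFS_isBlockFS (H23.isMaximalBrauerPair_of hB hc hmax)
  have hinj : Function.Injective θB := by
    intro a b hab'
    have hfix : twist B hM hB hmax (L (a * b⁻¹)) (θB b) = θB b := by
      rw [twist_twist]
      conv_rhs => rw [← hab']
      congr 1
      exact Subtype.ext (inv_mul_cancel_right a b)
    refine mul_inv_eq_one.1 (MonoidHom.ext fun x => ?_)
    obtain ⟨g, β, hg, hle, hne⟩ := visible_of_center hM hF (θB b).2 (x := (x : G))
      ⟨x.2, Subgroup.mem_centralizer_iff.2 fun y hy => hab y hy x x.2⟩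
    have hgP : H20.pPart p g ∈ P := hg ▸ x.2
    have h1 := apply_eq_one_of_twist hM hB hmax hfix hgP (by rw [hg]; exact hle) hne
    rw [show x = ⟨H20.pPart p g, hgP⟩ from Subtype.ext hg.symm, MonoidHom.one_apply]
    exact h1
  haveI := finite_dual (comm_sub hcyc)
  have hbij : Function.Bijective θB :=
    hinj.bijective_of_nat_card_le (by rw [card_dual (comm_sub hcyc), hk])
  have hone : (θB 1 : IrrCharacter G) = χ₀ := by
    show (twist B hM hB hmax (L 1) ⟨χ₀, hχ₀⟩ : IrrCharacter G) = χ₀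
    rw [show L 1 = 1 from rfl, twist_one]
  have hval : ∀ l, ((θB l : IrrCharacter G) : G → ℂ) =
      star P (H23.eG M (Subgroup.centralizer (P : Set G)) c) (ext1 P l) χ₀ p :=
    fun l => twist_apply hM hB hmax (L l) ⟨χ₀, hχ₀⟩
  have hreg : ∀ l, ∀ g : G, ¬ p ∣ orderOf g →
      ((θB l : IrrCharacter G) : G → ℂ) g = (χ₀ : G → ℂ) g := fun l g hg => by
    rw [hval]
    exact star_apply_of_pPart hM hB hmax l hχ₀ (H20.pPart_eq_one_iff.2 hg)
  refine ⟨fun l => θB l, fun a b h => hinj (Subtype.ext h), ?_, fun l => ?_, fun l g hg => ?_,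
    fun l => ?_, hl, hk, hd⟩
  · ext χ
    refine ⟨?_, fun hχ => ?_⟩
    · rintro ⟨l, rfl⟩
      exact (θB l).2
    · obtain ⟨l, hl'⟩ := hbij.2 ⟨χ, hχ⟩
      exact ⟨l, congrArg Subtype.val hl'⟩
  · dsimp only
    rw [hval l, hone]
  · dsimp only
    rw [hreg l g hg, hone]
  · dsimp only
    rw [hreg l 1 (by rw [orderOf_one]; exact hp.out.not_dvd_one), hone]

end H85.Cyc
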