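import Cfsg.Agent.H85.Cyclic.Action
import Cfsg.Agent.H12.Induction
import Mathlib.GroupTheory.GroupAction.Quotient

/-!
Cyclic defect (helper85): the induced generalised characters, their Gram matrix and their support.
-/

set_option autoImplicit false
set_option linter.unusedSectionVars false
set_option linter.style.haveILetI false
set_option maxHeartbeats 400000

open Cfsg H11.Star Finset
open scoped MonoidAlgebra ComplexConjugate

namespace H85.Cyc

universe u

variable {M : Ideal AlgInt} [hMp : M.IsPrime] {G : Type u} [Group G] [Fintype G] {p : ℕ}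
  [hp : Fact p.Prime] [CharP (H20.k M) p] [IsAlgClosed (H20.k M)]

namespace Setup

variable (S : Setup M G p)

/-- Two sections over `D1` related by `x` force `x` to normalise `D1`. -/
theorem mem_normalizer_of_le {x g : G} (h1 : S.D1 ≤ Subgroup.zpowers (H20.pPart p g))
    (h2 : S.D1 ≤ Subgroup.zpowers (H20.pPart p (x * g * x⁻¹))) :
    x ∈ Subgroup.normalizer (S.D1 : Set G) := by
  refine H23.mem_normalizer_of_cjS_eq ?_
  have h3 : H23.cjS x S.D1 ≤ Subgroup.zpowers (H20.pPart p (x * g * x⁻¹)) := by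
    refine (H23.cjS_mono x h1).trans ?_
    rw [cjS_zpowers, H20.pPart_conj]
  exact H19.CyclicLocal.eq_of_card_eq (Subgroup.isCyclic_iff_exists_zpowers_eq_top _ |>.2
    ⟨_, rfl⟩) h3 h2 (H23.card_cjS x S.D1)

open Classical in
/-- The inner product of two induced functions living over `D1`. -/
theorem inner_ind [Fintype S.C1] {t : G} (ht : t ∈ S.T) (hte : t ^ S.e ∈ S.C1)
    (hgen : ∀ h ∈ S.H1, ∃ (i : ℕ), ∃ c ∈ S.C1, h = c * t ^ i)
    (hdvd : ∀ i : ℕ, t ^ i ∈ S.C1 → S.e ∣ i) {Φ Ψ : S.C1 → ℂ} (hcl : IsClassFunction S.C1 Ψ)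
    (hΦ : ∀ y : S.C1, Φ y ≠ 0 → S.D1 ≤ Subgroup.zpowers (H20.pPart p (y : G)))
    (hΨ : ∀ y : S.C1, Ψ y ≠ 0 → S.D1 ≤ Subgroup.zpowers (H20.pPart p (y : G)))
    (horth : ∀ x ∈ Subgroup.normalizer (S.D1 : Set G), x ∉ S.H1 →
      classInner Φ (S.tw Ψ x) = 0) :
    classInner (indFun S.C1 Φ) (indFun S.C1 Ψ) =
      ∑ i ∈ Finset.range S.e, classInner Φ (S.tw Ψ (t ^ i)) := by
  have he : 0 < S.e := Nat.pos_of_ne_zero fun h => S.p_ne_dvd_e (h ▸ dvd_zero p)
  have hres : (fun h : S.C1 => indFun S.C1 Ψ (h : G)) =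
      (Nat.card S.C1 : ℂ)⁻¹ • ∑ x : G, S.tw Ψ x := by
    funext c
    rw [H12.indFun_apply, Pi.smul_apply, Finset.sum_apply, smul_eq_mul]
    congr 1
    refine Fintype.sum_equiv (Equiv.inv G) _ _ fun x => ?_
    simp [Setup.tw]
  rw [H12.classInner_indFun S.C1 Φ (H12.indFun_isClassFunction S.C1 Ψ), hres,
    H12.classInner_smul_right, H12.classInner_sum_right]
  have hzero : ∀ x : G, x ∉ S.H1 → classInner Φ (S.tw Ψ x) = 0 := by
    intro x hx
    by_cases hn : x ∈ Subgroup.normalizer (S.D1 : Set G)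
    · exact horth x hn hx
    rw [H12.classInner_def, Finset.sum_eq_zero, mul_zero]
    intro c _
    by_contra hne
    obtain ⟨h1, h2⟩ := mul_ne_zero_iff.1 hne
    have h2' : S.tw Ψ x c ≠ 0 := fun h => h2 (by rw [h, map_zero])
    rw [Setup.tw, H12.extendByZero_eq_dite] at h2'
    by_cases hxc : x * (c : G) * x⁻¹ ∈ S.C1
    · rw [dif_pos hxc] at h2'
      have hΨ' := hΨ ⟨x * (c : G) * x⁻¹, hxc⟩ h2'
      exact hn (S.mem_normalizer_of_le (g := (c : G)) (hΦ c h1) hΨ')
    · rw [dif_neg hxc] at h2'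
      exact h2' rfl
  have hC : ∀ (c : S.C1) (i : ℕ), S.tw Ψ ((c : G) * t ^ i) = S.tw Ψ (t ^ i) := by
    intro c i
    funext y
    have hn : t ^ i ∈ Subgroup.normalizer (S.D1 : Set G) := pow_mem (S.T_le_H1 ht).1 i
    have hn' : (c : G) * t ^ i ∈ Subgroup.normalizer (S.D1 : Set G) :=
      mul_mem (S.C1_le_H1 c.2).1 hn
    rw [S.tw_apply hn', S.tw_apply hn,
      show S.cjC hn' y = c * S.cjC hn y * c⁻¹ from Subtype.ext (by
        simp only [Subgroup.coe_mul, Subgroup.coe_inv, S.coe_cjC]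
        group)]
    exact hcl _ _
  rw [← Finset.sum_subset (Finset.subset_univ (Finset.univ.filter fun x : G => x ∈ S.H1))
    (fun x _ hx => hzero x (by simpa using hx))]
  have hsum : ∑ x ∈ Finset.univ.filter (fun x : G => x ∈ S.H1), classInner Φ (S.tw Ψ x) =
      ∑ q ∈ Finset.range S.e ×ˢ (Finset.univ : Finset S.C1),
        classInner Φ (S.tw Ψ (t ^ q.1)) := by
    refine (Finset.sum_bij (fun q _ => (q.2 : G) * t ^ q.1) (fun q _ => ?_)
      (fun a ha b hb hab => ?_) (fun x hx => ?_) fun q _ => ?_).symm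
    · exact Finset.mem_filter.2 ⟨Finset.mem_univ _,
        mul_mem (S.C1_le_H1 q.2.2) (pow_mem (S.T_le_H1 ht) _)⟩
    · have ha' := Finset.mem_range.1 (Finset.mem_product.1 ha).1
      have hb' := Finset.mem_range.1 (Finset.mem_product.1 hb).1
      have key : ∀ {i j : ℕ} {c d : S.C1}, i ≤ j → j < S.e →
          (c : G) * t ^ i = (d : G) * t ^ j → i = j := by
        intro i j c d hij hj h
        obtain ⟨n, rfl⟩ := Nat.exists_eq_add_of_le hij
        rw [add_comm i n, pow_add, ← mul_assoc] at h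
        have h' := mul_right_cancel h
        have : t ^ n ∈ S.C1 := by
          rw [show t ^ n = (d : G)⁻¹ * (c : G) by rw [h', inv_mul_cancel_left]]
          exact mul_mem (inv_mem d.2) c.2
        have := Nat.eq_zero_of_dvd_of_lt (hdvd n this) (by omega)
        omega
      have hij : a.1 = b.1 := by
        rcases Nat.le_total a.1 b.1 with h | h
        · exact key h hb' hab
        · exact (key h ha' hab.symm).symm
      refine Prod.ext hij (Subtype.ext ?_)
      rw [hij] at hab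
      exact mul_right_cancel hab
    · obtain ⟨i, c, hc, rfl⟩ := hgen x (Finset.mem_filter.1 hx).2
      have hm : (t ^ S.e) ^ (i / S.e) ∈ S.C1 := pow_mem hte _
      refine ⟨(i % S.e, ⟨c * (t ^ S.e) ^ (i / S.e), mul_mem hc hm⟩), Finset.mem_product.2
        ⟨Finset.mem_range.2 (Nat.mod_lt _ he), Finset.mem_univ _⟩, ?_⟩
      show c * (t ^ S.e) ^ (i / S.e) * t ^ (i % S.e) = c * t ^ i
      rw [mul_assoc, ← pow_mul, ← pow_add, Nat.div_add_mod]
    · rw [hC]
  rw [hsum, Finset.sum_product]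
  simp only [Finset.sum_const, Finset.card_univ, nsmul_eq_mul, map_inv₀, Complex.conj_natCast,
    ← Finset.mul_sum, ← Nat.card_eq_fintype_card]
  exact inv_mul_cancel_left₀ (Nat.cast_ne_zero.2 Nat.card_pos.ne') _

end Setup

namespace Loc

variable {S : Setup M G p} [Fintype S.C1] (L : Loc S)

theorem val_eq_blockPart (χ : IrrCharacter G) (y : S.C1) :
    val χ (y : G) S.f1 = blockPart L.b (fun h : S.C1 => (χ : G → ℂ) (h : G)) y := by
  rw [← L.hbe]
  exact val_res χ L.hnil.1 y

include L in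
/-- Over `D1` the local block only sees the members of `B`. -/
theorem blockPart_eq_zero {χ : IrrCharacter G} (hχ : χ ∉ S.B) {y : S.C1}
    (hy : S.D1 ≤ Subgroup.zpowers (H20.pPart p (y : G))) :
    blockPart L.b (fun h : S.C1 => (χ : G → ℂ) (h : G)) y = 0 := by
  classical
  rw [← L.val_eq_blockPart]
  set Z := Subgroup.zpowers (H20.pPart p (y : G))
  have hf : H23.IsFix S.C1 S.f1 := S.pair.2.cidem.fix
  have hyC : Subgroup.zpowers (y : G) ≤ S.C1 := Subgroup.zpowers_le.2 y.2
  have hZy : Z ≤ Subgroup.zpowers (y : G) := pPart_zpowers_le _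
  have hE := H23.cidem_eB (M := M) S.hB
  have hEf : H23.IsFix (Subgroup.zpowers (y : G)) (H23.eB M S.B) := hE.fix.mono le_top
  have hcomm : H23.eB M S.B * S.f1 = S.f1 * H23.eB M S.B :=
    ((Subalgebra.mem_center_iff (R := H20.k M)).1
      (H23.mem_center_iff_coeff.2 fun x g => hE.fix x (Subgroup.mem_top x) g) S.f1).symm
  have hid : S.f1 * H23.eB M S.B * (S.f1 * H23.eB M S.B) = S.f1 * H23.eB M S.B := by
    rw [mul_assoc, ← mul_assoc (H23.eB M S.B), hcomm, mul_assoc S.f1, hE.idem, ← mul_assoc,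
      S.pair.2.cidem.idem]
  have hZp : IsPGroup p Z := isPGroup_pPart _
  have hbr : H23.Br Z S.f1 = H23.Br Z (S.f1 * H23.eB M S.B) := by
    conv_lhs => rw [← (S.inBlk : S.f1 * H23.Br S.D1 (H23.eB M S.B) = S.f1)]
    rw [H23.Br_mul hZp (hf.mono (hZy.trans hyC)) (((H23.isFix_Br hE.fix).mono
        (le_inf le_top ((hZy.trans hyC).trans (Subgroup.centralizer_le_normalizer _))))),
      H23.Br_Br hy, H23.Br_mul hZp (hf.mono (hZy.trans hyC)) (hEf.mono hZy)]
  rw [val_eq_of_Br S.hM χ S.pair.2.cidem.idem hid (hf.mono hyC) ((hf.mono hyC).mul hEf) hbr,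
    val_mul_eB S.hB χ S.pair.2.cidem.idem (hf.mono hyC), if_neg hχ]

theorem cj_stab {t : G} (hn : t ∈ Subgroup.normalizer (S.D1 : Set G))
    {l m : S.D.subgroupOf S.C1 →* ℂˣ}
    (h : S.tw (L.θ m : S.C1 → ℂ) t = (L.θ l : S.C1 → ℂ)) : t ∈ S.H1 := by
  have hblk := S.pair.2.cj t
  rw [show (S.C1).map (MulAut.conj t).toMonoidHom = S.C1 from S.cjS_C1 hn] at hblk
  obtain ⟨b', hb', heq⟩ := H23.exists_pblock_eq hblk
  have hpull : H23.pullChar (S.cjS_C1 hn) (L.θ m) = L.θ l :=
    Subtype.ext (funext fun c => by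
      rw [← congrFun h c, S.tw_apply hn]; rfl)
  have hm : L.θ m ∈ b' := (H23.mem_iff_pull (S.cjS_C1 hn) L.hnil.1 hb'
    (by rw [heq, L.hbe]) _).2 (by rw [hpull]; exact L.mem_b l)
  refine ⟨hn, ?_⟩
  rw [← heq, H20.block_eq_of_mem hb' L.hnil.1 hm (L.mem_b m), L.hbe]

end Loc

namespace Setup

variable (S : Setup M G p)

open Classical in
/-- The integral vectors of the induced generalised characters. -/
theorem exists_data : ∃ (Ω : Type u) (_ : Fintype Ω) (r : IrrCharacter G → Ω → ℤ),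
    Nat.card Ω * S.e + 1 = Nat.card S.D ∧
      (∀ j k, ∑ χ ∈ H22.blockFinset S.B, r χ j * r χ k = (if j = k then 1 else 0) + (S.e : ℤ)) ∧
      (∀ χ ∈ S.B, ∃ j, r χ j ≠ 0) ∧
      ∀ j (g : G), ¬ p ∣ orderOf g →
        ∑ χ ∈ H22.blockFinset S.B, (r χ j : ℂ) * (χ : G → ℂ) g = 0 := by
  haveI := Fintype.ofFinite S.C1
  obtain ⟨L⟩ := S.exists_loc
  haveI := finite_dual L.hab'
  haveI := Fintype.ofFinite (S.D.subgroupOf S.C1 →* ℂˣ)
  obtain ⟨t, π, l₀, ht, hte, hgen, hdvd, hπ, htw, hit, hpe, hfree⟩ := L.exists_action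
  have he : 0 < S.e := Nat.pos_of_ne_zero fun h => S.p_ne_dvd_e (h ▸ dvd_zero p)
  have hm : ∀ (χ : IrrCharacter G) l, ∃ n : ℕ,
      classInner (L.θ l : S.C1 → ℂ) (fun h : S.C1 => (χ : G → ℂ) (h : G)) = (n : ℂ) :=
    fun χ l => H12.IsCharacter.classInner_nat (H12.isCharacter_irr _)
      (H12.IsCharacter.res (H12.isCharacter_irr χ) S.C1)
  choose n hn using hm
  have hinv : ∀ χ l, n χ (π l) = n χ l := by
    intro χ l
    have htn : t ∈ Subgroup.normalizer (S.D1 : Set G) := (S.T_le_H1 ht).1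
    have h1 := htw 1 l
    rw [pow_one, Function.iterate_one] at h1
    apply Nat.cast_injective (R := ℂ)
    rw [← hn, ← hn, ← h1, H12.classInner_def, H12.classInner_def]
    congr 1
    refine Fintype.sum_equiv (S.cjC htn).toEquiv _ _ fun c => ?_
    rw [S.tw_apply htn]
    show _ = _ * conj ((χ : G → ℂ) (S.cjC htn c : G))
    rw [S.coe_cjC, H12.irr_isClassFunction χ]
    rfl
  let Φ : (S.D.subgroupOf S.C1 →* ℂˣ) → S.C1 → ℂ :=
    fun l => (L.θ l : S.C1 → ℂ) - (L.θ l₀ : S.C1 → ℂ)
  have hsupp : ∀ l, ∀ y : S.C1, Φ l y ≠ 0 → S.D1 ≤ Subgroup.zpowers (H20.pPart p (y : G)) := by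
    intro l y hy
    by_contra h
    exact hy (sub_eq_zero.2 (L.eq_of_not_le l l₀ h))
  let F : (S.D.subgroupOf S.C1 →* ℂˣ) → G → ℂ := fun l => indFun S.C1 (Φ l)
  have hcoef : ∀ l (χ : IrrCharacter G),
      classInner (F l) (χ : G → ℂ) = (((n χ l : ℤ) - n χ l₀ : ℤ) : ℂ) := by
    intro l χ
    rw [H12.classInner_indFun S.C1 _ (H12.irr_isClassFunction χ), H12.classInner_sub_left,
      hn, hn]
    push_cast
    rfl
  have hout : ∀ l (χ : IrrCharacter G), χ ∉ S.B → classInner (F l) (χ : G → ℂ) = 0 := by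
    intro l χ hχ
    rw [H12.classInner_indFun S.C1 _ (H12.irr_isClassFunction χ)]
    set f := fun h : S.C1 => (χ : G → ℂ) (h : G)
    have hpart : ∀ k, classInner (L.θ k : S.C1 → ℂ) f =
        classInner (L.θ k : S.C1 → ℂ) (blockPart L.b f) := by
      intro k
      rw [H22.Sub.blockPart_eq_smul_sum, H12.classInner_sum_right,
        Finset.sum_eq_single (L.θ k)]
      · rw [H12.classInner_smul_right, H12.classInner_irr_self, mul_one, H12.conj_classInner]
      · intro ξ _ hne
        rw [H12.classInner_smul_right, H12.classInner_irr_ne hne.symm, mul_zero]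
      · exact fun h => absurd (H22.mem_blockFinset.2 (L.mem_b k)) h
    rw [H12.classInner_sub_left, hpart, hpart, ← H12.classInner_sub_left, H12.classInner_def,
      Finset.sum_eq_zero, mul_zero]
    intro y _
    by_cases hy : Φ l y = 0
    · exact mul_eq_zero_of_left hy _
    · rw [L.blockPart_eq_zero hχ (hsupp l y hy), map_zero, mul_zero]
  have hexp : ∀ l g, F l g = ∑ χ ∈ H22.blockFinset S.B,
      (((n χ l : ℤ) - n χ l₀ : ℤ) : ℂ) * (χ : G → ℂ) g := by
    intro l g
    show indFun S.C1 (Φ l) g = _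
    rw [H12.classFunction_apply_eq_sum (H12.indFun_isClassFunction S.C1 (Φ l)) g]
    refine Eq.trans (Finset.sum_subset (Finset.subset_univ (H22.blockFinset S.B))
      fun χ _ hχ => ?_).symm (Finset.sum_congr rfl fun χ _ => by rw [← hcoef])
    rw [show classInner (indFun S.C1 (Φ l)) (χ : G → ℂ) = 0 from
      hout l χ fun h => hχ (H22.mem_blockFinset.2 h), zero_mul]
  -- the orbits
  let σ₀ : Equiv.Perm (S.D.subgroupOf S.C1 →* ℂˣ) :=
    Equiv.ofBijective π (Finite.injective_iff_bijective.1 hπ)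
  let σ : Equiv.Perm {l : S.D.subgroupOf S.C1 →* ℂˣ // l ≠ l₀} :=
    σ₀.subtypePerm fun l => by
      refine not_congr ⟨fun h => hπ ?_, fun h => ?_⟩
      · exact h.trans (hit 1).symm
      · rw [h]; exact hit 1
  have hσ : ∀ (i : ℕ) (l : {l : S.D.subgroupOf S.C1 →* ℂˣ // l ≠ l₀}),
      ((σ ^ i) l : S.D.subgroupOf S.C1 →* ℂˣ) = π^[i] l := by
    intro i
    induction i with
    | zero => intro l; rfl
    | succ i ih =>
      intro l
      rw [pow_succ', Equiv.Perm.mul_apply, Function.iterate_succ_apply', ← ih l]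
      rfl
  have hcardD : Nat.card (S.D.subgroupOf S.C1 →* ℂˣ) = Nat.card S.D := by
    rw [card_dual L.hab', H23.card_subgroupOf S.D_le_C1]
  have hX : Nonempty {l : S.D.subgroupOf S.C1 →* ℂˣ // l ≠ l₀} := by
    haveI : Nontrivial (S.D.subgroupOf S.C1 →* ℂˣ) := Finite.one_lt_card_iff_nontrivial.1 (by
      have h := Nat.le_of_dvd Nat.card_pos (Subgroup.card_dvd_of_le S.hD1)
      rw [S.hcard] at h
      rw [hcardD]
      exact lt_of_lt_of_le hp.out.one_lt h)
    obtain ⟨l, hl⟩ := exists_ne l₀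
    exact ⟨⟨l, hl⟩⟩
  have hord : orderOf σ = S.e := by
    refine (orderOf_eq_iff he).2 ⟨Equiv.ext fun l => Subtype.ext ?_, fun m hm hm0 hσm => ?_⟩
    · rw [hσ, hpe]; rfl
    · obtain ⟨l⟩ := hX
      have h := hσ m l
      rw [hσm] at h
      exact absurd (Nat.le_of_dvd hm0 (hfree l l.2 m h.symm)) (not_le.2 hm)
  let P := Subgroup.zpowers σ
  have hpow : ∀ q : P, ∃ i : ℕ, (q : Equiv.Perm _) = σ ^ i := fun q => by
    obtain ⟨i, hi⟩ := mem_powers_iff_mem_zpowers.2 q.2
    exact ⟨i, hi.symm⟩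
  have hstab : ∀ l : {l : S.D.subgroupOf S.C1 →* ℂˣ // l ≠ l₀},
      MulAction.stabilizer P l = ⊥ := by
    intro l
    rw [eq_bot_iff]
    intro q hq
    obtain ⟨i, hi⟩ := hpow q
    have h1 : (σ ^ i) l = l := hi ▸ (MulAction.mem_stabilizer_iff.1 hq : (q : Equiv.Perm _) l = l)
    have h2 := hσ i l
    rw [h1] at h2
    refine Subgroup.mem_bot.2 (Subtype.ext ?_)
    rw [hi, Subgroup.coe_one, ← orderOf_dvd_iff_pow_eq_one, hord]
    exact hfree l l.2 i h2.symm
  let Ω := Quotient (MulAction.orbitRel P {l : S.D.subgroupOf S.C1 →* ℂˣ // l ≠ l₀})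
  haveI : Finite Ω := Quotient.finite _
  haveI := Fintype.ofFinite Ω
  have hcard : Nat.card Ω * S.e + 1 = Nat.card S.D := by
    have h := Nat.card_congr (MulAction.selfEquivOrbitsQuotientProd hstab)
    rw [Nat.card_prod, Nat.card_zpowers, hord] at h
    rw [← hcardD]
    have h2 : Nat.card {l : S.D.subgroupOf S.C1 →* ℂˣ // l ≠ l₀} + 1 =
        Nat.card (S.D.subgroupOf S.C1 →* ℂˣ) := by
      rw [Nat.card_eq_fintype_card, Nat.card_eq_fintype_card, Fintype.card_subtype_compl,
        Fintype.card_subtype_eq]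
      exact Nat.sub_add_cancel Fintype.card_pos
    rw [← h2, h]
  refine ⟨Ω, inferInstance, fun χ j => (n χ (j.out : _).1 : ℤ) - n χ l₀, hcard,
    fun j k => ?_, fun χ hχ => ?_, fun j g hg => ?_⟩
  · -- Gram matrix
    set l := (j.out : {l : S.D.subgroupOf S.C1 →* ℂˣ // l ≠ l₀})
    set m := (k.out : {l : S.D.subgroupOf S.C1 →* ℂˣ // l ≠ l₀})
    have h1 : classInner (F l.1) (F m.1) =
        ((∑ χ ∈ H22.blockFinset S.B,
          ((n χ l.1 : ℤ) - n χ l₀) * ((n χ m.1 : ℤ) - n χ l₀) : ℤ) : ℂ) := by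
      rw [funext (hexp m.1), show (fun g => ∑ χ ∈ H22.blockFinset S.B,
          (((n χ m.1 : ℤ) - n χ l₀ : ℤ) : ℂ) * (χ : G → ℂ) g) = ∑ χ ∈ H22.blockFinset S.B,
          (((n χ m.1 : ℤ) - n χ l₀ : ℤ) : ℂ) • (χ : G → ℂ) from
          funext fun g => by simp [Finset.sum_apply], H12.classInner_sum_right, Int.cast_sum]
      refine Finset.sum_congr rfl fun χ _ => ?_
      rw [H12.classInner_smul_right, hcoef, map_intCast]
      push_cast
      ring
    have h2 : classInner (F l.1) (F m.1) = (((if j = k then 1 else 0) + (S.e : ℤ) : ℤ) : ℂ) := by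
      have hcl : IsClassFunction S.C1 (Φ m.1) :=
        H12.IsClassFunction.sub (H12.irr_isClassFunction _) (H12.irr_isClassFunction _)
      rw [S.inner_ind ht hte hgen hdvd hcl (hsupp _) (hsupp _) fun x hx hx1 => ?_]
      · have hterm : ∀ i, classInner (Φ l.1) (S.tw (Φ m.1) (t ^ i)) =
            (if l.1 = π^[i] m.1 then 1 else 0) + 1 := by
          intro i
          have hn' : t ^ i ∈ Subgroup.normalizer (S.D1 : Set G) := pow_mem (S.T_le_H1 ht).1 i
          have hsub : S.tw (Φ m.1) (t ^ i) =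
              (L.θ (π^[i] m.1) : S.C1 → ℂ) - (L.θ l₀ : S.C1 → ℂ) := by
            funext c
            rw [Pi.sub_apply, ← htw, show L.θ l₀ = L.θ (π^[i] l₀) by rw [hit], ← htw,
              S.tw_apply hn', S.tw_apply hn', S.tw_apply hn']
            rfl
          have hm0 : π^[i] m.1 ≠ l₀ := fun h => m.2 ((hπ.iterate i) (h.trans (hit i).symm))
          rw [hsub]
          simp only [Φ, H12.classInner_sub_left, H12.classInner_sub_right, H12.classInner_irr,
            L.inj.eq_iff, if_neg l.2, if_neg hm0.symm]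
          simp
        simp only [hterm, Finset.sum_add_distrib, Finset.sum_const, Finset.card_range, nsmul_one]
        push_cast
        congr 1
        by_cases hjk : j = k
        · subst hjk
          rw [if_pos rfl, Finset.sum_eq_single 0]
          · simp [l, m]
          · intro i hi hi0
            rw [if_neg]
            intro h
            have := Nat.le_of_dvd (Nat.pos_of_ne_zero hi0) (hfree l.1 l.2 i h.symm)
            have := Finset.mem_range.1 hi
            omega
          · intro h; exact absurd (Finset.mem_range.2 he) h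
        · rw [if_neg hjk]
          refine Finset.sum_eq_zero fun i _ => if_neg fun h => hjk ?_
          rw [← Quotient.out_eq j, ← Quotient.out_eq k]
          refine Quotient.sound ⟨⟨σ ^ i, pow_mem (Subgroup.mem_zpowers σ) i⟩, ?_⟩
          exact Subtype.ext ((hσ i m).trans h.symm)
      · have hne : ∀ a b, classInner (L.θ a : S.C1 → ℂ) (S.tw (L.θ b : S.C1 → ℂ) x) = 0 := by
          intro a b
          have heq : S.tw (L.θ b : S.C1 → ℂ) x =
              (H23.pullChar (S.cjS_C1 hx) (L.θ b) : S.C1 → ℂ) := funext fun c => S.tw_apply hx _ c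
          rw [heq, H12.classInner_irr_ne]
          intro h
          exact hx1 (L.cj_stab hx (l := a) (m := b) (heq.trans (congrArg Subtype.val h).symm))
        have hsub : S.tw (Φ m.1) x =
            S.tw (L.θ m.1 : S.C1 → ℂ) x - S.tw (L.θ l₀ : S.C1 → ℂ) x := by
          funext c
          rw [Pi.sub_apply, S.tw_apply hx, S.tw_apply hx, S.tw_apply hx]
          rfl
        rw [hsub]
        simp only [Φ, H12.classInner_sub_left, H12.classInner_sub_right, hne, sub_zero]
    convert Int.cast_injective (α := ℂ) (h1.symm.trans h2) using 2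
    split_ifs <;> rfl
  · -- no zero row
    by_contra hall
    push Not at hall
    have hconst : ∀ l, n χ l = n χ l₀ := by
      intro l
      by_cases hl : l = l₀
      · rw [hl]
      let j : Ω := Quotient.mk _ ⟨l, hl⟩
      obtain ⟨q, hq⟩ := Quotient.exact (Quotient.out_eq j) |> fun h => (h : _ ∈ MulAction.orbit P _)
      obtain ⟨i, hi⟩ := hpow q
      have hj : (j.out : {l : S.D.subgroupOf S.C1 →* ℂˣ // l ≠ l₀}).1 = π^[i] l := by
        rw [← hσ i ⟨l, hl⟩, ← hi]
        exact congrArg Subtype.val hq.symm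
      have hiter : ∀ i, n χ (π^[i] l) = n χ l := by
        intro i
        induction i with
        | zero => rfl
        | succ i ih => rw [Function.iterate_succ_apply', hinv, ih]
      have h := hall j
      rw [sub_eq_zero, Nat.cast_inj, hj, hiter] at h
      exact h
    obtain ⟨z, hz⟩ := exists_prime_orderOf_dvd_card' (G := S.D1) p (by rw [S.hcard])
    have hz1 : (z : G) ≠ 1 := fun h => by
      rw [← Subgroup.orderOf_coe, h, orderOf_one] at hz
      exact hp.out.one_lt.ne hz
    have hzD : Subgroup.zpowers (z : G) = S.D1 :=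
      Subgroup.eq_of_le_of_card_ge (Subgroup.zpowers_le.2 z.2)
        (by rw [S.hcard, Nat.card_zpowers, Subgroup.orderOf_coe, hz])
    obtain ⟨c, hc, hcf⟩ := H23.exists_of_isPair S.hmax.1
    have hFS := H23.pairFS_isBlockFS (H23.isMaximalBrauerPair_of S.hB hc (hcf.symm ▸ S.hmax))
    obtain ⟨g, bk, hg, hle, hne⟩ := visible_of_center S.hM hFS hχ (x := (z : G))
      ⟨S.hD1 z.2, S.D_le_C (S.hD1 z.2)⟩
    rw [hcf, hzD] at hle
    obtain rfl : bk = S.f1 := H23.le_unique p S.hmax.1 hle S.hle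
    have hgC : g ∈ S.C1 := by
      have h := zpowers_le_centralizer_pPart (p := p) g (Subgroup.mem_zpowers g)
      rw [hg, hzD] at h
      exact h
    apply hne
    rw [show g = ((⟨g, hgC⟩ : S.C1) : G) from rfl, L.val_eq_blockPart,
      H22.Sub.blockPart_eq_smul_sum]
    have hb : H22.blockFinset L.b = Finset.univ.image L.θ := by
      ext ξ
      rw [H22.mem_blockFinset, ← L.range]
      simp
    rw [hb, Finset.sum_apply, Finset.sum_image fun a _ b _ h => L.inj h]
    have hterm : ∀ k, classInner (fun h : S.C1 => (χ : G → ℂ) (h : G)) (L.θ k : S.C1 → ℂ) =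
        (n χ l₀ : ℂ) := fun k => by
      rw [← H12.conj_classInner, hn, hconst, Complex.conj_natCast]
    simp only [Pi.smul_apply, smul_eq_mul, hterm, ← Finset.mul_sum]
    rw [L.sum_eq_zero, mul_zero]
    intro h0
    apply hz1
    rw [← hg, show g = ((⟨g, hgC⟩ : S.C1) : G) from rfl, H20.pPart_coe, h0, Subgroup.coe_one]
  · rw [← hexp, show F _ = indFun S.C1 _ from rfl, H12.indFun_apply, Finset.sum_eq_zero, mul_zero]
    intro x _
    rw [H12.extendByZero_eq_dite]
    split_ifs with hmem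
    · by_contra h
      have h1 := hsupp _ _ h
      have h2 : H20.pPart p (x⁻¹ * g * x) = 1 := by
        rw [show x⁻¹ * g * x = x⁻¹ * g * x⁻¹⁻¹ by rw [inv_inv], H20.pPart_conj,
          H20.pPart_eq_one_iff.2 hg]
        simp
      rw [h2, Subgroup.zpowers_one_eq_bot, le_bot_iff] at h1
      exact S.D1_ne_bot h1
    · rfl

end Setup

end H85.Cyc
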