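import Cfsg.Agent.H11.Star.FocalCount

/-!
Cyclic defect (helper85): block parts of restrictions as local values, and transport of local values
along automorphisms.
-/

set_option autoImplicit false
set_option linter.unusedSectionVars false
set_option linter.style.haveILetI false

open Cfsg H11.Star
open scoped MonoidAlgebra ComplexConjugate

namespace H85.Cyc

universe u

variable {M : Ideal AlgInt} [hMp : M.IsPrime] {G : Type u} [Group G] [Fintype G]

/-- The local value at a block of a subgroup is the block part of the restriction. -/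
theorem val_res (χ : IrrCharacter G) {H : Subgroup G} [Fintype H] {b : Set (IrrCharacter H)}
    (hb : IsPBlock M b) (g : H) :
    val χ (g : G) (H23.eG M H b) = blockPart b (fun h : H => (χ : G → ℂ) (h : G)) g := by
  classical
  obtain ⟨e₀, he₀, he₁, he₂⟩ := H20.exists_lift_eRed (H20.memRing_blockCoeff (M := M) hb)
  have he₀₀ : e₀ * e₀ = e₀ := by
    apply H20.emb_injective
    rw [show H20.emb (e₀ * e₀) = H20.emb e₀ * H20.emb e₀ from map_mul _ _ _, he₂,
      H20.eIdem_mul_self]
  set ι := MonoidAlgebra.mapDomainRingHom (H20.O M) H.subtype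
  set L := ι e₀
  have hin : ∀ c : H, L.coeff (c : G) = e₀.coeff c := fun c =>
    Finsupp.mapDomain_apply H.subtype_injective e₀.coeff c
  have hout : ∀ y : G, y ∉ H → L.coeff y = 0 := fun y hy =>
    Finsupp.mapDomain_of_notMem_range _ _ fun ⟨c, hc⟩ => hy (hc ▸ c.2)
  have hbc : ∀ c : H, (e₀.coeff c : ℂ) = blockCoeff b c := fun c => by
    have := congrArg (fun a : ℂ[H] => a.coeff c) he₂
    simpa [H20.coeff_emb, H20.eIdem] using this
  have hL : L * L = L := by rw [← map_mul, he₀₀]
  have hrd : H20.rd L = H23.eG M H b := by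
    ext y
    rw [H20.coeff_rd]
    by_cases hy : y ∈ H
    · have h1 := congrArg (fun a : (H20.k M)[H] => a.coeff ⟨y, hy⟩) he₁
      simp only [H20.coeff_rd, H20.coeff_eRed] at h1
      rw [hin ⟨y, hy⟩, h1, H23.coeff_eG, subgroupBlockCoeff, dif_pos hy]
    · rw [hout y hy, map_zero, H23.coeff_eG, subgroupBlockCoeff, dif_neg hy, H20.redC_zero]
  have hfix : H23.IsFix (Subgroup.zpowers (g : G)) L := by
    intro w hw y
    have hwC : w ∈ H := (Subgroup.zpowers_le).2 g.2 hw
    by_cases hy : y ∈ H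
    · rw [hin ⟨y, hy⟩, show w * y * w⁻¹ =
          (((⟨w, hwC⟩ : H) * ⟨y, hy⟩ * (⟨w, hwC⟩ : H)⁻¹ : H) : G) from rfl, hin]
      exact he₀ ⟨y, hy⟩ ⟨w, hwC⟩
    · rw [hout y hy, hout]
      intro h
      refine hy ?_
      have := mul_mem (mul_mem (inv_mem hwC) h) hwC
      simpa [mul_assoc] using this
  rw [← hrd, val_eq χ hL hfix, ← H20.sum_blockCoeff_mul b
    (H12.isClassFunction_res (H12.irr_isClassFunction χ) H)]
  rw [chv, ← Equiv.sum_comp (Equiv.mulRight (g : G))]
  simp only [sg, Equiv.coe_mulRight, H20.coeff_mul_single_one, mul_inv_cancel_right]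
  rw [← Finset.sum_subset (Finset.subset_univ (Finset.univ.filter fun y : G => y ∈ H))
    (fun y _ hy => by rw [hout y (by simpa using hy)]; simp),
    Finset.sum_subtype (Finset.univ.filter fun y : G => y ∈ H) (p := (· ∈ H)) (by simp)]
  exact Finset.sum_congr rfl fun c _ => by rw [hin, hbc]; rfl

open Classical in
/-- Cutting by the block idempotent. -/
theorem val_mul_eB {B : Set (IrrCharacter G)} (hB : IsPBlock M B) (χ : IrrCharacter G) {g : G}
    {ε : (H20.k M)[G]} (hε : ε * ε = ε) (hεf : H23.IsFix (Subgroup.zpowers g) ε) :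
    val χ g (ε * H23.eB M B) = if χ ∈ B then val χ g ε else 0 := by
  obtain ⟨LE, hLEcl, hLEr, hLEe⟩ := H20.exists_lift_eRed (H20.memRing_blockCoeff (M := M) hB)
  have hLE : LE * LE = LE := by
    apply H20.emb_injective
    rw [show H20.emb (LE * LE) = H20.emb LE * H20.emb LE from map_mul _ _ _, hLEe,
      H20.eIdem_mul_self]
  have hLEf : H23.IsFix (Subgroup.zpowers g) LE := fun w _ y => hLEcl y w
  obtain ⟨L, hL, hLr, hLf⟩ := exists_idem_lift hε hεf
  have hcomm : ∀ a : (H20.O M)[G], LE * a = a * LE :=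
    fun a => ((Subalgebra.mem_center_iff (R := H20.O M)).1
      (H23.mem_center_iff_coeff.2 fun x y => hLEcl y x) a).symm
  have hLL : L * LE * (L * LE) = L * LE := by
    rw [mul_assoc, ← mul_assoc LE L, hcomm L, mul_assoc, hLE, ← mul_assoc, hL]
  have hrd : H20.rd (L * LE) = ε * H23.eB M B := by rw [rd_mul, hLr, hLEr]
  have hc : ∀ k : G, (LE.coeff k : ℂ) = blockCoeff B k := fun k => by
    have := congrArg (fun z : ℂ[G] => z.coeff k) hLEe
    simpa [H20.coeff_emb, H20.eIdem] using this
  have hchv : ∀ a : (H20.O M)[G], chv χ (LE * a) = if χ ∈ B then chv χ a else 0 := by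
    intro a
    have h1 : chv χ (LE * a) = ∑ y : G, (a.coeff y : ℂ) *
        ∑ k : G, blockCoeff B k * (χ : G → ℂ) (k * y) := by
      simp only [chv, H20.coeff_mul_group]
      push_cast
      simp only [Finset.sum_mul, Finset.mul_sum]
      rw [Finset.sum_comm]
      conv_rhs => rw [Finset.sum_comm]
      refine Finset.sum_congr rfl fun k _ => ?_
      refine Fintype.sum_equiv (Equiv.mulLeft k⁻¹) _ _ fun y => ?_
      simp only [Equiv.coe_mulLeft, mul_inv_cancel_left, hc]
      ring
    rw [h1]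
    simp only [H20.sum_blockCoeff_mul_irr]
    split_ifs
    · rfl
    · simp
  rw [← hrd, val_eq χ hLL (hLf.mul hLEf), ← hcomm, mul_assoc, hchv]
  split_ifs
  · rw [← hLr, val_eq χ hL hLf]
  · rfl

/-- The local values of the composite with an automorphism. -/
theorem val_comp (χ χ' : IrrCharacter G) (α : G ≃* G)
    (hχ : ∀ c, (χ' : G → ℂ) c = (χ : G → ℂ) (α c)) {g : G} {ε : (H20.k M)[G]}
    (hε : ε * ε = ε) (hεf : H23.IsFix (Subgroup.zpowers g) ε) :
    val χ' g ε = val χ (α g) (MonoidAlgebra.domCongr (H20.k M) (H20.k M) α ε) := by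
  classical
  obtain ⟨L, hL, rfl, hLf⟩ := exists_idem_lift hε hεf
  let φ := MonoidAlgebra.domCongr (H20.O M) (H20.O M) α
  have hco : ∀ (a : (H20.O M)[G]) (y : G), (φ a).coeff (α y) = a.coeff y := fun a y =>
    Finsupp.mapDomain_apply α.injective a.coeff y
  have hrd : H20.rd (φ L) = MonoidAlgebra.domCongr (H20.k M) (H20.k M) α (H20.rd L) := by
    ext y
    obtain ⟨x, rfl⟩ := α.surjective y
    rw [H20.coeff_rd, hco, ← H20.coeff_rd]
    exact (Finsupp.mapDomain_apply α.injective (H20.rd L).coeff x).symm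
  have hfix : H23.IsFix (Subgroup.zpowers (α g)) (φ L) := by
    intro w hw y
    obtain ⟨i, rfl⟩ := Subgroup.mem_zpowers_iff.1 hw
    obtain ⟨x, rfl⟩ := α.surjective y
    rw [← map_zpow, ← map_inv, ← map_mul, ← map_mul, hco, hco]
    exact hLf _ ⟨i, rfl⟩ x
  rw [val_eq χ' hL hLf, ← hrd, val_eq χ (by rw [← map_mul, hL]) hfix, chv, chv]
  refine Fintype.sum_equiv α.toEquiv _ _ fun y => ?_
  show _ = ((φ L * sg (α g)).coeff (α y) : ℂ) * (χ : G → ℂ) (α y)
  rw [← hco (L * sg g) y, hχ, map_mul,
    show φ (sg g : (H20.O M)[G]) = sg (α g) from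
      MonoidAlgebra.domCongr_single α g 1]

end H85.Cyc
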