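import Cfsg.Agent.H85.Cyclic.Basic
import Cfsg.Agent.H85.Cyclic.Centre
import Cfsg.Agent.H19.IBr

/-!
Cyclic defect (helper85): a nilpotent block with cyclic defect group is uniserial; the irreducible
representations of a block are at most as many as its rank.
-/

set_option autoImplicit false
set_option linter.unusedSectionVars false
set_option linter.style.haveILetI false

open Cfsg Finset
open scoped MonoidAlgebra

namespace H85.Cyc

universe u w

variable {M : Ideal AlgInt} [hMp : M.IsPrime] {G : Type u} [Group G] [Fintype G] {p : ℕ}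
  [hp : Fact p.Prime] [CharP (H20.k M) p] [IsAlgClosed (H20.k M)]
  {B : Set (IrrCharacter G)} {P : Subgroup G} {e : (H20.k M)[G]}

/-- A nilpotent block with cyclic defect group has a uniserial basic algebra. -/
theorem exists_basic (hM : IsPModular p M) (hnil : IsNilpotentBlock p M B)
    (hcyc : IsCyclic P) (hmax : H23.IsMax p (H23.eB M B) P e) :
    ∃ X ε : (H20.k M)[G], Basic (H23.eB M B) (Nat.card P) X ε := by
  classical
  have hB : IsPBlock M B := hnil.1
  obtain ⟨θ, hinj, hrange, -, -, hdeg, hl, hk, -⟩ := exists_family hM hnil hcyc hmax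
  obtain ⟨X, hXcl, hXf, hXq, hXne⟩ := exists_centre hM hnil hcyc hmax
  obtain ⟨F⟩ := H19.PD.exists_frame (H20.k M) (A := (H20.k M)[G])
  obtain ⟨c, hc⟩ : ∃ c : H19.IBr.CB F B, ∀ d, d = c := by
    refine Fintype.card_eq_one_iff.1 ?_
    rw [← H19.IBr.blockRank_eq F hM hB, hl]
  have hθB : ∀ l, θ l ∈ B := fun l => hrange ▸ ⟨l, rfl⟩
  -- the decomposition numbers are one
  obtain ⟨m, hm0, hm⟩ := H19.IBr.exists_degree F hM hB c
  have hdec : ∀ χ ∈ B, charDegree (χ : G → ℂ) = H19.IBr.dnum F χ c.1 * m := by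
    intro χ hχ
    have h := congrFun (H19.IBr.pRegularPart_eq F hM hB hχ) 1
    rw [H22.pRegularPart_of_not_dvd _ (by rw [orderOf_one]; exact hp.out.not_dvd_one),
      Finset.sum_apply, Finset.sum_eq_single c (fun d _ hd => absurd (hc d) hd)
        (fun h => absurd (mem_univ c) h), Pi.smul_apply, smul_eq_mul, hm,
      H22.irr_one_eq_charDegree] at h
    exact_mod_cast h
  have hcd : ∀ χ ∈ B, charDegree (χ : G → ℂ) = charDegree (θ 1 : G → ℂ) := by
    intro χ hχ
    rw [← hrange] at hχ
    obtain ⟨l, rfl⟩ := hχ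
    rw [charDegree, charDegree, hdeg l]
  have hpos : 0 < charDegree (θ 1 : G → ℂ) := H22.charDegree_pos _
  have hdvd : charDegree (θ 1 : G → ℂ) ∣ m :=
    H19.IBr.dvd_degree F hM hB c (fun χ hχ => (hcd χ hχ).symm ▸ dvd_rfl) hm
  have hone : ∀ χ ∈ B, H19.IBr.dnum F χ c.1 = 1 := by
    intro χ hχ
    have h := hdec χ hχ
    rw [hcd χ hχ] at h
    have h1 := Nat.le_of_dvd hm0 hdvd
    have h2 : H19.IBr.dnum F χ c.1 * m ≤ 1 * m := by rw [one_mul, ← h]; exact h1
    have h3 := Nat.le_of_mul_le_mul_right h2 hm0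
    rcases Nat.eq_zero_or_pos (H19.IBr.dnum F χ c.1) with h0 | h0
    · rw [h0, zero_mul] at h; omega
    · omega
  -- the corner
  set ε := F.rep c.1 with hε
  have hεB : ε * H20.eRed M B = ε := c.2
  obtain ⟨eO, he, hei, hout⟩ := H20.BasicAlg.exists_lift_block hB (F.rep_prim c.1).idem hεB
  have hdim := H20.BasicAlg.finrank_corner_eq he hei hout
  rw [sum_congr rfl (g := fun _ => (1 : ℂ)) fun χ hχ => by
    rw [← H19.IBr.T_one_eq χ he hei, H19.IBr.dnum_spec, hone χ (H22.mem_blockFinset.1 hχ)]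
    simp, sum_const, nsmul_eq_mul, mul_one] at hdim
  rw [Nat.cast_inj, ← Nat.subtype_card (p := fun χ => χ ∈ B) _ fun χ => H22.mem_blockFinset,
    show Nat.card {χ // χ ∈ B} = Nat.card P from hk] at hdim
  have hcent : ∀ a, a * X = X * a := fun a => (hXcl.commute a).eq.symm
  have hcomm : ∀ a : (H20.k M)[G], Commute a X := hcent
  have hfc : ∀ a, a * H20.eRed M B = H20.eRed M B * a := H20.BasicAlg.cl_commute
  -- the generation
  have hgen : H23.eB M B = ∑ l ∈ univ.filter (fun l => F.cls l = c.1), F.U l * ε * F.V l := by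
    calc H23.eB M B = (∑ l, F.j l) * H20.eRed M B := by rw [F.sum_one, one_mul]
      _ = ∑ l, if F.cls l = c.1 then F.U l * ε * F.V l else 0 := by
        rw [sum_mul]
        refine sum_congr rfl fun l _ => ?_
        obtain ⟨h1, -, -, h4, -, -⟩ := F.uv_spec l
        have e1 : F.j l * H20.eRed M B =
            F.U l * (F.rep (F.cls l) * H20.eRed M B) * F.V l := by
          conv_lhs => rw [← h1, ← h4]
          simp only [mul_assoc]
          rw [hfc (F.V l)]
        rw [e1, H19.IBr.rep_mul_eRed F hB]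
        by_cases hcl : F.cls l = c.1
        · rw [if_pos hcl, if_pos (hcl ▸ c.2), hcl]
        · rw [if_neg hcl, if_neg (fun hin : H19.IBr.InBlk F B (F.cls l) => hcl (congrArg Subtype.val (hc ⟨_, hin⟩))), mul_zero,
            zero_mul]
      _ = _ := (sum_filter _ _).symm
  have hXε : X ^ (Nat.card P - 1) * ε ≠ 0 := by
    intro h0
    apply hXne
    rw [(hXcl.pow _).commute (H23.eB M B) |>.eq.symm, hgen, mul_sum]
    refine sum_eq_zero fun l _ => ?_
    rw [← mul_assoc, ← mul_assoc, ← ((hcomm (F.U l)).pow_right _).eq, mul_assoc (F.U l), h0,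
      mul_zero, zero_mul]
  have hεne : ε ≠ 0 := (F.rep_prim c.1).ne_zero
  have hεi : ε * ε = ε := (F.rep_prim c.1).idem
  have hqpos : 0 < Nat.card P := Nat.card_pos
  set q := Nat.card P
  have hli : LinearIndependent (H20.k M) fun i : Fin q => X ^ (i : ℕ) * ε := by
    rw [Fintype.linearIndependent_iff]
    intro g hg
    by_contra hcon
    push Not at hcon
    obtain ⟨i, hi, hmin⟩ := exists_min_image (univ.filter fun i => g i ≠ 0) (fun i => (i : ℕ))
      (let ⟨i, hi⟩ := hcon; ⟨i, by simpa using hi⟩)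
    have hi' : g i ≠ 0 := (mem_filter.1 hi).2
    have h := congrArg (fun z => X ^ (q - 1 - (i : ℕ)) * z) hg
    simp only [mul_zero, mul_sum, mul_smul_comm, ← mul_assoc, ← pow_add] at h
    rw [sum_eq_single i (fun j _ hj => by
      by_cases hgj : g j = 0
      · rw [hgj, zero_smul]
      · have h1 := hmin j (by simpa using hgj)
        have h2 : (j : ℕ) ≠ (i : ℕ) := fun h => hj (Fin.ext h)
        have h3 := i.isLt
        obtain ⟨d, hd⟩ := Nat.exists_eq_add_of_le (show q ≤ q - 1 - (i : ℕ) + j by omega)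
        rw [hd, pow_add, hXq, zero_mul, zero_mul, smul_zero]) (by simp),
      show q - 1 - (i : ℕ) + i = q - 1 by have := i.isLt; omega, smul_eq_zero] at h
    exact h.elim hi' hXε
  have hmem : ∀ i : Fin q, X ^ (i : ℕ) * ε ∈ H20.LocalAlg.corner (H20.k M) ε := fun i => by
    rw [H20.LocalAlg.mem_corner hεi, ← mul_assoc, ((hcomm ε).pow_right _).eq, mul_assoc, hεi]
    exact ⟨rfl, rfl⟩
  have hspan : Submodule.span (H20.k M) (Set.range fun i : Fin q => X ^ (i : ℕ) * ε) =
      H20.LocalAlg.corner (H20.k M) ε := by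
    refine Submodule.eq_of_le_of_finrank_eq (Submodule.span_le.2 ?_) ?_
    · rintro _ ⟨i, rfl⟩; exact hmem i
    · rw [finrank_span_eq_card hli, Fintype.card_fin, hdim]
  refine ⟨X, ε, hcent, hfc, H20.eRed_mul_self hB, hXf, hXq, hεi, hεB, ?_, fun x => ?_, hεne, hqpos⟩
  · set S := univ.filter (fun l => F.cls l = c.1)
    refine ⟨S.card, fun i => F.U (S.equivFin.symm i).1, fun i => F.V (S.equivFin.symm i).1, ?_⟩
    rw [hgen, ← sum_coe_sort S, ← Fintype.sum_equiv S.equivFin]
    intro l
    simp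
  · have hx : ε * x * ε ∈ Submodule.span (H20.k M) (Set.range fun i : Fin q => X ^ (i : ℕ) * ε) := by
      rw [hspan, H20.LocalAlg.mem_corner hεi]
      constructor
      · rw [← mul_assoc, ← mul_assoc, hεi]
      · rw [mul_assoc, hεi]
    obtain ⟨g, hg⟩ := (Submodule.mem_span_range_iff_exists_fun _).1 hx
    refine ⟨fun i => if h : i < q then g ⟨i, h⟩ else 0, ?_⟩
    rw [← hg, ← Fin.sum_univ_eq_sum_range fun i =>
      (if h : i < q then g ⟨i, h⟩ else 0) • (X ^ i * ε)]
    simp

/-- An irreducible representation on which a nonzero central idempotent acts as one. -/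
theorem exists_irr_of_idem {f : (H20.k M)[G]} (hf : f * f = f) (hfc : ∀ a, a * f = f * a)
    (hf0 : f ≠ 0) :
    ∃ (W : Type u) (_ : AddCommGroup W) (_ : Module (H20.k M) W)
      (_ : FiniteDimensional (H20.k M) W) (σ : Representation (H20.k M) G W),
      σ.IsIrreducible ∧ σ.asAlgebraHom f = 1 := by
  let ρ : Representation (H20.k M) G (H20.k M)[G] :=
    (Algebra.lmul (H20.k M) (H20.k M)[G]).toMonoidHom.comp (MonoidAlgebra.of (H20.k M) G)
  have hρ : ∀ a x, ρ.asAlgebraHom a x = a * x := by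
    intro a x
    induction a using MonoidAlgebra.induction_on with
    | of g => rw [Representation.asAlgebraHom_of]; rfl
    | add a b ha hb => simp [map_add, ha, hb, add_mul]
    | smul r a ha => simp [map_smul, ha]
  let S := LinearMap.range (LinearMap.mulLeft (H20.k M) f)
  have hS : ∀ g, ∀ v ∈ S, ρ g v ∈ S := by
    rintro g _ ⟨v, rfl⟩
    refine ⟨ρ g v, ?_⟩
    show f * (MonoidAlgebra.of (H20.k M) G g * v) = MonoidAlgebra.of (H20.k M) G g * (f * v)
    rw [← mul_assoc, ← hfc, mul_assoc]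
  have hfS : ∀ v ∈ S, f * v = v := by
    rintro _ ⟨v, rfl⟩
    simp [← mul_assoc, hf]
  have h1 : (subR ρ S hS).asAlgebraHom f = 1 := LinearMap.ext fun v => Subtype.ext (by
    rw [coe_subR, hρ, hfS _ v.2]; rfl)
  obtain ⟨T, hT, hirr⟩ := exists_irr_sub (subR ρ S hS) ⟨⟨f, 1, mul_one f⟩,
    fun h => hf0 (congrArg Subtype.val h)⟩
  exact ⟨T, inferInstance, inferInstance, inferInstance, subR (subR ρ S hS) T hT, hirr,
    subR_eq_one _ hT h1⟩

/-- The irreducible representations of a block are at most as many as its rank. -/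
theorem le_blockRank (hM : IsPModular p M) (hB : IsPBlock M B) {ι : Type*} [Fintype ι]
    {V : ι → Type w} [∀ i, AddCommGroup (V i)] [∀ i, Module (H20.k M) (V i)]
    [∀ i, FiniteDimensional (H20.k M) (V i)]
    (ρ : ∀ i, Representation (H20.k M) G (V i)) [∀ i, (ρ i).IsIrreducible]
    (heB : ∀ i, (ρ i).asAlgebraHom (H23.eB M B) = 1)
    (hne : ∀ i j, i ≠ j → ∀ T : V j →ₗ[H20.k M] V i,
      (∀ g w, T (ρ j g w) = ρ i g (T w)) → T = 0) :
    Fintype.card ι ≤ blockRank p B := by
  classical
  obtain ⟨F⟩ := H19.PD.exists_frame (H20.k M) (A := (H20.k M)[G])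
  have hex : ∀ i, ∃ c : H19.IBr.CB F B, (ρ i).asAlgebraHom (F.rep c.1) ≠ 0 := by
    intro i
    obtain ⟨l, hl⟩ : ∃ l, (ρ i).asAlgebraHom (F.rep (F.cls l)) ≠ 0 := by
      by_contra hcon
      push Not at hcon
      obtain ⟨v, hv⟩ := exists_ne_zero (ρ i)
      apply hv
      calc v = (ρ i).asAlgebraHom (∑ l, F.j l) v := by rw [F.sum_one, map_one]; rfl
        _ = 0 := by
          rw [map_sum, LinearMap.sum_apply]
          refine sum_eq_zero fun l _ => ?_
          obtain ⟨h1, -, -, h4, -, -⟩ := F.uv_spec l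
          rw [← h1, ← h4, map_mul, map_mul, hcon]
          simp
    refine ⟨⟨F.cls l, ?_⟩, hl⟩
    by_contra hin
    apply hl
    have h := congrArg (ρ i).asAlgebraHom (H19.IBr.rep_mul_eRed F hB (F.cls l))
    rw [if_neg hin, map_zero, map_mul, show (ρ i).asAlgebraHom (H20.eRed M B) = 1 from heB i,
      mul_one] at h
    exact h
  choose c hc using hex
  have hinj : Function.Injective c := by
    intro i j hij
    by_contra hne'
    obtain ⟨a, ha, ha'⟩ := exists_sep (ρ i) (ρ j) (hne i j hne')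
    have hi := F.rep_prim (c i).1
    set r := F.rep (c i).1 with hr
    have h1 : r * (r * a * r) = r * a * r := by rw [← mul_assoc, ← mul_assoc, hi.idem]
    have h2 : r * a * r * r = r * a * r := by rw [mul_assoc, hi.idem]
    have hz : (ρ i).asAlgebraHom (r * a * r) = (ρ i).asAlgebraHom r := by
      rw [map_mul, map_mul, ha, mul_one, ← map_mul, hi.idem]
    rcases hi.unit_or_nilpotent (k := H20.k M) h1 h2 with hn | ⟨y, -, -, hy, -⟩
    · obtain ⟨m, hm⟩ := hn
      apply hc i
      have h3 : ((ρ i).asAlgebraHom r) ^ (m + 1) = 0 := by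
        rw [← hz, ← map_pow, pow_succ, hm, zero_mul, map_zero]
      rwa [← map_pow, IsIdempotentElem.pow_succ_eq m hi.idem] at h3
    · apply hc j
      rw [← hij, ← hr, ← hy, map_mul, map_mul, map_mul, ha', mul_zero, zero_mul, zero_mul]
  rw [H19.IBr.blockRank_eq F hM hB]
  exact Fintype.card_le_of_injective c hinj

end H85.Cyc
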