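import Cfsg.Agent.H23.Pairs
import Mathlib.GroupTheory.GroupAction.Quotient

/-!
Cyclic defect (helper85): a central element of bounded defect is a relative trace.
-/

set_option autoImplicit false
set_option linter.unusedSectionVars false
set_option linter.style.haveILetI false

open Finset
open scoped MonoidAlgebra

namespace H85.Cyc

universe u v

variable {A : Type u} [Group A] [Fintype A] {k : Type v} [Field k] {p : ℕ} [hp : Fact p.Prime]
  [CharP k p]

open Classical in
/-- The count of the cosets sending a conjugate of `g` into the orbit of `g` under `R`. -/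
theorem card_orbit_cosets (R : Subgroup A) (g a : A) :
    (univ.filter fun q : A ⧸ R => ∃ r ∈ R, q.out⁻¹ * (a * g * a⁻¹) * q.out = r * g * r⁻¹).card =
      R.relIndex (Subgroup.centralizer ({g} : Set A)) := by
  set C := Subgroup.centralizer ({g} : Set A) with hC
  have hmem : ∀ c, c ∈ C ↔ c * g = g * c := fun c => by
    rw [hC, Subgroup.mem_centralizer_singleton_iff]
  let F : C ⧸ R.subgroupOf C → A ⧸ R := Quotient.lift (fun c : C => ((a * (c : A) : A) : A ⧸ R))
    fun c d hcd => by
      change (QuotientGroup.leftRel (R.subgroupOf C)) c d at hcd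
      rw [QuotientGroup.leftRel_apply, Subgroup.mem_subgroupOf] at hcd
      refine QuotientGroup.eq.2 ?_
      simpa [mul_assoc] using hcd
  have hF : Function.Injective F := by
    intro c d
    induction c using QuotientGroup.induction_on with | _ c => ?_
    induction d using QuotientGroup.induction_on with | _ d => ?_
    intro h
    refine QuotientGroup.eq.2 (Subgroup.mem_subgroupOf.2 ?_)
    have := QuotientGroup.eq.1 (h : ((a * (c : A) : A) : A ⧸ R) = ((a * (d : A) : A) : A ⧸ R))
    simpa [mul_assoc] using this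
  rw [Subgroup.relIndex, Subgroup.index, ← Nat.card_range_of_injective hF,
    ← Nat.subtype_card (p := fun q => q ∈ Set.range F)]
  intro q
  rw [mem_filter, and_iff_right (mem_univ q)]
  constructor
  · rintro ⟨r, hr, h⟩
    have hc : a⁻¹ * q.out * r ∈ C := by
      rw [hmem]
      calc a⁻¹ * q.out * r * g = a⁻¹ * q.out * (r * g * r⁻¹) * r := by group
        _ = g * (a⁻¹ * q.out * r) := by rw [← h]; group
    refine ⟨QuotientGroup.mk (⟨_, hc⟩ : C), ?_⟩
    show ((a * (a⁻¹ * q.out * r) : A) : A ⧸ R) = q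
    conv_rhs => rw [← q.out_eq]
    refine QuotientGroup.eq.2 ?_
    simpa [mul_assoc] using inv_mem hr
  · rintro ⟨c, rfl⟩
    induction c using QuotientGroup.induction_on with | _ c => ?_
    obtain ⟨r, hr⟩ := QuotientGroup.mk_out_eq_mul R (a * (c : A))
    refine ⟨(r : A)⁻¹, R.inv_mem r.2, ?_⟩
    show (Quotient.out ((a * (c : A) : A) : A ⧸ R))⁻¹ * _ * (Quotient.out ((a * (c : A) : A) : A ⧸ R)) = _
    rw [hr]
    have h2 := (hmem c).1 c.2
    calc (a * (c : A) * r)⁻¹ * (a * g * a⁻¹) * (a * (c : A) * r)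
        = (r : A)⁻¹ * ((c : A)⁻¹ * (g * (c : A))) * r := by group
      _ = _ := by rw [← h2]; group

open Classical in
/-- A class function of bounded defect is a relative trace. -/
theorem exists_trace_fun (R : Subgroup A) (φ : A → k) (hφ : ∀ g h, φ (h * g * h⁻¹) = φ g)
    (hdef : ∀ g, φ g ≠ 0 → ∀ S : Subgroup A, IsPGroup p S →
      S ≤ Subgroup.centralizer ({g} : Set A) → ∃ x, S ≤ H23.cjS x R) :
    ∃ ψ : A → k, (∀ g, ∀ r ∈ R, ψ (r * g * r⁻¹) = ψ g) ∧
      ∀ y, ∑ q : A ⧸ R, ψ (q.out⁻¹ * y * q.out) = φ y := by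
  induction hn : (univ.filter fun g => φ g ≠ 0).card using Nat.strong_induction_on generalizing φ
    with
  | _ n ih =>
    by_cases h0 : ∀ g, φ g = 0
    · exact ⟨0, fun _ _ _ => rfl, fun y => by simp [h0]⟩
    push Not at h0
    obtain ⟨g₀, hg₀⟩ := h0
    obtain ⟨S⟩ : Nonempty (Sylow p (Subgroup.centralizer ({g₀} : Set A))) := inferInstance
    obtain ⟨x, hx⟩ := hdef g₀ hg₀ _ (S.2.map _) (Subgroup.map_subtype_le _)
    -- a good member of the class
    obtain ⟨g, hgd⟩ : ∃ g, g = x⁻¹ * g₀ * x := ⟨_, rfl⟩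
    have hg : φ g ≠ 0 := by
      rw [hgd, show x⁻¹ * g₀ * x = x⁻¹ * g₀ * (x⁻¹)⁻¹ by rw [inv_inv], hφ]
      exact hg₀
    set C := Subgroup.centralizer ({g} : Set A) with hC
    have hCx : H23.cjS x⁻¹ (Subgroup.centralizer ({g₀} : Set A)) = C := by
      ext c
      rw [H23.mem_cjS, hC, Subgroup.mem_centralizer_singleton_iff,
        Subgroup.mem_centralizer_singleton_iff, hgd, inv_inv]
      constructor
      · intro h
        calc c * (x⁻¹ * g₀ * x) = x⁻¹ * (x * c * x⁻¹ * g₀) * x := by group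
          _ = _ := by rw [h]; group
      · intro h
        calc x * c * x⁻¹ * g₀ = x * (c * (x⁻¹ * g₀ * x)) * x⁻¹ := by group
          _ = _ := by rw [h]; group
    have hm : ¬ p ∣ R.relIndex C := by
      have h1 : H23.cjS x⁻¹ ((S : Subgroup (Subgroup.centralizer ({g₀} : Set A))).map (Subgroup.subtype _)) ≤ R ⊓ C :=
        le_inf (H23.cjS_inv_le hx) (hCx ▸ H23.cjS_mono _ (Subgroup.map_subtype_le _))
      have h2 : R.relIndex C = (R ⊓ C).relIndex C := (Subgroup.inf_relIndex_right R C).symm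
      rw [h2]
      intro hd
      have h3 := dvd_trans hd (Subgroup.relIndex_dvd_of_le_left C h1)
      have h4 : (H23.cjS x⁻¹ ((S : Subgroup (Subgroup.centralizer ({g₀} : Set A))).map (Subgroup.subtype _))).relIndex C =
          (S : Subgroup (Subgroup.centralizer ({g₀} : Set A))).index := by
        rw [← hCx, Subgroup.relIndex_map_map_of_injective _ _ (MulAut.conj x⁻¹).injective,
          Subgroup.relIndex]
        congr 1
        exact Subgroup.comap_map_eq_self_of_injective (Subgroup.subtype_injective _) _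
      rw [h4] at h3
      exact S.not_dvd_index h3
    have hm' : (R.relIndex C : k) ≠ 0 := by rwa [Ne, CharP.cast_eq_zero_iff k p]
    let φ' : A → k := fun y => if IsConj g y then 0 else φ y
    have hcard : (univ.filter fun y => φ' y ≠ 0).card < n := by
      rw [← hn]
      refine card_lt_card ⟨fun y hy => ?_, fun hsub => ?_⟩
      · simp only [mem_filter, mem_univ, true_and, φ'] at hy ⊢
        intro h
        exact hy (by simp [h])
      · have h1 : g ∈ univ.filter fun y => φ' y ≠ 0 := hsub (mem_filter.2 ⟨mem_univ _, hg⟩)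
        exact (mem_filter.1 h1).2 (if_pos (IsConj.refl g))
    have hconj : ∀ y h : A, IsConj g (h * y * h⁻¹) ↔ IsConj g y := fun y h =>
      ⟨fun hh => hh.trans (isConj_iff.2 ⟨h, rfl⟩).symm, fun hh => hh.trans (isConj_iff.2 ⟨h, rfl⟩)⟩
    obtain ⟨ψ', hψ1, hψ2⟩ := ih _ hcard φ'
      (fun y h => by simp only [φ', hconj, hφ])
      (fun y hy => hdef y fun h => hy (by simp [φ', h])) rfl
    refine ⟨fun y => (if ∃ r ∈ R, y = r * g * r⁻¹ then φ g / (R.relIndex C : k) else 0) + ψ' y,
      fun y r hr => ?_, fun y => ?_⟩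
    · show _ + _ = _ + _
      rw [hψ1 y r hr]
      congr 1
      refine if_congr ⟨?_, ?_⟩ rfl rfl
      · rintro ⟨s, hs, h⟩
        refine ⟨r⁻¹ * s, mul_mem (inv_mem hr) hs, ?_⟩
        calc y = r⁻¹ * (r * y * r⁻¹) * r := by group
          _ = _ := by rw [h]; group
      · rintro ⟨s, hs, rfl⟩
        exact ⟨r * s, mul_mem hr hs, by group⟩
    · rw [sum_add_distrib, hψ2, sum_ite, sum_const_zero, add_zero, sum_const, nsmul_eq_mul]
      by_cases hy : IsConj g y
      · obtain ⟨a, rfl⟩ := isConj_iff.1 hy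
        rw [card_orbit_cosets R g a, show φ' (a * g * a⁻¹) = 0 from if_pos hy, add_zero,
          mul_div_cancel₀ _ hm', hφ]
      · rw [show φ' y = φ y from if_neg hy, filter_eq_empty_iff.2 ?_]
        · simp
        · rintro q - ⟨r, -, hr⟩
          refine hy (isConj_iff.2 ⟨q.out * r, ?_⟩)
          calc q.out * r * g * (q.out * r)⁻¹ = q.out * (r * g * r⁻¹) * q.out⁻¹ := by group
            _ = y := by rw [← hr]; group

variable {G : Type u} [Group G] [Fintype G]

open Classical in
/-- A fixed element of defect at most `R` is a relative trace from `R`. -/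
theorem exists_trace {H R : Subgroup G} {f : k[G]} (hRH : R ≤ H) (hsupp : H23.Supp H f)
    (hfix : H23.IsFix H f) (hdef : H23.DefLE p H R f) [Fintype (H ⧸ R.subgroupOf H)] :
    ∃ z : k[G], H23.Supp H z ∧ H23.IsFix R z ∧
      ∑ q : H ⧸ R.subgroupOf H, H23.cj (q.out : G) z = f := by
  haveI := Fintype.ofFinite H
  obtain ⟨ψ, hψ1, hψ2⟩ := exists_trace_fun (p := p) (R.subgroupOf H) (fun g : H => f.coeff (g : G))
    (fun g h => by
      have := H23.isFix_iff_cj.1 hfix h h.2
      conv_lhs => rw [← this]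
      rw [H23.coeff_cj]
      congr 1
      simp [mul_assoc])
    (fun g hg S hS hSc => by
      obtain ⟨x, hx, hle⟩ := hdef g hg (S.map H.subtype) (hS.map _) (Subgroup.map_subtype_le _) (by
        rintro _ ⟨s, hs, rfl⟩
        exact Subgroup.mem_centralizer_singleton_iff.2
          (congrArg Subtype.val (Subgroup.mem_centralizer_singleton_iff.1 (hSc hs))))
      refine ⟨⟨x, hx⟩, fun s hs => ?_⟩
      have h1 := H23.mem_cjS.1 (hle ⟨s, hs, rfl⟩)
      rw [H23.mem_cjS, Subgroup.mem_subgroupOf]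
      simpa using h1)
  let z : k[G] := ∑ g : H, MonoidAlgebra.single (g : G) (ψ g)
  have hz : ∀ g : H, z.coeff (g : G) = ψ g := fun g => by
    simp [z, MonoidAlgebra.coeff_sum, Finsupp.finsetSum_apply, Finsupp.single_apply]
  have hz0 : ∀ g ∉ H, z.coeff g = 0 := fun g hg => by
    simp only [z, MonoidAlgebra.coeff_sum, Finsupp.finsetSum_apply, MonoidAlgebra.coeff_single]
    exact sum_eq_zero fun x _ => Finsupp.single_eq_of_ne fun h => hg (h ▸ x.2)
  refine ⟨z, hz0, H23.isFix_iff_cj.2 fun r hr => ?_, ?_⟩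
  · ext y
    rw [H23.coeff_cj]
    by_cases hy : y ∈ H
    · have h1 : r⁻¹ * y * r = ((⟨r, hRH hr⟩⁻¹ * ⟨y, hy⟩ * ⟨r, hRH hr⟩ : H) : G) := by simp
      rw [h1, hz]
      refine Eq.trans ?_ (hz ⟨y, hy⟩).symm
      have := hψ1 ⟨y, hy⟩ (⟨r, hRH hr⟩⁻¹) (inv_mem (by exact Subgroup.mem_subgroupOf.2 hr))
      simpa using this
    · rw [hz0 y hy, hz0]
      intro h
      exact hy (by simpa [mul_assoc] using mul_mem (mul_mem (hRH hr) h) (inv_mem (hRH hr)))
  · ext y
    simp only [MonoidAlgebra.coeff_sum, Finsupp.finsetSum_apply, H23.coeff_cj]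
    by_cases hy : y ∈ H
    · convert hψ2 ⟨y, hy⟩ using 2
      · ext q; simp
      · exact hz ((Quotient.out _)⁻¹ * ⟨y, hy⟩ * Quotient.out _)
    · have h0 : f.coeff y = 0 := hsupp y hy
      rw [h0]
      refine sum_eq_zero fun q _ => hz0 _ fun h => hy ?_
      simpa [mul_assoc] using mul_mem (mul_mem q.out.2 h) (inv_mem q.out.2)

end H85.Cyc
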