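import Cfsg.Agent.H85.Cyclic.Setup
import Cfsg.Agent.H85.Cyclic.Trace
import Cfsg.Agent.H85.Cyclic.Extend
import Cfsg.Agent.H85.Cyclic.Neg

/-!
Cyclic defect (helper85): the inertial index is at most the rank.
-/

set_option autoImplicit false
set_option linter.unusedSectionVars false
set_option linter.style.haveILetI false

open Cfsg Finset
open scoped MonoidAlgebra

namespace H85.Cyc

universe u v w

section General

variable {k : Type v} [Field k] {G : Type u} [Group G] {H : Type u} [Group H]
  {V : Type w} [AddCommGroup V] [Module k V]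

theorem comp_asAlgebraHom (π : Representation k G V) (ι : H →* G) (a : k[H]) :
    Representation.asAlgebraHom (π.comp ι) a =
      π.asAlgebraHom (MonoidAlgebra.mapDomainAlgHom k k ι a) := by
  induction a using MonoidAlgebra.induction_on with
  | of g =>
    rw [Representation.asAlgebraHom_of, MonoidAlgebra.of_apply, MonoidAlgebra.mapDomainAlgHom_apply,
      MonoidAlgebra.mapDomain_single, Representation.asAlgebraHom_single_one]
    rfl
  | add a b ha hb => rw [map_add, map_add, map_add, ha, hb]
  | smul r a ha => rw [map_smul, map_smul, map_smul, ha]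

theorem single_mul_cj (x : G) (a : k[G]) :
    MonoidAlgebra.single x 1 * a = H23.cj x a * MonoidAlgebra.single x 1 := by
  induction a using MonoidAlgebra.induction_on with
  | of g =>
    rw [MonoidAlgebra.of_apply, MonoidAlgebra.single_mul_single,
      show H23.cj x (MonoidAlgebra.single g (1 : k)) = MonoidAlgebra.single (x * g * x⁻¹) 1 by
        simp [H23.cj, MulAut.conj_apply],
      MonoidAlgebra.single_mul_single, inv_mul_cancel_right]
  | add a b ha hb => rw [mul_add, map_add, add_mul, ha, hb]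
  | smul r a ha => rw [map_smul, mul_smul_comm, smul_mul_assoc, ha]

theorem cj_eq_conj (π : Representation k G V) (x : G) (a : k[G]) :
    π.asAlgebraHom (H23.cj x a) = π x * π.asAlgebraHom a * π x⁻¹ := by
  rw [← Representation.asAlgebraHom_single_one, ← map_mul, single_mul_cj, map_mul, mul_assoc,
    Representation.asAlgebraHom_single_one, ← map_mul, mul_inv_cancel, map_one, mul_one]

variable [Fintype H] {W : Type w} [AddCommGroup W] [Module k W] [FiniteDimensional k W]

/-- From a non-negligible map to one on an irreducible representation. -/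
theorem devissage (ι : H →* G) (σ : Representation k H W) {f : k[G]} :
    ∀ (n : ℕ) (V : Type w) [AddCommGroup V] [Module k V] [FiniteDimensional k V]
      (π : Representation k G V), Module.finrank k V = n → π.asAlgebraHom f = 1 →
      ∀ φ : V →ₗ[k] W, (∀ h v, φ (π (ι h) v) = σ h (φ v)) → ¬ Neg (π.comp ι) σ φ →
        ∃ (S : Type w) (_ : AddCommGroup S) (_ : Module k S) (_ : FiniteDimensional k S)
          (πS : Representation k G S) (ψ : S →ₗ[k] W), πS.IsIrreducible ∧
          πS.asAlgebraHom f = 1 ∧ (∀ h v, ψ (πS (ι h) v) = σ h (ψ v)) ∧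
          ¬ Neg (πS.comp ι) σ ψ := by
  intro n
  induction n using Nat.strong_induction_on with
  | _ n ih =>
    intro V _ _ _ π hn hf φ hφ hneg
    have hV : ∃ v : V, v ≠ 0 := by
      by_contra hcon
      push Not at hcon
      refine hneg ⟨0, fun u => ?_⟩
      simp [hcon u]
    obtain ⟨S, hS, hirr⟩ := exists_irr_sub π hV
    by_cases h1 : Neg ((subR π S hS).comp ι) σ (φ ∘ₗ S.subtype)
    swap
    · exact ⟨S, inferInstance, inferInstance, inferInstance, subR π S hS, φ ∘ₗ S.subtype, hirr,
        subR_eq_one π hS hf, fun h v => hφ h v, h1⟩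
    obtain ⟨a, ha⟩ := h1
    obtain ⟨P, hP⟩ := LinearMap.exists_leftInverse_of_injective S.subtype S.ker_subtype
    let φ' := φ - trMap (π.comp ι) σ (a ∘ₗ P)
    have hφ' : ∀ h v, φ' (π (ι h) v) = σ h (φ' v) := fun h v => by
      show φ _ - trMap (π.comp ι) σ (a ∘ₗ P) ((π.comp ι) h v) = σ h (_ - _)
      rw [trMap_equivariant, hφ, map_sub]
    have hvan : S ≤ LinearMap.ker φ' := by
      intro s hs
      rw [LinearMap.mem_ker]
      show φ s - _ = 0
      rw [sub_eq_zero, trMap_apply]
      refine (ha ⟨s, hs⟩).trans (Finset.sum_congr rfl fun g _ => ?_)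
      congr 1
      show a _ = a (P ((π (ι g⁻¹)) s))
      congr 1
      exact (LinearMap.congr_fun hP ((subR π S hS) (ι g⁻¹) ⟨s, hs⟩)).symm
    obtain ⟨x, hx⟩ := exists_ne_zero (subR π S hS)
    have hpos : 0 < Module.finrank k S := Module.finrank_pos_iff_exists_ne_zero.2 ⟨x, hx⟩
    have hq := Submodule.finrank_quotient_add_finrank S
    refine ih (Module.finrank k (V ⧸ S)) (by omega) (V ⧸ S) (quotR π S hS) rfl
      (quotR_eq_one π hS hf) (S.liftQ φ' hvan) (fun h v => ?_) fun hn' => hneg ?_
    · induction v using Submodule.Quotient.induction_on with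
      | _ v => exact hφ' h v
    · have h2 : Neg (π.comp ι) σ φ' :=
        hn'.comp_right (U := V) (π.comp ι) ((quotR π S hS).comp ι) σ (ψ := S.mkQ) fun g u => rfl
      have h3 := h2.add _ _ (neg_trMap (π.comp ι) σ (a ∘ₗ P))
      rwa [show φ' + trMap (π.comp ι) σ (a ∘ₗ P) = φ from sub_add_cancel _ _] at h3

open Classical in
/-- A simple module over an idempotent with a non-negligible map to a representation of a subgroup. -/
theorem exists_simple_aux {k : Type v} [Field k] {G : Type u} [Group G] [Fintype G] {W : Type u}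
    [AddCommGroup W] [Module k W] [FiniteDimensional k W] (H : Subgroup G) (ρ : Representation k H W) {E : k[G]}
    (hE : E * E = E)
    (hEfix : ∀ x : G, MonoidAlgebra.single x 1 * E = E * MonoidAlgebra.single x 1)
    (hsum : ∀ w, ∑ x : H, E.coeff (x : G) • ρ x w = w)
    (hone' : ¬ Neg ρ ρ (LinearMap.id : W →ₗ[k] W)) :
    ∃ (V : Type u) (_ : AddCommGroup V) (_ : Module k V)
      (_ : FiniteDimensional k V) (π : Representation k G V)
      (ψ : V →ₗ[k] W), π.IsIrreducible ∧ π.asAlgebraHom E = 1 ∧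
      (∀ h v, ψ (π (H.subtype h) v) = ρ h (ψ v)) ∧ ¬ Neg (π.comp H.subtype) ρ ψ := by
  classical
  let V : Submodule (k) (G → W) :=
    { carrier := {F | ∀ (h : H) (x : G), F ((h : G) * x) = ρ h (F x)}
      add_mem' := fun {a b} ha hb h x => by simp [ha h x, hb h x]
      zero_mem' := fun h x => by simp
      smul_mem' := fun c a ha h x => by simp [ha h x] }
  let π₀ : Representation (k) G (G → W) :=
    { toFun := fun g => LinearMap.funLeft (k) W (· * g)
      map_one' := LinearMap.ext fun F => funext fun x => by simp [LinearMap.funLeft]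
      map_mul' := fun a b => LinearMap.ext fun F => funext fun x => by
        simp [LinearMap.funLeft, mul_assoc] }
  have hV : ∀ g, ∀ F ∈ V, π₀ g F ∈ V := fun g F hF h x => by
    show F ((h : G) * x * g) = ρ h (F (x * g))
    rw [mul_assoc]
    exact hF h (x * g)
  let π := subR π₀ V hV
  have heval : ∀ (a : k[G]) (F : G → W),
      π₀.asAlgebraHom a F 1 = ∑ x : G, a.coeff x • F x := by
    intro a F
    rw [show a = ∑ x : G, MonoidAlgebra.single x (a.coeff x) by
      ext y; simp [MonoidAlgebra.coeff_sum, Finsupp.single_apply], map_sum, LinearMap.sum_apply,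
      Finset.sum_apply]
    simp only [MonoidAlgebra.coeff_sum, Finsupp.finsetSum_apply, MonoidAlgebra.coeff_single,
      Finsupp.single_apply, Finset.sum_ite_eq', Finset.mem_univ, if_true]
    refine Finset.sum_congr rfl fun x _ => ?_
    rw [Representation.asAlgebraHom_single]
    show a.coeff x • F (1 * x) = _
    rw [one_mul]
  let V' := LinearMap.range (π.asAlgebraHom (E))
  have hV' : ∀ g, ∀ F ∈ V', π g F ∈ V' := by
    rintro g _ ⟨F, rfl⟩
    refine ⟨π g F, ?_⟩
    rw [← Module.End.mul_apply, ← Module.End.mul_apply, ← Representation.asAlgebraHom_single_one,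
      ← map_mul, ← map_mul, hEfix]
  let φ : V' →ₗ[k] W := LinearMap.proj (1 : G) ∘ₗ V.subtype ∘ₗ V'.subtype
  have hφ : ∀ h F, φ (subR π V' hV' (H.subtype h) F) = ρ h (φ F) := fun h F => by
    show (F.1.1 : G → W) (1 * (h : G)) = ρ h (F.1.1 1)
    rw [one_mul, ← F.1.2 h 1, mul_one]
  have hone : (subR π V' hV').asAlgebraHom (E) = 1 := by
    refine LinearMap.ext fun F => Subtype.ext ?_
    obtain ⟨F', hF'⟩ := F.2
    rw [coe_subR, Module.End.one_apply, ← hF', ← Module.End.mul_apply, ← map_mul,
      hE]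
  -- the embedding of `W`
  let j : W →ₗ[k] V :=
    { toFun := fun w => ⟨fun g => if hg : g ∈ H then ρ ⟨g, hg⟩ w else 0, fun h x => by
        show dite _ _ _ = ρ h (dite _ _ _)
        by_cases hx : x ∈ H
        · rw [dif_pos (mul_mem h.2 hx), dif_pos hx, ← Module.End.mul_apply, ← map_mul]
          rfl
        · rw [dif_neg hx, dif_neg ?_, map_zero]
          exact fun hm => hx ((H.mul_mem_cancel_left h.2).1 hm)⟩
      map_add' := fun a b => Subtype.ext (funext fun g => by
        by_cases hg : g ∈ H <;> simp [hg])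
      map_smul' := fun c a => Subtype.ext (funext fun g => by
        by_cases hg : g ∈ H <;> simp [hg]) }
  have hj : ∀ (h : H) w, j (ρ h w) = π (h : G) (j w) := fun h w =>
    Subtype.ext (funext fun g => by
      show (if hg : g ∈ H then ρ ⟨g, hg⟩ (ρ h w) else 0) =
        if hg : g * (h : G) ∈ H then ρ ⟨g * (h : G), hg⟩ w else 0
      by_cases hg : g ∈ H
      · rw [dif_pos hg, dif_pos (mul_mem hg h.2), ← Module.End.mul_apply, ← map_mul]
        rfl
      · rw [dif_neg hg, dif_neg fun hm => hg ((H.mul_mem_cancel_right h.2).1 hm)])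
  let j' : W →ₗ[k] V' := (π.asAlgebraHom (E) ∘ₗ j).codRestrict V'
    fun w => ⟨j w, rfl⟩
  have hφj : ∀ w, φ (j' w) = w := by
    intro w
    show ((π.asAlgebraHom (E) (j w) : V) : G → W) 1 = w
    rw [coe_subR, heval]
    refine Eq.trans ?_ (hsum w)
    rw [← Finset.sum_subset (Finset.subset_univ (univ.filter (· ∈ H))) fun x _ hx => by
      show _ • (if hg : x ∈ H then ρ ⟨x, hg⟩ w else 0) = 0
      rw [dif_neg (by simpa using hx), smul_zero],
      Finset.sum_subtype (p := (· ∈ H)) _ (by simp)]
    refine Finset.sum_congr rfl fun x _ => ?_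
    show _ • (if hg : (x : G) ∈ H then ρ ⟨x, hg⟩ w else 0) = _
    rw [dif_pos x.2]
  obtain ⟨πV, hπV⟩ : ∃ πV : Representation k G V', πV = subR π V' hV' := ⟨_, rfl⟩
  rw [← hπV] at hone
  have key := devissage (f := E) H.subtype ρ (Module.finrank k V') V'
  have key2 := key πV
  have key3 := key2 rfl
  refine key3 hone φ (fun h F => by rw [hπV]; exact hφ h F) fun h => hone' ?_
  rw [hπV] at h
  have h2 := h.comp_right (U := W) (W := V') ρ ((subR π V' hV').comp H.subtype) ρ (ψ := j')
    fun g v => Subtype.ext (by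
      show π.asAlgebraHom E (j (ρ g v)) = π (g : G) (π.asAlgebraHom _ (j v))
      rw [hj, ← Module.End.mul_apply, ← Module.End.mul_apply,
        ← Representation.asAlgebraHom_single_one, ← map_mul, ← map_mul, hEfix])
  rwa [show φ ∘ₗ j' = LinearMap.id from LinearMap.ext hφj] at h2

end General

namespace Setup

variable {M : Ideal AlgInt} [hMp : M.IsPrime] {G : Type u} [Group G] [Fintype G] {p : ℕ}
  [hp : Fact p.Prime] [CharP (H20.k M) p] [IsAlgClosed (H20.k M)] (S : Setup M G p)
  {W : Type u} [AddCommGroup W] [Module (H20.k M) W] [FiniteDimensional (H20.k M) W]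

theorem res_H1_eq : H23.res S.H1 S.f1 =
    MonoidAlgebra.mapDomainAlgHom (H20.k M) (H20.k M) (Subgroup.inclusion S.C1_le_H1)
      (H23.res S.C1 S.f1) := by
  refine H23.emb_injective S.H1 ?_
  rw [H23.emb_res S.cidem.supp]
  conv_lhs => rw [← H23.emb_res S.pair.2.cidem.supp]
  generalize H23.res S.C1 S.f1 = a
  rw [← AlgHom.comp_apply]
  induction a using MonoidAlgebra.induction_on with
  | of g => simp [H23.emb, MonoidAlgebra.mapDomain_single]
  | add a b ha hb => rw [map_add, map_add, ha, hb]
  | smul r a ha => rw [map_smul, map_smul, ha]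

/-- The extensions act on the block as one, and `D1` acts trivially. -/
theorem ext_props (σ : Representation (H20.k M) S.C1 W) [σ.IsIrreducible]
    (hσ : σ.asAlgebraHom (H23.res S.C1 S.f1) = 1) (ρ : Representation (H20.k M) S.H1 W)
    (hρ : ∀ c : S.C1, ρ (Subgroup.inclusion S.C1_le_H1 c) = σ c) :
    ρ.asAlgebraHom (H23.res S.H1 S.f1) = 1 ∧ ρ.IsIrreducible ∧
      ∀ d : S.H1, (d : G) ∈ S.D1 → ρ d = 1 := by
  have hcomp : ρ.comp (Subgroup.inclusion S.C1_le_H1) = σ := MonoidHom.ext hρ
  refine ⟨?_, isIrreducible_of ρ (exists_ne_zero σ) fun U hU => eq_bot_or_top σ U fun c v hv => ?_,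
    fun d hd => ?_⟩
  · rw [S.res_H1_eq, ← comp_asAlgebraHom, hcomp, hσ]
  · rw [← hρ]
    exact hU _ v hv
  · have hdC : (d : G) ∈ S.C1 := S.D_le_C1 (S.hD1 hd)
    have hd' : d = Subgroup.inclusion S.C1_le_H1 ⟨d, hdC⟩ := rfl
    rw [hd', hρ]
    set d' : S.C1 := ⟨d, hdC⟩
    obtain ⟨c, hc⟩ := eq_smul_of_commute σ (σ d') fun g => by
      rw [← map_mul, ← map_mul]
      congr 1
      exact Subtype.ext (Subgroup.mem_centralizer_iff.1 g.2 (d : G) hd)
    have hpow : d' ^ p = 1 := by
      refine Subtype.ext ?_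
      have h := pow_card_eq_one' (x := (⟨d, hd⟩ : S.D1))
      rw [S.hcard] at h
      simpa using congrArg Subtype.val h
    have h1 : (σ d') ^ p = 1 := by rw [← map_pow, hpow, map_one]
    rw [hc, smul_pow, one_pow] at h1
    obtain ⟨v, hv⟩ := exists_ne_zero σ
    have h2 := LinearMap.congr_fun h1 v
    rw [LinearMap.smul_apply, Module.End.one_apply] at h2
    have h3 : c ^ p = 1 := smul_left_injective (H20.k M) hv (h2.trans (one_smul _ v).symm)
    have h4 : (c - 1) ^ p = 0 := by rw [sub_pow_char, h3, one_pow, sub_self]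
    rw [hc, sub_eq_zero.1 (eq_zero_of_pow_eq_zero h4), one_smul]

open Classical in
/-- The part of the block idempotent in `H1` acts as one. -/
theorem sum_eB_smul (ρ : Representation (H20.k M) S.H1 W)
    (hf : ρ.asAlgebraHom (H23.res S.H1 S.f1) = 1)
    (hD : ∀ d : S.H1, (d : G) ∈ S.D1 → ρ d = 1) (w : W) :
    ∑ x : S.H1, (H23.eB M S.B).coeff (x : G) • ρ x w = w := by
  set E := H23.eB M S.B with hE
  set Bd := H23.Br S.D1 E with hBd
  have hres : ∀ (a : (H20.k M)[G]) (v : W),
      ρ.asAlgebraHom (H23.res S.H1 a) v = ∑ x : S.H1, a.coeff (x : G) • ρ x v := by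
    intro a v
    rw [show H23.res S.H1 a = ∑ x : S.H1, MonoidAlgebra.single x (a.coeff (x : G)) by
      ext y; simp [MonoidAlgebra.coeff_sum, Finsupp.single_apply], map_sum, LinearMap.sum_apply]
    exact Finset.sum_congr rfl fun x _ => by rw [Representation.asAlgebraHom_single]; rfl
  have h1 : ∑ x : S.H1, Bd.coeff (x : G) • ρ x w = w := by
    have hsupp : H23.Supp S.H1 Bd := (H23.supp_Br S.D1 E).mono S.C1_le_H1
    have hin : S.f1 * Bd = S.f1 := S.inBlk
    have h := congrArg (fun a => ρ.asAlgebraHom (H23.res S.H1 a) w) hin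
    simp only [H23.res_mul S.cidem.supp hsupp, map_mul, hf, one_mul] at h
    rw [hres] at h
    exact h.trans rfl
  have key : ∀ L : W →ₗ[H20.k M] H20.k M,
      ∑ x : S.H1, E.coeff (x : G) * L (ρ x w) = ∑ x : S.H1, Bd.coeff (x : G) * L (ρ x w) := by
    intro L
    have hP : IsPGroup p S.D1 := S.pair.1
    letI : MulAction S.D1 S.H1 := MulAction.compHom S.H1
      ((MulAut.conj).comp (Subgroup.inclusion (S.hD1.trans S.D_le_H1)))
    have hsmul : ∀ (d : S.D1) (x : S.H1), ((d • x : S.H1) : G) = d * x * (d : G)⁻¹ :=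
      fun d x => rfl
    have hfix : ∀ x : S.H1, x ∈ MulAction.fixedPoints S.D1 S.H1 ↔ (x : G) ∈ S.C1 := by
      intro x
      rw [MulAction.mem_fixedPoints, Subgroup.mem_centralizer_iff]
      constructor
      · intro h d hd
        have h2 := congrArg Subtype.val (h ⟨d, hd⟩)
        rw [hsmul] at h2
        exact mul_inv_eq_iff_eq_mul.1 h2
      · intro h d
        refine Subtype.ext ?_
        rw [hsmul, h d d.2, mul_inv_cancel_right]
    rw [H23.sum_eq_sum_fixedPoints p hP (fun x : S.H1 => E.coeff (x : G) * L (ρ x w)) ?_,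
      Finset.sum_filter]
    · refine Finset.sum_congr rfl fun x _ => ?_
      by_cases hx : (x : G) ∈ S.C1
      · rw [if_pos ((hfix x).2 hx), hBd, H23.coeff_Br_of_mem _ hx]
      · rw [if_neg (mt (hfix x).1 hx), hBd, H23.coeff_Br_of_notMem _ hx, zero_mul]
    · intro d x
      have hEfix : E.coeff ((d • x : S.H1) : G) = E.coeff (x : G) := by
        rw [hsmul]
        exact (H23.cidem_eB (M := M) S.hB).fix d (Subgroup.mem_top _) x
      have hd' : ∀ d : S.D1, ρ (Subgroup.inclusion (S.hD1.trans S.D_le_H1) d) = 1 :=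
        fun d => hD _ d.2
      have e1 : d • x = Subgroup.inclusion (S.hD1.trans S.D_le_H1) d * x *
          Subgroup.inclusion (S.hD1.trans S.D_le_H1) d⁻¹ := Subtype.ext (hsmul d x)
      show E.coeff ((d • x : S.H1) : G) * L (ρ (d • x) w) = _
      rw [hEfix, e1, map_mul, map_mul, hd', hd', one_mul, mul_one]
  refine Eq.trans ?_ h1
  by_contra hne
  obtain ⟨L, hL⟩ := Basic.exists_coord (K := H20.k M) (sub_ne_zero.2 hne)
  rw [map_sub, map_sum, map_sum] at hL
  simp only [map_smul, smul_eq_mul] at hL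
  rw [key L, sub_self] at hL
  exact zero_ne_one hL

open Classical in
/-- A simple module of the block with a non-negligible map to an extension. -/
theorem exists_simple (ρ : Representation (H20.k M) S.H1 W) (hW : ∃ w : W, w ≠ 0)
    (hf : ρ.asAlgebraHom (H23.res S.H1 S.f1) = 1)
    (hD : ∀ d : S.H1, (d : G) ∈ S.D1 → ρ d = 1) :
    ∃ (V : Type u) (_ : AddCommGroup V) (_ : Module (H20.k M) V)
      (_ : FiniteDimensional (H20.k M) V) (π : Representation (H20.k M) G V)
      (ψ : V →ₗ[H20.k M] W), π.IsIrreducible ∧ π.asAlgebraHom (H23.eB M S.B) = 1 ∧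
      (∀ h v, ψ (π (S.H1.subtype h) v) = ρ h (ψ v)) ∧ ¬ Neg (π.comp S.H1.subtype) ρ ψ := by
  obtain ⟨x, hx⟩ := exists_prime_orderOf_dvd_card' (G := S.D1) p (by rw [S.hcard])
  obtain ⟨w, hw⟩ := hW
  refine exists_simple_aux S.H1 ρ (H23.cidem_eB S.hB).idem
    (fun x => ?_) (S.sum_eB_smul ρ hf hD) ?_
  · rw [single_mul_cj, H23.cj_eq_self_of_central (H23.cidem_eB S.hB).fix x]
  · exact not_neg_one ρ (p := p) (x := (⟨x, S.D_le_H1 (S.hD1 x.2)⟩ : S.H1))
      (by rw [Subgroup.orderOf_mk, Subgroup.orderOf_coe, hx]) (hD _ x.2) hw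

end Setup

end H85.Cyc
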