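import Mathlib.LinearAlgebra.Dimension.Constructions
import Mathlib.LinearAlgebra.FiniteDimensional.Basic
import Mathlib.Algebra.Order.BigOperators.Group.Finset
import Mathlib.Tactic

/-!
Cyclic defect (helper85): integral rows with Gram matrix `I + e J` and at least `e + t` rows are the
signed unit rows and `e` signed constant rows.
-/

set_option autoImplicit false

open Finset

namespace H85.Cyc

universe u v

variable {R : Type u} [Fintype R] {Ω : Type v} [Fintype Ω]

theorem gram_sums [DecidableEq Ω] (r : R → Ω → ℤ) (e : ℕ)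
    (hgram : ∀ j k, ∑ χ, r χ j * r χ k = (if j = k then 1 else 0) + (e : ℤ)) :
    (∑ χ, ∑ j, r χ j ^ 2 = (Fintype.card Ω : ℤ) * (1 + e)) ∧
      ∑ χ, (∑ j, r χ j) ^ 2 = (Fintype.card Ω : ℤ) + e * (Fintype.card Ω : ℤ) ^ 2 := by
  constructor
  · rw [Finset.sum_comm]
    have h : ∀ j, ∑ χ, r χ j ^ 2 = 1 + (e : ℤ) := fun j => by
      simp_rw [pow_two]
      rw [hgram, if_pos rfl]
    simp [h]
  · simp_rw [pow_two, Finset.sum_mul_sum]
    rw [Finset.sum_comm]
    simp_rw [Finset.sum_comm (s := (Finset.univ : Finset R)), hgram, Finset.sum_add_distrib,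
      Finset.sum_ite_eq, if_pos (Finset.mem_univ _), Finset.sum_const, Finset.card_univ,
      nsmul_eq_mul, mul_one]
    ring

theorem sum_sq_sub (x : Ω → ℤ) :
    2 * ((Fintype.card Ω : ℤ) * ∑ j, x j ^ 2 - (∑ j, x j) ^ 2) = ∑ i, ∑ j, (x i - x j) ^ 2 := by
  simp_rw [sub_sq, Finset.sum_add_distrib, Finset.sum_sub_distrib, Finset.sum_const,
    Finset.card_univ, nsmul_eq_mul, ← Finset.mul_sum, mul_assoc, ← Finset.mul_sum, ← Finset.sum_mul]
  ring

/-- A non constant integral row has large variance. -/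
theorem variance_ge (x : Ω → ℤ) {a b : Ω} (h : x a ≠ x b) :
    (Fintype.card Ω : ℤ) - 1 ≤ (Fintype.card Ω : ℤ) * ∑ j, x j ^ 2 - (∑ j, x j) ^ 2 := by
  classical
  have hpos : ∀ i j, 0 ≤ (x i - x j) ^ 2 := fun i j => sq_nonneg _
  set A := Finset.univ.filter fun i => x i = x a
  have hone : ∀ i ∈ A, ∀ j ∈ Aᶜ, 1 ≤ (x i - x j) ^ 2 := by
    intro i hi j hj
    have h1 := (Finset.mem_filter.1 hi).2
    have h2 : x j ≠ x a := fun h' => (Finset.mem_compl.1 hj)
      (Finset.mem_filter.2 ⟨Finset.mem_univ _, h'⟩)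
    have : x i - x j ≠ 0 := sub_ne_zero.2 (h1 ▸ h2.symm)
    have := pow_two_pos_of_ne_zero this
    omega
  have h1 : ((A.card : ℤ) * Aᶜ.card) ≤ ∑ i ∈ A, ∑ j ∈ Aᶜ, (x i - x j) ^ 2 := by
    calc ((A.card : ℤ) * Aᶜ.card) = ∑ i ∈ A, ∑ j ∈ Aᶜ, (1 : ℤ) := by simp
      _ ≤ _ := Finset.sum_le_sum fun i hi => Finset.sum_le_sum fun j hj => hone i hi j hj
  have h2 : ∑ i ∈ Aᶜ, ∑ j ∈ A, (x i - x j) ^ 2 = ∑ i ∈ A, ∑ j ∈ Aᶜ, (x i - x j) ^ 2 := by
    rw [Finset.sum_comm]
    exact Finset.sum_congr rfl fun i _ => Finset.sum_congr rfl fun j _ => by ring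
  have h3 : ∑ i ∈ A, ∑ j ∈ Aᶜ, (x i - x j) ^ 2 + ∑ i ∈ Aᶜ, ∑ j ∈ A, (x i - x j) ^ 2 ≤
      ∑ i, ∑ j, (x i - x j) ^ 2 := by
    rw [← Finset.sum_add_sum_compl A (fun i => ∑ j, (x i - x j) ^ 2)]
    exact add_le_add
      (Finset.sum_le_sum fun i _ => Finset.sum_le_sum_of_subset_of_nonneg (Finset.subset_univ _)
        fun j _ _ => hpos i j)
      (Finset.sum_le_sum fun i _ => Finset.sum_le_sum_of_subset_of_nonneg (Finset.subset_univ _)
        fun j _ _ => hpos i j)
  have ha : 1 ≤ A.card := Finset.card_pos.2 ⟨a, by simp [A]⟩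
  have hb : 1 ≤ Aᶜ.card := Finset.card_pos.2 ⟨b, by simp [A, Ne.symm h]⟩
  have hc : (A.card : ℤ) + Aᶜ.card = Fintype.card Ω := by exact_mod_cast Finset.card_add_card_compl A
  have hsq := sum_sq_sub x
  nlinarith [mul_nonneg (sub_nonneg.2 (Int.ofNat_le.2 ha)) (sub_nonneg.2 (Int.ofNat_le.2 hb))]

variable (r : R → Ω → ℤ) (e : ℕ)

/-- There are at least as many non constant rows as columns. -/
theorem card_le_nonconst [DecidableEq Ω] (U : Finset R) (c : R → ℤ)
    (hc : ∀ χ ∉ U, ∀ j, r χ j = c χ) (ht : 2 ≤ Fintype.card Ω)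
    (hgram : ∀ j k, ∑ χ, r χ j * r χ k = (if j = k then 1 else 0) + (e : ℤ)) :
    Fintype.card Ω ≤ U.card := by
  classical
  let f : (Ω → ℚ) →ₗ[ℚ] (U → ℚ) :=
    { toFun := fun x χ => ∑ j, (r χ j : ℚ) * x j
      map_add' := fun x y => by funext χ; simp [mul_add, Finset.sum_add_distrib]
      map_smul' := fun a x => by funext χ; simp [Finset.mul_sum, mul_left_comm] }
  have hf : Function.Injective f := by
    rw [injective_iff_map_eq_zero]
    intro x hx
    set Qc : ℤ := ∑ χ ∈ Uᶜ, c χ ^ 2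
    have hU : ∀ j k, ∑ χ ∈ U, r χ j * r χ k = (if j = k then 1 else 0) + (e : ℤ) - Qc := by
      intro j k
      rw [← hgram, ← Finset.sum_add_sum_compl U, eq_sub_iff_add_eq, add_right_inj]
      exact Finset.sum_congr rfl fun χ hχ => by
        rw [hc χ (Finset.mem_compl.1 hχ), hc χ (Finset.mem_compl.1 hχ), pow_two]
    have hx' : ∀ j, x j + ((e : ℚ) - Qc) * ∑ k, x k = 0 := by
      intro j
      have h0 : ∑ χ ∈ U, (r χ j : ℚ) * ∑ k, (r χ k : ℚ) * x k = 0 :=
        Finset.sum_eq_zero fun χ hχ => by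
          have h : ∑ k, (r χ k : ℚ) * x k = 0 := congrFun hx ⟨χ, hχ⟩
          rw [h, mul_zero]
      simp_rw [Finset.mul_sum, ← mul_assoc] at h0
      rw [Finset.sum_comm] at h0
      simp_rw [← Finset.sum_mul] at h0
      have hq : ∀ k, ∑ χ ∈ U, (r χ j : ℚ) * r χ k = (if j = k then 1 else 0) + ((e : ℚ) - Qc) :=
        fun k => by
          rw [← add_sub_assoc]
          have := congrArg (fun z : ℤ => (z : ℚ)) (hU j k)
          push_cast at this
          exact this
      simp_rw [hq, add_mul, Finset.sum_add_distrib, ite_mul, one_mul, zero_mul,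
        Finset.sum_ite_eq, if_pos (Finset.mem_univ _), ← Finset.mul_sum] at h0
      exact h0
    have hS : (∑ j, x j) * (1 + (Fintype.card Ω : ℚ) * ((e : ℚ) - Qc)) = 0 := by
      have := Finset.sum_eq_zero fun j (_ : j ∈ Finset.univ) => hx' j
      rw [Finset.sum_add_distrib, Finset.sum_const, Finset.card_univ, nsmul_eq_mul] at this
      linear_combination this
    have hne : (1 + (Fintype.card Ω : ℚ) * ((e : ℚ) - Qc)) ≠ 0 := by
      intro h
      have hz : (1 : ℤ) + (Fintype.card Ω : ℤ) * ((e : ℤ) - Qc) = 0 := by exact_mod_cast h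
      have hd : (Fintype.card Ω : ℤ) ∣ 1 := ⟨-((e : ℤ) - Qc), by linear_combination hz⟩
      have := Int.le_of_dvd one_pos hd
      omega
    have hS0 := (mul_eq_zero.1 hS).resolve_right hne
    funext j
    have := hx' j
    rwa [hS0, mul_zero, add_zero] at this
  have h := LinearMap.finrank_le_finrank_of_injective hf
  rw [Module.finrank_fintype_fun_eq_card, Module.finrank_fintype_fun_eq_card,
    Fintype.card_coe] at h
  exact h

/-- The shape of the rows. -/
theorem shape [DecidableEq Ω] [DecidableEq R] [Nonempty Ω]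
    (hgram : ∀ j k, ∑ χ, r χ j * r χ k = (if j = k then 1 else 0) + (e : ℤ))
    (hne : ∀ χ, ∃ j, r χ j ≠ 0) (hcard : e + Fintype.card Ω ≤ Fintype.card R) :
    Fintype.card R = e + Fintype.card Ω ∧ ∃ (y : Ω → R) (δ : R → ℤ), Function.Injective y ∧
      (∀ χ, δ χ = 1 ∨ δ χ = -1) ∧ (∀ j k, r (y j) k = if j = k then δ (y j) else 0) ∧
      ∀ χ, (∀ j, y j ≠ χ) → ∀ k, r χ k = δ χ := by
  obtain ⟨j₀⟩ := ‹Nonempty Ω›
  rcases Nat.lt_or_ge (Fintype.card Ω) 2 with ht | ht
  · have hsub : Subsingleton Ω := Fintype.card_le_one_iff_subsingleton.1 (by omega)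
    have ht1 : Fintype.card Ω = 1 := le_antisymm (by omega) (Fintype.card_pos_iff.2 ⟨j₀⟩)
    have hnz : ∀ χ, r χ j₀ ≠ 0 := fun χ => by
      obtain ⟨j, hj⟩ := hne χ
      rwa [Subsingleton.elim j₀ j]
    have hge : ∀ χ ∈ (Finset.univ : Finset R), (1 : ℤ) ≤ r χ j₀ * r χ j₀ := fun χ _ => by
      have := mul_self_pos.2 (hnz χ)
      omega
    have hsum := hgram j₀ j₀
    rw [if_pos rfl] at hsum
    have hle := Finset.sum_le_sum hge
    rw [Finset.sum_const, Finset.card_univ, nsmul_one, hsum] at hle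
    have hk : Fintype.card R = e + 1 := by omega
    have hall : ∀ χ, r χ j₀ * r χ j₀ = 1 := by
      have h : ∑ _χ : R, (1 : ℤ) = ∑ χ, r χ j₀ * r χ j₀ := by
        rw [hsum, Finset.sum_const, Finset.card_univ, nsmul_one, hk]
        push_cast
        ring
      exact fun χ => ((Finset.sum_eq_sum_iff_of_le hge).1 h χ (Finset.mem_univ χ)).symm
    obtain ⟨χ₀⟩ : Nonempty R := Fintype.card_pos_iff.1 (by omega)
    refine ⟨by omega, fun _ => χ₀, fun χ => r χ j₀, fun a b _ => Subsingleton.elim a b,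
      fun χ => Int.eq_one_or_neg_one_of_mul_eq_one (hall χ), fun j k => ?_, fun χ _ k => ?_⟩
    · rw [if_pos (Subsingleton.elim j k), Subsingleton.elim k j₀]
    · rw [Subsingleton.elim k j₀]
  set t : ℤ := (Fintype.card Ω : ℤ) with ht'
  have ht2 : (2 : ℤ) ≤ t := by rw [ht']; exact_mod_cast ht
  set U := Finset.univ.filter fun χ => ¬ ∀ j, r χ j = r χ j₀
  have hcU : ∀ χ ∉ U, ∀ j, r χ j = r χ j₀ := fun χ hχ => by
    simpa [U] using hχ
  have hUt := card_le_nonconst r e U (fun χ => r χ j₀) hcU ht hgram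
  let V : R → ℤ := fun χ => ∑ j, r χ j ^ 2 + e * (t * ∑ j, r χ j ^ 2 - (∑ j, r χ j) ^ 2)
  let low : R → ℤ := fun χ => if χ ∈ U then 1 + e * (t - 1) else t
  have hQ : ∀ χ, 1 ≤ ∑ j, r χ j ^ 2 := fun χ => by
    obtain ⟨j, hj⟩ := hne χ
    have h1 := pow_two_pos_of_ne_zero hj
    have h2 := Finset.single_le_sum (fun i _ => sq_nonneg (r χ i)) (Finset.mem_univ j)
    omega
  have hconst : ∀ χ ∉ U, V χ = t * r χ j₀ ^ 2 := fun χ hχ => by
    simp only [V, hcU χ hχ, Finset.sum_const, Finset.card_univ, nsmul_eq_mul]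
    rw [← ht']
    ring
  have hlow : ∀ χ ∈ (Finset.univ : Finset R), low χ ≤ V χ := by
    intro χ _
    by_cases hχ : χ ∈ U
    · obtain ⟨j, hj⟩ := not_forall.1 (Finset.mem_filter.1 hχ).2
      have h := variance_ge (r χ) hj
      rw [← ht'] at h
      have h' : (e : ℤ) * (t - 1) ≤ e * (t * ∑ i, r χ i ^ 2 - (∑ i, r χ i) ^ 2) :=
        mul_le_mul_of_nonneg_left h (Nat.cast_nonneg e)
      simp only [low, if_pos hχ, V]
      linarith [hQ χ]
    · simp only [low, if_neg hχ, hconst χ hχ]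
      have : r χ j₀ ≠ 0 := by
        obtain ⟨j, hj⟩ := hne χ
        rwa [hcU χ hχ j] at hj
      have := pow_two_pos_of_ne_zero this
      nlinarith
  obtain ⟨hA, hB⟩ := gram_sums r e hgram
  have hV : ∑ χ, V χ = t * (1 + e * t) := by
    simp only [V, Finset.sum_add_distrib, ← Finset.mul_sum, Finset.sum_sub_distrib, hA, hB,
      ← ht']
    ring
  have hL : ∑ χ, low χ = (U.card : ℤ) * (1 + e * (t - 1)) + (Uᶜ.card : ℤ) * t := by
    rw [← Finset.sum_add_sum_compl U,
      Finset.sum_congr rfl (fun χ hχ => (if_pos hχ : low χ = 1 + (e : ℤ) * (t - 1))),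
      Finset.sum_congr rfl (fun χ hχ => (if_neg (Finset.mem_compl.1 hχ) : low χ = t)),
      Finset.sum_const, Finset.sum_const, nsmul_eq_mul, nsmul_eq_mul]
  have hk : (U.card : ℤ) + Uᶜ.card = Fintype.card R := by
    exact_mod_cast Finset.card_add_card_compl U
  have hle := Finset.sum_le_sum hlow
  rw [hV, hL] at hle
  have hUt' : t ≤ (U.card : ℤ) := by rw [ht']; exact_mod_cast hUt
  have hcard' : (e : ℤ) + t ≤ Fintype.card R := by rw [ht']; exact_mod_cast hcard
  have he1 : (0 : ℤ) ≤ ((e : ℤ) - 1) * (t - 1) ∨ e = 0 := by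
    rcases Nat.eq_zero_or_pos e with h | h
    · exact Or.inr h
    · exact Or.inl (mul_nonneg (by omega) (by omega))
  have hkk : (Fintype.card R : ℤ) = e + t ∧ (∀ χ, low χ = V χ) := by
    rcases he1 with he1 | he0
    · have key : ((Fintype.card R : ℤ) - e - t) * t +
          ((U.card : ℤ) - t) * (((e : ℤ) - 1) * (t - 1)) ≤ 0 := by
        rw [← hk]
        linarith
      have h1 : ((Fintype.card R : ℤ) - e - t) * t = 0 := by
        have := mul_nonneg (sub_nonneg.2 hUt') he1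
        have := mul_nonneg (show (0 : ℤ) ≤ (Fintype.card R : ℤ) - e - t by omega)
          (show (0 : ℤ) ≤ t by omega)
        omega
      refine ⟨by have := (mul_eq_zero.1 h1).resolve_right (by omega); omega, ?_⟩
      refine fun χ => (Finset.sum_eq_sum_iff_of_le hlow).1 ?_ χ (Finset.mem_univ χ)
      refine le_antisymm (Finset.sum_le_sum hlow) ?_
      rw [hV, hL]
      nlinarith [mul_nonneg (sub_nonneg.2 hUt') he1]
    · subst he0
      simp only [Nat.cast_zero, zero_mul, add_zero, mul_one] at hle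
      have hU1 : (Uᶜ.card : ℤ) = 0 := by
        have : (Uᶜ.card : ℤ) * 2 ≤ (Uᶜ.card : ℤ) * t :=
          mul_le_mul_of_nonneg_left ht2 (Nat.cast_nonneg _)
        omega
      refine ⟨?_, ?_⟩
      · rw [hU1, zero_mul] at hle
        omega
      · refine fun χ => (Finset.sum_eq_sum_iff_of_le hlow).1 ?_ χ (Finset.mem_univ χ)
        refine le_antisymm (Finset.sum_le_sum hlow) ?_
        rw [hV, hL, hU1]
        simp only [Nat.cast_zero, zero_mul, add_zero, mul_one]
        omega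
  obtain ⟨hk', heq⟩ := hkk
  -- the constant rows are signs, the others signed unit vectors
  have hsign : ∀ χ ∉ U, r χ j₀ * r χ j₀ = 1 := fun χ hχ => by
    have h := heq χ
    rw [hconst χ hχ] at h
    simp only [low, if_neg hχ] at h
    have : t * (r χ j₀ ^ 2 - 1) = 0 := by linear_combination -h
    have := (mul_eq_zero.1 this).resolve_left (by omega)
    linear_combination this
  have hunit : ∀ χ ∈ U, ∑ j, r χ j ^ 2 = 1 := fun χ hχ => by
    obtain ⟨j, hj⟩ := not_forall.1 (Finset.mem_filter.1 hχ).2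
    have h := variance_ge (r χ) hj
    rw [← ht'] at h
    have h' : (e : ℤ) * (t - 1) ≤ e * (t * ∑ i, r χ i ^ 2 - (∑ i, r χ i) ^ 2) :=
      mul_le_mul_of_nonneg_left h (Nat.cast_nonneg e)
    have h2 := heq χ
    simp only [low, if_pos hχ, V] at h2
    have := hQ χ
    omega
  have hoff : ∀ χ ∈ U, ∀ j k, j ≠ k → r χ j * r χ k = 0 := by
    intro χ hχ j k hjk
    by_contra h
    obtain ⟨h1, h2⟩ := mul_ne_zero_iff.1 h
    have h3 : ∑ i ∈ ({j, k} : Finset Ω), r χ i ^ 2 ≤ ∑ i, r χ i ^ 2 :=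
      Finset.sum_le_sum_of_subset_of_nonneg (Finset.subset_univ _) fun i _ _ => sq_nonneg _
    rw [Finset.sum_pair hjk, hunit χ hχ] at h3
    have := pow_two_pos_of_ne_zero h1
    have := pow_two_pos_of_ne_zero h2
    omega
  obtain ⟨a, b, hab⟩ := Fintype.one_lt_card_iff.1 ht
  have hUc : (Uᶜ.card : ℤ) = e := by
    have h := hgram a b
    rw [if_neg hab, zero_add, ← Finset.sum_add_sum_compl U,
      Finset.sum_eq_zero fun χ hχ => hoff χ hχ a b hab, zero_add,
      Finset.sum_congr rfl (fun χ hχ => show r χ a * r χ b = 1 by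
        rw [hcU χ (Finset.mem_compl.1 hχ) a, hcU χ (Finset.mem_compl.1 hχ) b,
          hsign χ (Finset.mem_compl.1 hχ)])] at h
    simpa using h
  have hex : ∀ j, ∃ χ ∈ U, r χ j ≠ 0 := by
    intro j
    by_contra h
    push Not at h
    have h1 := hgram j j
    rw [if_pos rfl, ← Finset.sum_add_sum_compl U,
      Finset.sum_eq_zero fun χ hχ => by rw [h χ hχ, zero_mul], zero_add,
      Finset.sum_congr rfl (fun χ hχ => show r χ j * r χ j = 1 by
        rw [hcU χ (Finset.mem_compl.1 hχ) j, hsign χ (Finset.mem_compl.1 hχ)]),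
      Finset.sum_const, nsmul_one] at h1
    omega
  choose y hyU hy using hex
  have hzero : ∀ j k, j ≠ k → r (y j) k = 0 := fun j k hjk =>
    (mul_eq_zero.1 (hoff _ (hyU j) j k hjk)).resolve_left (hy j)
  have hinj : Function.Injective y := fun j k h => by
    by_contra hjk
    exact hy k (h ▸ hzero j k hjk)
  have himg : Finset.univ.image y = U := by
    refine Finset.eq_of_subset_of_card_le (fun χ hχ => ?_) ?_
    · obtain ⟨j, -, rfl⟩ := Finset.mem_image.1 hχ
      exact hyU j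
    · rw [Finset.card_image_of_injective _ hinj, Finset.card_univ]
      omega
  refine ⟨by omega, y, fun χ => if χ ∈ U then ∑ j, r χ j else r χ j₀, hinj, fun χ => ?_,
    fun j k => ?_, fun χ hχ k => ?_⟩
  · by_cases hχ : χ ∈ U
    · simp only [if_pos hχ]
      obtain ⟨j, -, rfl⟩ := Finset.mem_image.1 (himg ▸ hχ : χ ∈ Finset.univ.image y)
      have h := hunit _ hχ
      rw [Finset.sum_eq_single j (fun i _ hi => hzero j i hi.symm) (by simp)]
      rw [Finset.sum_eq_single j (fun i _ hi => by rw [hzero j i hi.symm]; ring) (by simp)] at h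
      exact Int.eq_one_or_neg_one_of_mul_eq_one (by rw [← pow_two]; exact h)
    · simp only [if_neg hχ]
      exact Int.eq_one_or_neg_one_of_mul_eq_one (hsign χ hχ)
  · simp only [if_pos (hyU j)]
    rw [Finset.sum_eq_single j (fun i _ hi => hzero j i hi.symm) (by simp)]
    split_ifs with h
    · rw [h]
    · exact hzero j k h
  · have : χ ∉ U := fun h => by
      obtain ⟨j, -, hj⟩ := Finset.mem_image.1 (himg ▸ h : χ ∈ Finset.univ.image y)
      exact hχ j hj
    simp only [if_neg this]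
    exact hcU χ this k

end H85.Cyc
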