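import Cfsg.Agent.H85.Cyclic.Gram
import Cfsg.Agent.H85.Cyclic.Shape
import Cfsg.Agent.H85.Cyclic.Unique
import Cfsg.Agent.H22.RegProj
import Mathlib.LinearAlgebra.Finsupp.LinearCombination

/-!
Cyclic defect (helper85): Dade's theorem: the rank is the inertial index, the characters split into
non exceptional and exceptional ones, the heights are zero, the degrees are congruent.
-/

set_option autoImplicit false
set_option linter.unusedSectionVars false
set_option linter.style.haveILetI false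

open Cfsg H11.Star Finset
open scoped MonoidAlgebra ComplexConjugate

namespace H85.Cyc

universe u

variable {M : Ideal AlgInt} [hMp : M.IsPrime] {G : Type u} [Group G] [Fintype G] {p : ℕ}
  [hp : Fact p.Prime] [CharP (H20.k M) p] [IsAlgClosed (H20.k M)]

open Classical in
/-- An integral combination of a block vanishing at the singular elements has degree divisible by
the full `p`-part of the group order. -/
theorem pow_dvd_of_vanish (a : IrrCharacter G → ℤ) (s : Finset (IrrCharacter G))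
    (hv : ∀ g : G, p ∣ orderOf g → ∑ χ ∈ s, (a χ : ℂ) * (χ : G → ℂ) g = 0) :
    (p : ℤ) ^ (Nat.card G).factorization p ∣
      ∑ χ ∈ s, a χ * (charDegree (χ : G → ℂ) : ℤ) := by
  obtain ⟨P⟩ : Nonempty (Sylow p G) := inferInstance
  haveI := Fintype.ofFinite (P : Subgroup G)
  have hm : ∀ χ : IrrCharacter G, ∃ n : ℕ,
      classInner (fun h : (P : Subgroup G) => (χ : G → ℂ) (h : G))
        ((H12.oneIrr ↥(P : Subgroup G) : IrrCharacter ↥(P : Subgroup G)) : ↥(P : Subgroup G) → ℂ) = (n : ℂ) :=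
    fun χ => H12.IsCharacter.classInner_nat (H12.IsCharacter.res (H12.isCharacter_irr χ) _)
      (H12.isCharacter_irr _)
  choose n hn using hm
  refine ⟨∑ χ ∈ s, a χ * n χ, ?_⟩
  have h1 : classInner (fun h : (P : Subgroup G) => ∑ χ ∈ s, (a χ : ℂ) * (χ : G → ℂ) (h : G))
      ((H12.oneIrr ↥(P : Subgroup G) : IrrCharacter ↥(P : Subgroup G)) : ↥(P : Subgroup G) → ℂ) = ∑ χ ∈ s, (a χ : ℂ) * n χ := by
    rw [show (fun h : (P : Subgroup G) => ∑ χ ∈ s, (a χ : ℂ) * (χ : G → ℂ) (h : G)) =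
      ∑ χ ∈ s, (a χ : ℂ) • fun h : (P : Subgroup G) => (χ : G → ℂ) (h : G) from
      funext fun h => by simp [Finset.sum_apply], H12.classInner_sum_left]
    exact Finset.sum_congr rfl fun χ _ => by rw [H12.classInner_smul_left, hn]
  rw [H12.classInner_def, Finset.sum_eq_single (1 : (P : Subgroup G))] at h1
  · rw [H12.oneIrr_apply, map_one, mul_one, inv_mul_eq_iff_eq_mul₀
      (Nat.cast_ne_zero.2 Nat.card_pos.ne')] at h1
    have h2 : ((∑ χ ∈ s, a χ * (charDegree (χ : G → ℂ) : ℤ) : ℤ) : ℂ) =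
        (((Nat.card (P : Subgroup G) : ℤ) * ∑ χ ∈ s, a χ * n χ : ℤ) : ℂ) := by
      push_cast
      rw [← h1]
      exact Finset.sum_congr rfl fun χ _ => by rw [Subgroup.coe_one, H22.irr_one_eq_charDegree]
    rw [Int.cast_injective (α := ℂ) h2, Sylow.card_eq_multiplicity]
    push_cast
    rfl
  · intro h _ hh
    rw [hv (h : G), zero_mul]
    obtain ⟨k, hk⟩ := IsPGroup.iff_orderOf.1 P.isPGroup' h
    have hk0 : k ≠ 0 := fun h0 => hh (orderOf_eq_one_iff.1 (by rw [hk, h0, pow_zero]))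
    rw [Subgroup.orderOf_coe, hk]
    exact dvd_pow_self p hk0
  · exact fun h => absurd (Finset.mem_univ _) h

namespace Setup

variable (S : Setup M G p)

theorem card_D : Nat.card S.D = p ^ blockDefect p S.B := by
  obtain ⟨c, -, hcf⟩ := H23.exists_of_isPair S.hmax.1
  exact H20.card_defectGroup S.hM S.hB
    (H23.isDefectGroup_of_isMax S.hB (hcf.symm ▸ S.hmax))

open Classical in
/-- **Dade's theorem** on a block with a cyclic defect group. -/
theorem main (a : ℕ) (hDa : Nat.card S.D = p ^ a) :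
    blockRank p S.B = S.e ∧ (∀ χ ∈ S.B, blockHeight p S.B (χ : G → ℂ) = 0) ∧
    ∃ X Y : Set (IrrCharacter G), S.B = X ∪ Y ∧ Disjoint X Y ∧ Nat.card X = S.e ∧
      Nat.card Y = (p ^ a - 1) / S.e ∧
      (∀ ψ ∈ Y, ∀ ψ' ∈ Y, ∀ g : G, ¬ p ∣ orderOf g → (ψ : G → ℂ) g = (ψ' : G → ℂ) g) ∧
      ∃ (δ : IrrCharacter G → ℤ) (δ₀ : ℤ), (∀ χ ∈ X, δ χ = 1 ∨ δ χ = -1) ∧
        (δ₀ = 1 ∨ δ₀ = -1) ∧
        (∀ ψ ∈ Y, ∀ g : G, ¬ p ∣ orderOf g →
          (δ₀ : ℂ) * (ψ : G → ℂ) g + ∑ᶠ χ ∈ X, (δ χ : ℂ) * (χ : G → ℂ) g = 0) ∧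
        (∀ χ ∈ X, ∀ χ' ∈ X, δ χ * (charDegree (χ : G → ℂ) : ℤ) ≡
          δ χ' * (charDegree (χ' : G → ℂ) : ℤ) [ZMOD (p : ℤ) ^ a]) ∧
        (∀ ψ ∈ Y, ∀ χ ∈ X, (charDegree (ψ : G → ℂ) : ℤ) ≡
          -((S.e : ℤ) * δ₀ * δ χ * (charDegree (χ : G → ℂ) : ℤ)) [ZMOD (p : ℤ) ^ a]) := by
  obtain ⟨Ω, hΩ, r, hcard, hgram, hne, hvan⟩ := S.exists_data
  haveI := hΩ
  rw [hDa, Nat.card_eq_fintype_card] at hcard
  have he : 0 < S.e := Nat.pos_of_ne_zero fun h => S.p_ne_dvd_e (h ▸ dvd_zero p)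
  have hpD : p ∣ p ^ a := by
    have h := Subgroup.card_dvd_of_le S.hD1
    rwa [S.hcard, hDa] at h
  have ha : 1 ≤ a := by
    by_contra h
    rw [show a = 0 by omega, pow_zero, Nat.dvd_one] at hpD
    exact hp.out.one_lt.ne hpD.symm
  haveI hΩne : Nonempty Ω := Fintype.card_pos_iff.1 (Nat.pos_of_ne_zero fun h => by
    rw [h, zero_mul, zero_add] at hcard
    rw [← hcard, Nat.dvd_one] at hpD
    exact hp.out.one_lt.ne hpD.symm)
  obtain ⟨j₀⟩ := id hΩne
  have hBfin : ∀ f : IrrCharacter G → ℤ,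
      ∑ χ : ↥(H22.blockFinset S.B), f χ = ∑ χ ∈ H22.blockFinset S.B, f χ :=
    fun f => Finset.sum_coe_sort (H22.blockFinset S.B) f
  have hcardB : Fintype.card ↥(H22.blockFinset S.B) = Nat.card S.B := by
    rw [← Nat.card_eq_fintype_card]
    exact Nat.card_congr (Equiv.subtypeEquivRight fun χ => H22.mem_blockFinset)
  -- the regular restrictions
  let L : (↥(H22.blockFinset S.B) → ℂ) →ₗ[ℂ] (G → ℂ) :=
    Fintype.linearCombination ℂ
      fun χ : ↥(H22.blockFinset S.B) => pRegularPart p ((χ : IrrCharacter G) : G → ℂ)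
  have hrange : Module.finrank ℂ (LinearMap.range L) = blockRank p S.B := by
    rw [Fintype.range_linearCombination, blockRank, Set.image_eq_range]
    rw [show (Submodule.span ℂ (Set.range fun χ : ↥(H22.blockFinset S.B) =>
        pRegularPart p ((χ : IrrCharacter G) : G → ℂ))) = Submodule.span ℂ (Set.range
        fun χ : ↑S.B => pRegularPart p ((χ : IrrCharacter G) : G → ℂ)) from congrArg _ (Set.ext
          fun f => ⟨fun ⟨χ, hχ⟩ => ⟨⟨χ, H22.mem_blockFinset.1 χ.2⟩, hχ⟩,
            fun ⟨χ, hχ⟩ => ⟨⟨χ, H22.mem_blockFinset.2 χ.2⟩, hχ⟩⟩)]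
  let R : (Ω → ℂ) →ₗ[ℂ] (↥(H22.blockFinset S.B) → ℂ) :=
    Fintype.linearCombination ℂ fun j => fun χ : ↥(H22.blockFinset S.B) => (r χ j : ℂ)
  have hR : ∀ x χ, R x χ = ∑ j, x j * (r (χ : IrrCharacter G) j : ℂ) := fun x χ => by
    simp [R, Fintype.linearCombination_apply, Finset.sum_apply]
  have hLR : ∀ x, L (R x) = 0 := by
    intro x
    funext g
    rw [Fintype.linearCombination_apply, Finset.sum_apply, Pi.zero_apply]
    simp only [Pi.smul_apply, smul_eq_mul, hR, H22.pRegularPart_apply]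
    by_cases hg : p ∣ orderOf g
    · simp [hg]
    simp only [if_neg hg, Finset.sum_mul]
    rw [Finset.sum_comm]
    refine Finset.sum_eq_zero fun j _ => ?_
    simp only [mul_assoc, ← Finset.mul_sum]
    rw [Finset.sum_coe_sort (H22.blockFinset S.B) (fun χ => (r χ j : ℂ) * (χ : G → ℂ) g),
      hvan j g hg, mul_zero]
  have hRinj : Function.Injective R := by
    rw [injective_iff_map_eq_zero]
    intro x hx
    have h : ∀ k, x k + (S.e : ℂ) * ∑ j, x j = 0 := by
      intro k
      have h0 : ∑ χ : ↥(H22.blockFinset S.B), (r (χ : IrrCharacter G) k : ℂ) * R x χ = 0 :=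
        Finset.sum_eq_zero fun χ _ => by rw [congrFun hx χ, Pi.zero_apply, mul_zero]
      simp only [hR, Finset.mul_sum] at h0
      rw [Finset.sum_comm] at h0
      have hq : ∀ j, ∑ χ : ↥(H22.blockFinset S.B), (r (χ : IrrCharacter G) k : ℂ) *
          (x j * (r (χ : IrrCharacter G) j : ℂ)) = x j * ((if k = j then 1 else 0) + (S.e : ℂ)) :=
        fun j => by
          rw [Finset.sum_congr rfl fun χ _ => mul_left_comm _ (x j) _, ← Finset.mul_sum]
          congr 1
          have h := congrArg (fun z : ℤ => (z : ℂ))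
            ((hBfin fun χ => r χ k * r χ j).trans (hgram k j))
          push_cast at h
          exact h
      simp only [hq, mul_add, Finset.sum_add_distrib, mul_ite, mul_one, mul_zero,
        Finset.sum_ite_eq, if_pos (Finset.mem_univ k), ← Finset.sum_mul] at h0
      rw [mul_comm] at h0
      exact h0
    have hS : (∑ j, x j) * ((p ^ a : ℕ) : ℂ) = 0 := by
      have := Finset.sum_eq_zero fun k (_ : k ∈ Finset.univ) => h k
      rw [Finset.sum_add_distrib, Finset.sum_const, Finset.card_univ, nsmul_eq_mul] at this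
      rw [← hcard]
      push_cast
      linear_combination this
    have hS0 := (mul_eq_zero.1 hS).resolve_right (Nat.cast_ne_zero.2 (pow_ne_zero _ hp.out.ne_zero))
    funext k
    have := h k
    rwa [hS0, mul_zero, add_zero] at this
  have hle : LinearMap.range R ≤ LinearMap.ker L := by
    rintro _ ⟨x, rfl⟩
    exact LinearMap.mem_ker.2 (hLR x)
  have hrn := LinearMap.finrank_range_add_finrank_ker L
  rw [hrange, Module.finrank_fintype_fun_eq_card] at hrn
  have hfr : Module.finrank ℂ (LinearMap.range R) = Fintype.card Ω := by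
    rw [LinearMap.finrank_range_of_inj hRinj, Module.finrank_fintype_fun_eq_card]
  have hker := Submodule.finrank_mono hle
  have hl := S.index_le_blockRank
  obtain ⟨hk, y, δ, hy, hδ, hunit, hconst⟩ := shape
    (fun (χ : ↥(H22.blockFinset S.B)) (j : Ω) => r χ j) S.e
    (fun j k => by rw [hBfin fun χ => r χ j * r χ k]; exact hgram j k)
    (fun χ => hne χ (H22.mem_blockFinset.1 χ.2)) (by omega)
  have hlB : blockRank p S.B = S.e := by omega
  have hkerR : LinearMap.range R = LinearMap.ker L :=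
    Submodule.eq_of_le_of_finrank_le hle (by omega)
  -- the two sets
  set Y' : Finset ↥(H22.blockFinset S.B) := Finset.univ.image y
  have hmemY : ∀ χ, χ ∉ Y' ↔ ∀ j, y j ≠ χ := fun χ => by simp [Y']
  -- the sign of the exceptional characters
  have hrel : ∀ j (g : G), ¬ p ∣ orderOf g →
      (δ (y j) : ℂ) * ((y j : IrrCharacter G) : G → ℂ) g +
        ∑ χ ∈ Y'ᶜ, (δ χ : ℂ) * ((χ : IrrCharacter G) : G → ℂ) g = 0 := by
    intro j g hg
    have h := hvan j g hg
    rw [← Finset.sum_coe_sort (H22.blockFinset S.B) (fun χ => (r χ j : ℂ) * (χ : G → ℂ) g),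
      ← Finset.sum_add_sum_compl Y', Finset.sum_image fun a _ b _ h => hy h,
      Finset.sum_eq_single j (fun i _ hi => by rw [hunit i j, if_neg hi, Int.cast_zero, zero_mul])
        (by simp), hunit j j, if_pos rfl] at h
    refine Eq.trans (congrArg _ (Finset.sum_congr rfl fun χ hχ => ?_)) h
    rw [hconst χ ((hmemY χ).1 (Finset.mem_compl.1 hχ)) j]
  set δ₀ := δ (y j₀)
  have hdeg : ∀ χ : IrrCharacter G, (χ : G → ℂ) 1 = (charDegree (χ : G → ℂ) : ℂ) :=
    H22.irr_one_eq_charDegree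
  have hsame : ∀ j, δ (y j) = δ₀ ∧ ∀ g : G, ¬ p ∣ orderOf g →
      ((y j : IrrCharacter G) : G → ℂ) g = ((y j₀ : IrrCharacter G) : G → ℂ) g := by
    intro j
    have h1 : ¬ p ∣ orderOf (1 : G) := by rw [orderOf_one]; exact hp.out.not_dvd_one
    have h : δ (y j) * (charDegree ((y j : IrrCharacter G) : G → ℂ) : ℤ) =
        δ₀ * (charDegree ((y j₀ : IrrCharacter G) : G → ℂ) : ℤ) := by
      apply Int.cast_injective (α := ℂ)
      push_cast
      rw [← hdeg, ← hdeg]
      linear_combination hrel j 1 h1 - hrel j₀ 1 h1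
    have hd := H22.charDegree_pos (y j : IrrCharacter G)
    have hd₀ := H22.charDegree_pos (y j₀ : IrrCharacter G)
    have hs : δ (y j) = δ₀ := by
      rcases hδ (y j) with h' | h' <;> rcases hδ (y j₀) with h'' | h'' <;>
        simp only [δ₀, h', h''] at h ⊢ <;> omega
    refine ⟨hs, fun g hg => ?_⟩
    have h2 : (δ₀ : ℂ) * ((y j : IrrCharacter G) : G → ℂ) g =
        (δ₀ : ℂ) * ((y j₀ : IrrCharacter G) : G → ℂ) g := by
      have h3 := hrel j g hg
      rw [hs] at h3
      linear_combination h3 - hrel j₀ g hg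
    refine mul_left_cancel₀ ?_ h2
    rcases hδ (y j₀) with h' | h' <;> simp [δ₀, h']
  -- congruences
  set A := (Nat.card G).factorization p
  let d : ↥(H22.blockFinset S.B) → ℤ := fun χ => (charDegree ((χ : IrrCharacter G) : G → ℂ) : ℤ)
  have hcong : ∀ c : ↥(H22.blockFinset S.B) → ℤ,
      (∀ j, ∑ χ, c χ * r (χ : IrrCharacter G) j = 0) → (p : ℤ) ^ A ∣ ∑ χ, c χ * d χ := by
    intro c hc
    let c' : IrrCharacter G → ℤ := fun χ => if h : χ ∈ H22.blockFinset S.B then c ⟨χ, h⟩ else 0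
    have hc' : ∀ χ : ↥(H22.blockFinset S.B), c' χ = c χ := fun χ => dif_pos χ.2
    let f : G → ℂ := ∑ χ ∈ H22.blockFinset S.B, (c' χ : ℂ) • (χ : G → ℂ)
    have hf : f ∈ H22.Sub.irrSpan S.B := Submodule.sum_mem _ fun χ hχ =>
      Submodule.smul_mem _ _ (Submodule.subset_span ⟨χ, H22.mem_blockFinset.1 hχ, rfl⟩)
    let g : G → ℂ := f - pRegularPart p f
    have hreg : pRegularPart p f ∈ H22.Sub.regSpan p S.B := by
      rw [← H22.Sub.regMap_apply, ← H22.Sub.blockPart_of_mem_irrSpan hf]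
      exact H22.Sub.regMap_blockPart_mem _ _
    have hg : g ∈ H22.Sub.irrSpan S.B :=
      Submodule.sub_mem _ hf (H22.Sub.regSpan_le_irrSpan S.hM S.hB hreg)
    have hg0 : ∀ w, ¬ p ∣ orderOf w → g w = 0 := fun w hw => by
      simp [g, H22.pRegularPart_apply, hw]
    have hgexp := H22.Sub.blockPart_eq_smul_sum S.B g
    rw [H22.Sub.blockPart_of_mem_irrSpan hg] at hgexp
    have hgk : (fun χ : ↥(H22.blockFinset S.B) => classInner g ((χ : IrrCharacter G) : G → ℂ)) ∈
        LinearMap.range R := by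
      rw [hkerR, LinearMap.mem_ker]
      funext w
      rw [Fintype.linearCombination_apply, Finset.sum_apply, Pi.zero_apply]
      simp only [Pi.smul_apply, smul_eq_mul, H22.pRegularPart_apply]
      by_cases hw : p ∣ orderOf w
      · simp [hw]
      simp only [if_neg hw]
      have h := congrFun hgexp w
      rw [hg0 w hw, Finset.sum_apply] at h
      rw [Finset.sum_coe_sort (H22.blockFinset S.B)
        (fun χ => classInner g (χ : G → ℂ) * (χ : G → ℂ) w)]
      exact h.symm
    obtain ⟨x, hx⟩ := hgk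
    have horth : classInner f g = 0 := by
      simp only [f, H12.classInner_sum_left, H12.classInner_smul_left]
      rw [← Finset.sum_coe_sort (H22.blockFinset S.B)
        (fun χ => (c' χ : ℂ) * classInner (χ : G → ℂ) g)]
      have hterm : ∀ χ : ↥(H22.blockFinset S.B),
          (c' χ : ℂ) * classInner ((χ : IrrCharacter G) : G → ℂ) g =
            ∑ j, conj (x j) * ((c χ * r (χ : IrrCharacter G) j : ℤ) : ℂ) := by
        intro χ
        rw [← H12.conj_classInner, ← congrFun hx χ, hR, map_sum, hc', Finset.mul_sum]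
        refine Finset.sum_congr rfl fun j _ => ?_
        rw [map_mul, map_intCast]
        push_cast
        ring
      rw [Finset.sum_congr rfl fun χ _ => hterm χ, Finset.sum_comm]
      refine Finset.sum_eq_zero fun j _ => ?_
      rw [← Finset.mul_sum, ← Int.cast_sum, hc j, Int.cast_zero, mul_zero]
    have hgz : g = 0 := by
      rw [← H12.classInner_self_eq_zero_iff, ← horth, H12.classInner_def, H12.classInner_def]
      congr 1
      refine Finset.sum_congr rfl fun w _ => ?_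
      by_cases hw : p ∣ orderOf w
      · rw [show g w = f w by simp [g, H22.pRegularPart_apply, hw]]
      · rw [hg0 w hw]; simp
    have hv : ∀ w : G, p ∣ orderOf w →
        ∑ χ ∈ H22.blockFinset S.B, (c' χ : ℂ) * (χ : G → ℂ) w = 0 := by
      intro w hw
      have h := congrFun hgz w
      simp only [g, Pi.sub_apply, Pi.zero_apply, H22.pRegularPart_apply,
        if_pos hw, sub_zero] at h
      simpa [f, Finset.sum_apply] using h
    have h := pow_dvd_of_vanish c' (H22.blockFinset S.B) hv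
    rw [← Finset.sum_coe_sort (H22.blockFinset S.B)
      (fun χ => c' χ * (charDegree (χ : G → ℂ) : ℤ))] at h
    simpa only [hc'] using h
  have hXcong : ∀ χ ∉ Y', ∀ χ' ∉ Y', (p : ℤ) ^ A ∣ δ χ * d χ - δ χ' * d χ' := by
    intro χ hχ χ' hχ'
    have h := hcong (fun φ => (if φ = χ then δ χ else 0) - (if φ = χ' then δ χ' else 0)) fun j => by
      simp only [sub_mul, ite_mul, zero_mul, Finset.sum_sub_distrib, Finset.sum_ite_eq',
        if_pos (Finset.mem_univ _), hconst χ ((hmemY χ).1 hχ) j, hconst χ' ((hmemY χ').1 hχ') j]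
      rcases hδ χ with h | h <;> rcases hδ χ' with h' | h' <;> simp [h, h']
    simpa only [sub_mul, ite_mul, zero_mul, Finset.sum_sub_distrib, Finset.sum_ite_eq',
      if_pos (Finset.mem_univ _)] using h
  have hsq : δ₀ * δ₀ = 1 := by rcases hδ (y j₀) with h | h <;> simp [δ₀, h]
  have hdY : ∀ j, d (y j) = d (y j₀) := fun j => by
    have h := (hsame j).2 1 (by rw [orderOf_one]; exact hp.out.not_dvd_one)
    rw [hdeg, hdeg] at h
    simp only [d]
    exact_mod_cast h
  have hYcong : ∀ χ ∉ Y', (p : ℤ) ^ A ∣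
      (Fintype.card Ω : ℤ) * δ₀ * d (y j₀) - δ χ * d χ := by
    intro χ hχ
    have h := hcong (fun φ => (if φ ∈ Y' then δ₀ else 0) - (if φ = χ then δ χ else 0)) fun j => by
      simp only [sub_mul, ite_mul, zero_mul, Finset.sum_sub_distrib, Finset.sum_ite_eq',
        if_pos (Finset.mem_univ _), hconst χ ((hmemY χ).1 hχ) j, Finset.sum_ite_mem,
        Finset.univ_inter]
      rw [Finset.sum_image fun a _ b _ h => hy h,
        Finset.sum_eq_single j (fun i _ hi => by rw [hunit i j, if_neg hi, mul_zero]) (by simp),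
        hunit j j, if_pos rfl, (hsame j).1, hsq]
      rcases hδ χ with h | h <;> simp [h]
    simp only [sub_mul, ite_mul, zero_mul, Finset.sum_sub_distrib, Finset.sum_ite_eq',
      if_pos (Finset.mem_univ _), Finset.sum_ite_mem, Finset.univ_inter] at h
    rw [Finset.sum_image fun a _ b _ h => hy h, Finset.sum_congr rfl fun j _ => by rw [hdY j],
      Finset.sum_const, Finset.card_univ, nsmul_eq_mul, ← mul_assoc] at h
    exact h
  -- the heights
  have hda : blockDefect p S.B = a :=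
    Nat.pow_right_injective hp.out.two_le (S.card_D.symm.trans hDa)
  have hpt : ¬ p ∣ Fintype.card Ω := fun h => by
    have h1 : p ∣ p ^ a := hpD
    rw [← hcard, Nat.dvd_add_right (h.mul_right _), Nat.dvd_one] at h1
    exact hp.out.one_lt.ne h1.symm
  obtain ⟨χ₀, hχ₀, hv₀⟩ := H22.exists_height_zero (p := p) (H20.block_nonempty S.hB)
  set v₀ := H22.blockExp p S.B
  have hA : v₀ + 1 ≤ A := by
    have h := H22.blockDefect_add_blockExp (p := p) hχ₀
    rw [hda] at h
    omega
  obtain ⟨x₀, hx₀⟩ : ∃ x₀, x₀ ∉ Y' := by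
    by_contra h
    push Not at h
    have h' := Finset.card_le_card (fun χ (_ : χ ∈ (Finset.univ : Finset _)) => h χ)
    rw [Finset.card_image_of_injective _ hy, Finset.card_univ, Finset.card_univ, hk] at h'
    omega
  let w : ↥(H22.blockFinset S.B) → ℤ :=
    fun χ => if χ ∈ Y' then (Fintype.card Ω : ℤ) * δ₀ else δ χ
  have hw : ∀ χ, (p : ℤ) ^ (v₀ + 1) ∣ w χ * d χ - δ x₀ * d x₀ := by
    intro χ
    refine (pow_dvd_pow _ hA).trans ?_
    by_cases hχ : χ ∈ Y'
    · obtain ⟨j, -, rfl⟩ := Finset.mem_image.1 hχ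
      simp only [w, if_pos hχ, hdY j]
      exact hYcong x₀ hx₀
    · simp only [w, if_neg hχ]
      exact hXcong χ hχ x₀ hx₀
  have hpprime : Prime (p : ℤ) := Nat.prime_iff_prime_int.1 hp.out
  have hwp : ∀ χ, ¬ (p : ℤ) ∣ w χ := by
    intro χ h
    simp only [w] at h
    split_ifs at h
    · rcases hpprime.dvd_or_dvd h with h' | h'
      · exact hpt (Int.natCast_dvd_natCast.1 h')
      · rcases hδ (y j₀) with h'' | h'' <;>
          simp only [δ₀, h'', dvd_neg] at h' <;>
          exact hpprime.not_dvd_one h'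
    · rcases hδ χ with h'' | h'' <;> simp only [h'', dvd_neg] at h <;>
        exact hpprime.not_dvd_one h
  have hheight : ∀ χ ∈ S.B, blockHeight p S.B (χ : G → ℂ) = 0 := by
    intro χ hχ
    refine Nat.sub_eq_zero_of_le ?_
    show (charDegree (χ : G → ℂ)).factorization p ≤ v₀
    by_contra hlt
    push Not at hlt
    have h1 : (p : ℤ) ^ (v₀ + 1) ∣ w ⟨χ, H22.mem_blockFinset.2 hχ⟩ *
        d ⟨χ, H22.mem_blockFinset.2 hχ⟩ := by
      refine dvd_mul_of_dvd_right ?_ _
      have h : p ^ (v₀ + 1) ∣ charDegree (χ : G → ℂ) :=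
        (pow_dvd_pow p hlt).trans (Nat.ordProj_dvd _ _)
      simp only [d]
      exact_mod_cast h
    have h2 := dvd_sub h1 ((hw ⟨χ, H22.mem_blockFinset.2 hχ⟩).sub
      (hw ⟨χ₀, H22.mem_blockFinset.2 hχ₀⟩))
    rw [sub_sub_sub_cancel_right, sub_sub_cancel] at h2
    have h3 := hpprime.pow_dvd_of_dvd_mul_left _ (hwp _) h2
    simp only [d] at h3
    have h4 : p ^ (v₀ + 1) ∣ charDegree (χ₀ : G → ℂ) := by exact_mod_cast h3
    rw [hp.out.pow_dvd_iff_le_factorization (H22.charDegree_pos χ₀).ne', hv₀] at h4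
    omega
  -- the statement
  let T' : IrrCharacter G → ℤ :=
    fun χ => if h : χ ∈ H22.blockFinset S.B then δ ⟨χ, h⟩ else 0
  have hT' : ∀ χ : ↥(H22.blockFinset S.B), T' χ = δ χ := fun χ => dif_pos χ.2
  refine ⟨hlB, hheight, ((Y'ᶜ).image Subtype.val : Finset (IrrCharacter G)),
    (Y'.image Subtype.val : Finset (IrrCharacter G)), ?_, ?_, ?_, ?_, ?_, T', δ₀, ?_, hδ _, ?_,
    ?_, ?_⟩
  · rw [← Finset.coe_union, ← Finset.image_union, Finset.union_comm, Finset.union_compl]
    ext χ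
    simp [H22.mem_blockFinset]
  · rw [Finset.disjoint_coe, Finset.disjoint_image Subtype.val_injective]
    exact disjoint_compl_left
  · rw [Nat.card_coe_set_eq, Set.ncard_coe_finset, Finset.card_image_of_injective _ Subtype.val_injective,
      Finset.card_compl, Finset.card_image_of_injective _ hy, hk, Finset.card_univ,
      Nat.add_sub_cancel]
  · rw [Nat.card_coe_set_eq, Set.ncard_coe_finset, Finset.card_image_of_injective _ Subtype.val_injective,
      Finset.card_image_of_injective _ hy, Finset.card_univ, ← hcard, Nat.add_sub_cancel,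
      Nat.mul_div_cancel _ he]
  · intro ψ hψ ψ' hψ' g hg
    simp only [Finset.coe_image, Set.mem_image, Finset.mem_coe, Y', Finset.mem_image] at hψ hψ'
    obtain ⟨_, ⟨j, -, rfl⟩, rfl⟩ := hψ
    obtain ⟨_, ⟨k, -, rfl⟩, rfl⟩ := hψ'
    rw [(hsame j).2 g hg, (hsame k).2 g hg]
  · intro χ hχ
    obtain ⟨χ', -, rfl⟩ := Finset.mem_image.1 (Finset.mem_coe.1 hχ)
    rw [hT']
    exact hδ χ'
  · intro ψ hψ g hg
    obtain ⟨ψ', hψ', rfl⟩ := Finset.mem_image.1 (Finset.mem_coe.1 hψ)
    obtain ⟨j, -, rfl⟩ := Finset.mem_image.1 hψ'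
    rw [finsum_mem_coe_finset, Finset.sum_image Subtype.val_injective.injOn, ← (hsame j).1]
    refine Eq.trans (congrArg _ (Finset.sum_congr rfl fun χ _ => ?_)) (hrel j g hg)
    rw [hT']
  · intro χ hχ χ' hχ'
    obtain ⟨χ₁, h₁, rfl⟩ := Finset.mem_image.1 (Finset.mem_coe.1 hχ)
    obtain ⟨χ₂, h₂, rfl⟩ := Finset.mem_image.1 (Finset.mem_coe.1 hχ')
    rw [hT', hT', Int.modEq_iff_dvd]
    exact (pow_dvd_pow _ (by
      have h := H22.blockDefect_add_blockExp (p := p) hχ₀
      rw [hda] at h; omega)).trans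
      (hXcong χ₂ (Finset.mem_compl.1 h₂) χ₁ (Finset.mem_compl.1 h₁))
  · intro ψ hψ χ hχ
    obtain ⟨ψ', hψ', rfl⟩ := Finset.mem_image.1 (Finset.mem_coe.1 hψ)
    obtain ⟨j, -, rfl⟩ := Finset.mem_image.1 hψ'
    obtain ⟨χ₁, h₁, rfl⟩ := Finset.mem_image.1 (Finset.mem_coe.1 hχ)
    rw [hT', Int.modEq_iff_dvd]
    show (p : ℤ) ^ a ∣ -((S.e : ℤ) * δ₀ * δ χ₁ * d χ₁) - d (y j)
    have hAa : a ≤ A := by
      have h := H22.blockDefect_add_blockExp (p := p) hχ₀
      rw [hda] at h; omega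
    have h1 := ((pow_dvd_pow (p : ℤ) hAa).trans (hYcong χ₁ (Finset.mem_compl.1 h₁))).mul_left
      ((S.e : ℤ) * δ₀)
    have h2 : (p : ℤ) ^ a ∣ ((p ^ a : ℕ) : ℤ) * d (y j₀) :=
      Dvd.intro _ (by push_cast; rfl)
    rw [← hcard] at h2
    push_cast at h2
    have h3 := dvd_sub h1 h2
    rw [hdY]
    obtain ⟨k, hk3⟩ := h3
    exact ⟨k, by linear_combination hk3 - ((S.e : ℤ) * (Fintype.card Ω : ℤ) * d (y j₀)) * hsq⟩

end Setup

end H85.Cyc
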