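import Cfsg.Agent.H85.Cyclic.Setup
import Cfsg.Agent.H85.Cyclic.Ind
import Cfsg.Agent.H20.InducedCentre

/-!
Cyclic defect (helper85): the family of the local block and the action of the inertial group on it.
-/

set_option autoImplicit false
set_option linter.unusedSectionVars false
set_option linter.style.haveILetI false

open Cfsg H11.Star
open scoped MonoidAlgebra ComplexConjugate

namespace H85.Cyc

universe u

variable {M : Ideal AlgInt} [hMp : M.IsPrime] {G : Type u} [Group G] [Fintype G] {p : ℕ}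
  [hp : Fact p.Prime] [CharP (H20.k M) p] [IsAlgClosed (H20.k M)]

/-- The local block at the subgroup of order `p`, with its family of characters. -/
structure Loc (S : Setup M G p) [Fintype S.C1] where
  b : Set (IrrCharacter S.C1)
  e' : (H20.k M)[S.C1]
  hbe : H23.eG M S.C1 b = S.f1
  hnil : IsNilpotentBlock p M b
  hmax : H23.IsMax p (H23.eB M b) (S.D.subgroupOf S.C1) e'
  he' : ∀ y : S.C1, e'.coeff y = S.f₀.coeff (y : G)
  θ : (S.D.subgroupOf S.C1 →* ℂˣ) → IrrCharacter S.C1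
  inj : Function.Injective θ
  range : Set.range θ = b
  hval : ∀ l, (θ l : S.C1 → ℂ) = star (S.D.subgroupOf S.C1) e' (ext1 _ l) (θ 1) p
  hreg : ∀ l, ∀ g : S.C1, ¬ p ∣ orderOf g → (θ l : S.C1 → ℂ) g = (θ 1 : S.C1 → ℂ) g

namespace Setup

variable (S : Setup M G p)

theorem D1_ne_bot : S.D1 ≠ ⊥ := by
  intro h
  have h' := S.hcard
  rw [h, Subgroup.card_bot] at h'
  exact hp.out.one_lt.ne h'

theorem exists_loc [Fintype S.C1] : Nonempty (Loc S) := by
  classical
  haveI := Fintype.ofFinite (Subgroup.centralizer (S.D : Set G))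
  obtain ⟨c, hc, hcf⟩ := H23.exists_of_isPair S.hmax.1
  obtain ⟨b, hb⟩ := H19.AbelianLocal.exists_inducedIn S.hM S.D_pgroup S.hab S.hD1 hc.2
  have hmax : H23.IsMax p (H23.eB M S.B) S.D
      (H23.eG M (Subgroup.centralizer (S.D : Set G)) c) := by rw [hcf]; exact S.hmax
  have hbe : H23.eG M S.C1 b = S.f1 := by
    refine H23.le_unique p S.hmax.1 ?_ S.hle
    have h := H19.AbelianLocal.le_of_inducedIn S.hM S.D_pgroup S.hab S.hD1 hb
    rwa [hcf] at h
  have hnil : IsNilpotentBlock p M b := by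
    refine (H19.AbelianLocal.local_nilpotent_iff S.hM S.hB S.hab hmax S.hD1 hb).2 ?_
    rw [hcf]
    exact S.T_inf_C1
  have hD := H19.AbelianLocal.isDefectGroup_local S.hM S.hB S.hab hmax S.hD1 hb
  haveI := S.hcyc
  have hcyc : IsCyclic (S.D.subgroupOf S.C1) :=
    isCyclic_of_surjective (Subgroup.subgroupOfEquivOfLe S.D_le_C1).symm.toMonoidHom
      (Subgroup.subgroupOfEquivOfLe S.D_le_C1).symm.surjective
  haveI := Fintype.ofFinite (Subgroup.centralizer (S.D.subgroupOf S.C1 : Set S.C1))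
  have hCK := H23.centralizer_anti (G := G) S.hD1
  have hmem : ∀ k : S.C1, k ∈ Subgroup.centralizer (S.D.subgroupOf S.C1 : Set S.C1) ↔
      (k : G) ∈ Subgroup.centralizer (S.D : Set G) :=
    fun k => H21.mem_centralizer_subgroupOf S.D_le_C1 k
  have hc' := (H19.Transport.isInducedBlock_pull_iff hCK hmem hb.1 b).2 hb
  have hmax' := H19.AbelianLocal.isMax_cent S.hM hnil.1 hD (comm_of_cyclic hcyc) hc'
  obtain ⟨θ, hinj, hrange, hval, hreg, -, -, -, -⟩ := exists_family S.hM hnil hcyc hmax'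
  refine ⟨⟨b, _, hbe, hnil, hmax', fun y => ?_, θ, hinj, hrange, hval, hreg⟩⟩
  rw [← hcf, H23.coeff_eG, H23.coeff_eG, subgroupBlockCoeff, subgroupBlockCoeff]
  by_cases hy : (y : G) ∈ Subgroup.centralizer (S.D : Set G)
  · rw [dif_pos ((hmem y).2 hy), dif_pos hy, blockCoeff, blockCoeff, H19.Transport.pull,
      finsum_mem_image (Equiv.injective _).injOn,
      Nat.card_congr (H19.Transport.copyEquiv hCK hmem).toEquiv]
    congr 2
  · rw [dif_neg (mt (hmem y).1 hy), dif_neg hy]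

/-- Conjugation on the centraliser of the subgroup of order `p`. -/
noncomputable def cjC {t : G} (ht : t ∈ Subgroup.normalizer (S.D1 : Set G)) : S.C1 ≃* S.C1 :=
  H23.cjEquiv (S.cjS_C1 ht)

theorem coe_cjC {t : G} (ht : t ∈ Subgroup.normalizer (S.D1 : Set G)) (c : S.C1) :
    (S.cjC ht c : G) = t * c * t⁻¹ := rfl

theorem cjC_mem {t : G} (ht : t ∈ S.T) {c : S.C1} (hc : c ∈ S.D.subgroupOf S.C1) :
    S.cjC (S.T_le_H1 ht).1 c ∈ S.D.subgroupOf S.C1 := by
  rw [Subgroup.mem_subgroupOf] at hc ⊢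
  rw [S.coe_cjC]
  exact (Subgroup.mem_normalizer_iff.1 ht.1 _).1 hc

/-- The action on the defect group. -/
noncomputable def cjD {t : G} (ht : t ∈ S.T) :
    S.D.subgroupOf S.C1 →* S.D.subgroupOf S.C1 where
  toFun x := ⟨S.cjC (S.T_le_H1 ht).1 x, S.cjC_mem ht x.2⟩
  map_one' := Subtype.ext (map_one _)
  map_mul' _ _ := Subtype.ext (map_mul _ _ _)

end Setup

namespace Loc

variable {S : Setup M G p} [Fintype S.C1] (L : Loc S)

theorem mem_b (l : S.D.subgroupOf S.C1 →* ℂˣ) : L.θ l ∈ L.b := L.range ▸ ⟨l, rfl⟩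

include L in
theorem hab : ∀ a ∈ S.D.subgroupOf S.C1, ∀ b ∈ S.D.subgroupOf S.C1, a * b = b * a :=
  fun a ha b hb => Subtype.ext (S.hab a ha b hb)

include L in
theorem hab' (a b : S.D.subgroupOf S.C1) : a * b = b * a := Subtype.ext (L.hab a a.2 b b.2)

theorem stable (l : S.D.subgroupOf S.C1 →* ℂˣ) :
    Stable p (S.D.subgroupOf S.C1) L.e' (ext1 _ l) :=
  stable_ext1 L.hnil L.hmax L.hab l

/-- The value of a member at a local block. -/
theorem val_θ (l : S.D.subgroupOf S.C1 →* ℂˣ) (g : S.C1) {bk : (H20.k M)[S.C1]}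
    (hbk : bk ∈ blks M (H20.pPart p g)) :
    val (L.θ l) g bk = etaB p (S.D.subgroupOf S.C1) L.e' (ext1 _ l) (H20.pPart p g) bk *
      val (L.θ 1) g bk := by
  have h : (twist L.b S.hM L.hnil.1 L.hmax ⟨l, L.stable l⟩ ⟨L.θ 1, L.mem_b 1⟩).1 = L.θ l :=
    Subtype.ext (by rw [twist_apply, L.hval l])
  rw [← h]
  exact val_twist S.hM L.hnil.1 L.hmax ⟨l, L.stable l⟩ ⟨L.θ 1, L.mem_b 1⟩ g hbk

/-- A conjugate in `D` of a `p`-part lying over a nontrivial element. -/
theorem D1_le_of_inBlk {g : S.C1} {bk : (H20.k M)[S.C1]}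
    (hbk : bk ∈ blks M (H20.pPart p g)) (hg : H20.pPart p g ≠ 1)
    (h : H23.InBlk (H23.eB M L.b) (Subgroup.zpowers (H20.pPart p g)) bk) :
    S.D1 ≤ Subgroup.zpowers (H20.pPart p (g : G)) := by
  obtain ⟨w, hw⟩ := (inBlk_iff_exists L.hnil.1 L.hmax hbk).1 h
  have hu : w * H20.pPart p g * w⁻¹ ∈ S.D.subgroupOf S.C1 :=
    (hw.le p) ⟨_, Subgroup.mem_zpowers _, rfl⟩
  have hu1 : (w * H20.pPart p g * w⁻¹ : S.C1) ≠ 1 := by simpa using hg
  have hle := S.D1_le_zpowers (Subgroup.mem_subgroupOf.1 hu)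
    (fun h0 => hu1 (Subtype.ext h0))
  intro z hz
  obtain ⟨i, hi⟩ := Subgroup.mem_zpowers_iff.1 (hle hz)
  refine Subgroup.mem_zpowers_iff.2 ⟨i, ?_⟩
  have hwz : (w : G) * z = z * (w : G) := (Subgroup.mem_centralizer_iff.1 w.2 z hz).symm
  simp only [Subgroup.coe_mul, Subgroup.coe_inv, conj_zpow, ← H20.pPart_coe] at hi
  calc H20.pPart p (g : G) ^ i = (w : G)⁻¹ * ((w : G) * H20.pPart p (g : G) ^ i * (w : G)⁻¹) * w :=
        by group
    _ = z := by rw [hi, mul_assoc, ← hwz, inv_mul_cancel_left]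

/-- The members agree away from the sections over `D1`. -/
theorem eq_of_not_le (l m : S.D.subgroupOf S.C1 →* ℂˣ) {g : S.C1}
    (hg : ¬ S.D1 ≤ Subgroup.zpowers (H20.pPart p (g : G))) :
    (L.θ l : S.C1 → ℂ) g = (L.θ m : S.C1 → ℂ) g := by
  by_cases h1 : H20.pPart p g = 1
  · have hr := H20.pPart_eq_one_iff.1 h1
    rw [L.hreg l g hr, L.hreg m g hr]
  · have h0 : ∀ k, (L.θ k : S.C1 → ℂ) g = 0 := fun k => by
      rw [L.hval k, H11.Star.star]
      refine Finset.sum_eq_zero fun bk hbk => ?_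
      rw [etaB_of_not_inBlk L.hnil.1 L.hmax hbk _ fun hin => hg (L.D1_le_of_inBlk hbk h1 hin),
        zero_mul]
    rw [h0, h0]

/-- The sum of the family vanishes outside the regular elements. -/
theorem sum_eq_zero [Fintype (S.D.subgroupOf S.C1 →* ℂˣ)] {g : S.C1}
    (hg : H20.pPart p g ≠ 1) : ∑ l, (L.θ l : S.C1 → ℂ) g = 0 := by
  classical
  have hs : ∀ l, (L.θ l : S.C1 → ℂ) g = ∑ bk ∈ blks M (H20.pPart p g),
      etaB p (S.D.subgroupOf S.C1) L.e' (ext1 _ l) (H20.pPart p g) bk * val (L.θ 1) g bk := by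
    intro l; rw [L.hval l]; rfl
  simp only [hs]
  rw [Finset.sum_comm]
  refine Finset.sum_eq_zero fun bk hbk => ?_
  rw [← Finset.sum_mul]
  refine mul_eq_zero_of_left ?_ _
  by_cases h : H23.InBlk (H23.eB M L.b) (Subgroup.zpowers (H20.pPart p g)) bk
  · obtain ⟨w, hw⟩ := (inBlk_iff_exists L.hnil.1 L.hmax hbk).1 h
    have hu : w * H20.pPart p g * w⁻¹ ∈ S.D.subgroupOf S.C1 :=
      (hw.le p) ⟨_, Subgroup.mem_zpowers _, rfl⟩
    rw [Finset.sum_congr rfl fun l _ => (etaB_eq (L.stable l) hw).trans (ext1_of_mem l hu),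
      sum_dual L.hab', if_neg]
    intro h0
    exact hg (by simpa using congrArg Subtype.val h0)
  · exact Finset.sum_eq_zero fun l _ => etaB_of_not_inBlk L.hnil.1 L.hmax hbk _ h

theorem cj_e' {t : G} (ht : t ∈ S.T) :
    MonoidAlgebra.domCongr (H20.k M) (H20.k M) (S.cjC (S.T_le_H1 ht).1) L.e' = L.e' := by
  ext y
  obtain ⟨x, rfl⟩ := (S.cjC (S.T_le_H1 ht).1).surjective y
  refine Eq.trans (Finsupp.mapDomain_apply (S.cjC _).injective L.e'.coeff x) ?_
  have h := congrArg (fun z : (H20.k M)[G] => z.coeff (t * (x : G) * t⁻¹)) ht.2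
  simp only [H23.coeff_cj] at h
  rw [L.he', L.he', S.coe_cjC, ← h]
  congr 1
  group

/-- An element of the inertial group permutes the family. -/
theorem exists_perm {t : G} (ht : t ∈ S.T) :
    ∃ π : (S.D.subgroupOf S.C1 →* ℂˣ) → (S.D.subgroupOf S.C1 →* ℂˣ), Function.Injective π ∧
      (∀ l c, (L.θ (π l) : S.C1 → ℂ) c = (L.θ l : S.C1 → ℂ) (S.cjC (S.T_le_H1 ht).1 c)) ∧
      ∀ l, π l = l.comp (S.cjD ht) * π 1 := by
  classical
  have hn := (S.T_le_H1 ht).1
  set α := S.cjC hn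
  have hfix : H23.eG M S.C1 L.b = H23.cj t (H23.eG M S.C1 L.b) := by
    rw [L.hbe]; exact (S.T_le_H1 ht).2.symm
  have hmem : ∀ l, H23.pullChar (S.cjS_C1 hn) (L.θ l) ∈ L.b := fun l =>
    (H23.mem_iff_pull (S.cjS_C1 hn) L.hnil.1 L.hnil.1 hfix _).1 (L.mem_b l)
  have hex : ∀ l, ∃ m, L.θ m = H23.pullChar (S.cjS_C1 hn) (L.θ l) := fun l => by
    have h := hmem l
    rwa [← L.range] at h
  choose π hπ using hex
  have hval : ∀ l c, (L.θ (π l) : S.C1 → ℂ) c = (L.θ l : S.C1 → ℂ) (α c) := fun l c => by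
    rw [hπ]; rfl
  refine ⟨π, fun l m h => L.inj (Subtype.ext (funext fun c => ?_)), hval, fun l => ?_⟩
  · obtain ⟨c, rfl⟩ := α.surjective c
    rw [← hval, ← hval, h]
  obtain ⟨w, hw⟩ := (Subgroup.isCyclic_iff_exists_zpowers_eq_top (S.D.subgroupOf S.C1)).1
    (by
      haveI := S.hcyc
      exact isCyclic_of_surjective (Subgroup.subgroupOfEquivOfLe S.D_le_C1).symm.toMonoidHom
        (Subgroup.subgroupOfEquivOfLe S.D_le_C1).symm.surjective)
  have hwm : w ∈ S.D.subgroupOf S.C1 := hw ▸ Subgroup.mem_zpowers w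
  obtain ⟨c, hc, hce⟩ := H23.exists_of_isPair L.hmax.1
  have hF := H23.pairFS_isBlockFS (H23.isMaximalBrauerPair_of L.hnil.1 hc (hce.symm ▸ L.hmax))
  obtain ⟨g, bk, hg, hle, hne⟩ := visible_of_center S.hM hF (L.mem_b (π 1)) (x := w)
    ⟨hwm, Subgroup.mem_centralizer_iff.2 fun y hy => L.hab y hy w hwm⟩
  rw [hce] at hle
  have hbk : bk = L.e' := congrArg Prod.snd (hle.eq_of_eq p hw)
  rw [hbk, hw] at hle
  rw [hbk] at hne
  have hblk : ∀ g' : S.C1, Subgroup.zpowers (H20.pPart p g') = S.D.subgroupOf S.C1 →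
      L.e' ∈ blks M (H20.pPart p g') ∧ ∀ k, val (L.θ k) g' L.e' =
        ext1 _ k (H20.pPart p g') * val (L.θ 1) g' L.e' := by
    intro g' hg'
    have hb : L.e' ∈ blks M (H20.pPart p g') := mem_blks.2 (hg'.symm ▸ L.hmax.1.2)
    refine ⟨hb, fun k => ?_⟩
    rw [L.val_θ k g' hb, etaB_eq (L.stable k) (g := 1) (by
      rw [H23.cjS_eq_self (Subgroup.one_mem _), H23.cj_one, hg']
      exact Relation.ReflTransGen.refl), one_mul, inv_one, mul_one]
  have hgz : Subgroup.zpowers (H20.pPart p g) = S.D.subgroupOf S.C1 := by rw [hg, hw]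
  have hpart : H20.pPart p (α g) = α (H20.pPart p g) := by
    refine ((H20.isPPart_unique' (p := p) (g := α g) (x := α (H20.pPart p g))
      (y := α (H20.qPart p g)) (by rw [← map_mul, H20.pPart_mul_qPart])
      ((H20.commute_pPart_qPart g).map α.toMonoidHom) ?_ ?_).1).symm
    · obtain ⟨j, hj⟩ := H20.exists_orderOf_pPart (p := p) g
      exact ⟨j, by rw [MulEquiv.orderOf_eq, hj]⟩
    · rw [MulEquiv.orderOf_eq]; exact H20.not_dvd_orderOf_qPart g
  have hαw : α w ∈ S.D.subgroupOf S.C1 := S.cjC_mem ht hwm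
  have hαgz : Subgroup.zpowers (H20.pPart p (α g)) = S.D.subgroupOf S.C1 := by
    rw [hpart, hg, ← MulEquiv.coe_toMonoidHom, ← MonoidHom.map_zpowers, hw]
    refine Subgroup.eq_of_le_of_card_ge ?_ (ge_of_eq
      (Subgroup.card_map_of_injective α.injective))
    rintro _ ⟨y, hy, rfl⟩
    exact S.cjC_mem ht hy
  have hidem := L.hmax.1.2.cidem.idem
  have hrel : ∀ k, val (L.θ (π k)) g L.e' = val (L.θ k) (α g) L.e' := fun k => by
    rw [val_comp (L.θ k) (L.θ (π k)) α (hval k) hidem (isFix_blk (hblk g hgz).1), L.cj_e' ht]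
  have hne1 : val (L.θ 1) g L.e' ≠ 0 := fun h0 => hne (by rw [(hblk g hgz).2, h0, mul_zero])
  have key : ext1 (S.D.subgroupOf S.C1) (π l) w =
      ext1 (S.D.subgroupOf S.C1) l (α w) * ext1 (S.D.subgroupOf S.C1) (π 1) w := by
    refine mul_right_cancel₀ hne1 ?_
    have h1 := hrel l
    rw [(hblk g hgz).2, (hblk _ hαgz).2, hg, hpart, hg] at h1
    have h2 := hrel 1
    rw [(hblk g hgz).2, hg] at h2
    rw [h1, mul_assoc, h2]
  refine MonoidHom.ext fun x => ?_
  obtain ⟨i, hi⟩ := Subgroup.mem_zpowers_iff.1 (hw.symm ▸ x.2 : (x : S.C1) ∈ Subgroup.zpowers w)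
  have hx : x = (⟨w, hwm⟩ : S.D.subgroupOf S.C1) ^ i := Subtype.ext hi.symm
  rw [hx, map_zpow, map_zpow]
  congr 1
  rw [ext1_of_mem _ hwm, ext1_of_mem _ hαw, ext1_of_mem _ hwm, ← Units.val_mul] at key
  exact Units.ext key

end Loc

end H85.Cyc
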