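import Cfsg.Agent.H19.AbelianLocal
import Cfsg.Agent.H19.CyclicBlock
import Cfsg.Agent.H85.Cyclic.Local

/-!
Cyclic defect (helper85): the subgroup of order `p` of a cyclic defect group, its pair and the
stabiliser of that pair.
-/

set_option autoImplicit false
set_option linter.unusedSectionVars false
set_option linter.style.haveILetI false

open Cfsg
open scoped MonoidAlgebra

namespace H85.Cyc

universe u

/-- The data: a maximal pair with cyclic group, and the pair at the subgroup of order `p`. -/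
structure Setup (M : Ideal AlgInt) [M.IsPrime] (G : Type u) [Group G] [Fintype G] (p : ℕ)
    [Fact p.Prime] [CharP (H20.k M) p] [IsAlgClosed (H20.k M)] where
  hM : IsPModular p M
  B : Set (IrrCharacter G)
  hB : IsPBlock M B
  D : Subgroup G
  hcyc : IsCyclic D
  f₀ : (H20.k M)[G]
  hmax : H23.IsMax p (H23.eB M B) D f₀
  D1 : Subgroup G
  hD1 : D1 ≤ D
  hcard : Nat.card D1 = p
  f1 : (H20.k M)[G]
  hle : H23.Le p (D1, f1) (D, f₀)

namespace Setup

variable {M : Ideal AlgInt} [hMp : M.IsPrime] {G : Type u} [Group G] [Fintype G] {p : ℕ}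
  [hp : Fact p.Prime] [CharP (H20.k M) p] [IsAlgClosed (H20.k M)] (S : Setup M G p)

/-- The centralizer of the subgroup of order `p`. -/
noncomputable abbrev C1 : Subgroup G := Subgroup.centralizer (S.D1 : Set G)

/-- The stabiliser of the pair. -/
noncomputable abbrev H1 : Subgroup G := H23.stab S.D1 S.f1

/-- The inertial group. -/
noncomputable abbrev T : Subgroup G := H23.stab S.D S.f₀

/-- The inertial index. -/
noncomputable abbrev e : ℕ := (Subgroup.centralizer (S.D : Set G)).relIndex S.T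

theorem hab : ∀ a ∈ S.D, ∀ b ∈ S.D, a * b = b * a := comm_of_cyclic S.hcyc

theorem pair : H23.IsPair p S.D1 S.f1 := S.hle.pair_left p S.hmax.1

theorem inBlk : H23.InBlk (H23.eB M S.B) S.D1 S.f1 :=
  (S.hle.inBlk_iff p (H23.cidem_eB S.hB)).1 S.hmax.2.1

theorem D_le_C : S.D ≤ Subgroup.centralizer (S.D : Set G) := H19.AbelianLocal.le_centralizer S.hab

theorem C_le_C1 : Subgroup.centralizer (S.D : Set G) ≤ S.C1 := H23.centralizer_anti S.hD1

theorem D_le_C1 : S.D ≤ S.C1 := S.D_le_C.trans S.C_le_C1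

theorem C1_le_H1 : S.C1 ≤ S.H1 := H23.centralizer_le_stab p S.pair

theorem D_le_H1 : S.D ≤ S.H1 := S.D_le_C1.trans S.C1_le_H1

theorem cjS_C1 {x : G} (hx : x ∈ Subgroup.normalizer (S.D1 : Set G)) : H23.cjS x S.C1 = S.C1 :=
  H23.cjS_normalizer_centralizer le_rfl hx

theorem D_pgroup : IsPGroup p S.D := S.hmax.1.1

/-- A nontrivial element of `D` generates a subgroup over `D1`. -/
theorem D1_le_zpowers {x : G} (hx : x ∈ S.D) (hx1 : x ≠ 1) : S.D1 ≤ Subgroup.zpowers x := by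
  obtain ⟨j, hj⟩ := IsPGroup.iff_orderOf.1 S.D_pgroup ⟨x, hx⟩
  rw [Subgroup.orderOf_mk] at hj
  have hj0 : j ≠ 0 := fun h => hx1 (orderOf_eq_one_iff.1 (by rw [hj, h, pow_zero]))
  have hy : orderOf (x ^ p ^ (j - 1)) = p := by
    rw [orderOf_pow x, hj, Nat.gcd_eq_right (pow_dvd_pow p (Nat.sub_le j 1)),
      Nat.pow_div (Nat.sub_le j 1) hp.out.pos, show j - (j - 1) = 1 by omega, pow_one]
  have h := H19.CyclicLocal.eq_of_card_eq S.hcyc (Q := Subgroup.zpowers (x ^ p ^ (j - 1))) (Q' := S.D1)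
    (Subgroup.zpowers_le.2 (pow_mem hx _)) S.hD1 (by rw [Nat.card_zpowers, hy, S.hcard])
  rw [← h]
  exact Subgroup.zpowers_le.2 (pow_mem (Subgroup.mem_zpowers x) _)

theorem T_le_H1 : S.T ≤ S.H1 := by
  intro t ht
  have hn : t ∈ Subgroup.normalizer (S.D1 : Set G) :=
    H19.CyclicLocal.mem_normalizer_of_le S.hcyc S.hD1 ht.1
  refine ⟨hn, H23.le_unique p S.hmax.1 ?_ S.hle⟩
  have h := S.hle.cj p t
  rwa [H23.cjS_eq_self hn, H23.cjS_eq_self ht.1, ht.2] at h

theorem T_inf_C1 : S.T ⊓ S.C1 ≤ Subgroup.centralizer (S.D : Set G) := by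
  rintro g ⟨hg, hg1⟩
  obtain ⟨x, hx⟩ := exists_prime_orderOf_dvd_card' (G := S.D1) p (by rw [S.hcard])
  refine H19.CyclicLocal.free S.hB S.hcyc S.hmax g hg x (S.hD1 x.2) ?_ ?_
  · intro h
    rw [← Subgroup.orderOf_coe, h, orderOf_one] at hx
    exact hp.out.one_lt.ne hx
  · rw [← Subgroup.mem_centralizer_iff.1 hg1 (x : G) x.2, mul_inv_cancel_right]

theorem exists_mem_T {h : G} (hh : h ∈ S.H1) : ∃ t ∈ S.T, t⁻¹ * h ∈ S.C1 := by
  obtain ⟨t, ht, htz⟩ := H17.Major.exists_stab_conj S.hB S.hmax S.hle S.hle S.D_le_C1 S.D_le_C1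
    (x := h) (H23.cjS_eq_self hh.1) hh.2
  refine ⟨t, ht, Subgroup.mem_centralizer_iff.2 fun z hz => ?_⟩
  calc z * (t⁻¹ * h) = t⁻¹ * (t * z * t⁻¹) * h := by group
    _ = t⁻¹ * h * z := by rw [htz z hz]; group

theorem maxIn_H1 : H23.IsMaxIn p S.H1 S.f1 S.D S.f₀ := by
  refine ⟨S.hmax.1, S.D_le_H1, (H23.le_iff_inBlk p S.pair S.C1_le_H1 le_rfl S.hmax.1 S.hD1
    S.D_le_H1).1 S.hle, fun R g hg _ _ hl => ?_⟩
  exact S.hmax.2.2 R g hg ((hl.inBlk_iff p (H23.cidem_eB S.hB)).2 S.hmax.2.1) hl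

theorem defLE : H23.DefLE p S.H1 S.D S.f1 :=
  H23.LocMax.defLE (h := S.f₀) p
    ⟨S.pair, S.hD1.trans S.D_le_H1, S.C1_le_H1, le_rfl, S.maxIn_H1, S.hle⟩

theorem cidem : H23.CIdem S.H1 S.f1 := H23.cidem_stab p S.pair S.C1_le_H1 le_rfl

/-- The conjugates of the block outside the stabiliser are orthogonal. -/
theorem mul_cj_eq_zero {x : G} (hx : x ∈ Subgroup.normalizer (S.D1 : Set G)) (hx1 : x ∉ S.H1) :
    S.f1 * H23.cj x S.f1 = 0 := by
  have hblk := S.pair.2.cj x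
  rw [show (S.C1).map (MulAut.conj x).toMonoidHom = S.C1 from S.cjS_C1 hx] at hblk
  exact S.pair.2.mul_ne hblk fun h => hx1 ⟨hx, h.symm⟩

theorem p_ne_dvd_e : ¬ p ∣ S.e := by
  intro hd
  haveI : ((Subgroup.centralizer (S.D : Set G)).subgroupOf S.T).Normal := by
    refine ⟨fun c hc g => ?_⟩
    rw [Subgroup.mem_subgroupOf] at hc ⊢
    have h := H23.cjS_normalizer_centralizer (Q := S.D) le_rfl g.2.1
    have h' := H23.mem_cjS (x := (g : G)) (R := Subgroup.centralizer (S.D : Set G))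
      (g := (g : G) * c * (g : G)⁻¹)
    rw [h] at h'
    simpa [mul_assoc] using h'.2 (by simpa [mul_assoc] using hc)
  by_cases hP : S.D = ⊥
  · have := S.hD1
    rw [hP, le_bot_iff] at this
    have h := S.hcard
    rw [this, Subgroup.card_bot] at h
    exact hp.out.one_lt.ne h
  · obtain ⟨-, hdvd⟩ := H19.CyclicLocal.quotient_structure (p := p) S.hcyc S.D_pgroup hP
      (T := S.T) (fun g hg => hg.1) (H19.CyclicLocal.free S.hB S.hcyc S.hmax)
    have hpm := Nat.le_of_dvd (Nat.sub_pos_of_lt hp.out.one_lt) (hd.trans hdvd)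
    have := hp.out.one_lt
    omega

/-- A generator of `T / C(D)`, seen in `H1 / C1`. -/
theorem exists_gen : ∃ t ∈ S.T, t ^ S.e ∈ S.C1 ∧
    (∀ h ∈ S.H1, ∃ (i : ℕ), ∃ c ∈ S.C1, h = c * t ^ i) ∧ (∀ i : ℕ, t ^ i ∈ S.C1 → S.e ∣ i) := by
  haveI hN : ((Subgroup.centralizer (S.D : Set G)).subgroupOf S.T).Normal := by
    refine ⟨fun c hc g => ?_⟩
    rw [Subgroup.mem_subgroupOf] at hc ⊢
    have h := H23.cjS_normalizer_centralizer (Q := S.D) le_rfl g.2.1
    have h' := H23.mem_cjS (x := (g : G)) (R := Subgroup.centralizer (S.D : Set G))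
      (g := (g : G) * c * (g : G)⁻¹)
    rw [h] at h'
    simpa [mul_assoc] using h'.2 (by simpa [mul_assoc] using hc)
  have hP : S.D ≠ ⊥ := by
    intro hP
    have := S.hD1
    rw [hP, le_bot_iff] at this
    have h := S.hcard
    rw [this, Subgroup.card_bot] at h
    exact hp.out.one_lt.ne h
  obtain ⟨hcy, -⟩ := H19.CyclicLocal.quotient_structure (p := p) S.hcyc S.D_pgroup hP
    (T := S.T) (fun g hg => hg.1) (H19.CyclicLocal.free S.hB S.hcyc S.hmax)
  obtain ⟨g, hg⟩ := hcy.exists_generator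
  obtain ⟨t, rfl⟩ := QuotientGroup.mk_surjective g
  have hord : orderOf (t : S.T ⧸ (Subgroup.centralizer (S.D : Set G)).subgroupOf S.T) = S.e := by
    rw [orderOf_eq_card_of_forall_mem_zpowers hg]
    rfl
  refine ⟨t, t.2, ?_, fun h hh => ?_, fun i hi => ?_⟩
  · refine S.C_le_C1 ?_
    have h1 := pow_orderOf_eq_one (t : S.T ⧸ (Subgroup.centralizer (S.D : Set G)).subgroupOf S.T)
    rw [hord, ← QuotientGroup.mk_pow, QuotientGroup.eq_one_iff, Subgroup.mem_subgroupOf] at h1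
    simpa using h1
  · obtain ⟨s, hs, hsh⟩ := S.exists_mem_T hh
    obtain ⟨i, hi⟩ := (mem_powers_iff_mem_zpowers).2 (hg (⟨s, hs⟩ : S.T))
    refine ⟨i, h * ((t : G) ^ i)⁻¹, ?_, by group⟩
    change (t : S.T ⧸ (Subgroup.centralizer (S.D : Set G)).subgroupOf S.T) ^ i = _ at hi
    rw [← QuotientGroup.mk_pow, QuotientGroup.eq, Subgroup.mem_subgroupOf] at hi
    have hc : s⁻¹ * (t : G) ^ i ∈ S.C1 := by
      have := S.C_le_C1 hi
      simpa using inv_mem this
    -- `h t⁻ⁱ = s (s⁻¹ h) (s⁻¹ tⁱ)⁻¹ s⁻¹`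
    have hn : s ∈ Subgroup.normalizer (S.D1 : Set G) := (S.T_le_H1 hs).1
    have key : h * ((t : G) ^ i)⁻¹ = s * ((s⁻¹ * h) * (s⁻¹ * (t : G) ^ i)⁻¹) * s⁻¹ := by group
    rw [key]
    have hmem : s * ((s⁻¹ * h) * (s⁻¹ * (t : G) ^ i)⁻¹) * s⁻¹ ∈ H23.cjS s S.C1 :=
      H23.mem_cjS.2 (by simpa [mul_assoc] using mul_mem hsh (inv_mem hc))
    rwa [S.cjS_C1 hn] at hmem
  · rw [← hord]
    refine orderOf_dvd_of_pow_eq_one ?_
    rw [← QuotientGroup.mk_pow, QuotientGroup.eq_one_iff, Subgroup.mem_subgroupOf]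
    have := S.T_inf_C1 ⟨pow_mem t.2 i, hi⟩
    simpa using this

/-- The local block is uniserial. -/
theorem exists_basic : ∃ (q : ℕ) (X ε : (H20.k M)[S.C1]), Basic (H23.res S.C1 S.f1) q X ε := by
  haveI := Fintype.ofFinite S.C1
  haveI := Fintype.ofFinite (Subgroup.centralizer (S.D : Set G))
  obtain ⟨c, hc, hcf⟩ := H23.exists_of_isPair S.hmax.1
  obtain ⟨b, hb⟩ := H19.AbelianLocal.exists_inducedIn S.hM S.D_pgroup S.hab S.hD1 hc.2
  have hmax : H23.IsMax p (H23.eB M S.B) S.D (H23.eG M (Subgroup.centralizer (S.D : Set G)) c) := by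
    rw [hcf]; exact S.hmax
  have hbe : H23.eG M S.C1 b = S.f1 := by
    refine H23.le_unique p S.hmax.1 ?_ S.hle
    have h := H19.AbelianLocal.le_of_inducedIn S.hM S.D_pgroup S.hab S.hD1 hb
    rwa [hcf] at h
  have hT : H23.stab S.D (H23.eG M (Subgroup.centralizer (S.D : Set G)) c) = S.T := by rw [hcf]
  have hnil : IsNilpotentBlock p M b := by
    refine (H19.AbelianLocal.local_nilpotent_iff S.hM S.hB S.hab hmax S.hD1 hb).2 ?_
    rw [hT]
    exact S.T_inf_C1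
  have hD := H19.AbelianLocal.isDefectGroup_local S.hM S.hB S.hab hmax S.hD1 hb
  haveI := S.hcyc
  have hcyc : IsCyclic (S.D.subgroupOf S.C1) :=
    isCyclic_of_surjective (Subgroup.subgroupOfEquivOfLe S.D_le_C1).symm.toMonoidHom
      (Subgroup.subgroupOfEquivOfLe S.D_le_C1).symm.surjective
  haveI := Fintype.ofFinite (Subgroup.centralizer (S.D.subgroupOf S.C1 : Set S.C1))
  obtain ⟨e, he⟩ : ∃ e, H23.IsMax p (H23.eB M b) (S.D.subgroupOf S.C1) e := by
    have hab' : ∀ x ∈ S.D.subgroupOf S.C1, ∀ y ∈ S.D.subgroupOf S.C1, x * y = y * x :=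
      comm_of_cyclic hcyc
    have hc' := (H19.Transport.isInducedBlock_pull_iff (H23.centralizer_anti S.hD1)
      (fun k : S.C1 => H21.mem_centralizer_subgroupOf S.D_le_C1 k) hb.1 b).2 hb
    exact ⟨_, H19.AbelianLocal.isMax_cent S.hM hnil.1 hD hab' hc'⟩
  obtain ⟨X, ε, h⟩ := Cyc.exists_basic S.hM hnil hcyc he
  have h2 : H23.res S.C1 S.f1 = H23.eB M b := by rw [← hbe, H23.res_eG]
  exact ⟨_, X, ε, h2 ▸ h⟩

end Setup

/-- A setup exists for a cyclic defect group of order divisible by `p`. -/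
theorem exists_setup {M : Ideal AlgInt} [hMp : M.IsPrime] {G : Type u} [Group G] [Fintype G]
    {p : ℕ} [hp : Fact p.Prime] [CharP (H20.k M) p] [IsAlgClosed (H20.k M)]
    (hM : IsPModular p M) {B : Set (IrrCharacter G)} (hB : IsPBlock M B) {D : Subgroup G}
    (hcyc : IsCyclic D) (hD : p ∣ Nat.card D) {f₀ : (H20.k M)[G]}
    (hmax : H23.IsMax p (H23.eB M B) D f₀) :
    ∃ S : Setup M G p, S.B = B ∧ S.D = D ∧ S.f₀ = f₀ := by
  obtain ⟨x, hx⟩ := exists_prime_orderOf_dvd_card' (G := D) p hD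
  have hle : Subgroup.zpowers (x : G) ≤ D := Subgroup.zpowers_le.2 x.2
  obtain ⟨f1, hf1⟩ := H23.exists_le p hmax.1 hle
  exact ⟨⟨hM, B, hB, D, hcyc, f₀, hmax, _, hle,
    by rw [Nat.card_zpowers, Subgroup.orderOf_coe, hx], f1, hf1⟩, rfl, rfl, rfl⟩

end H85.Cyc
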