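import Cfsg.Agent.H85.Cyclic.Main

/-!
Cyclic defect (helper85): the data of the statements as a setup.
-/

set_option autoImplicit false
set_option linter.unusedSectionVars false
set_option linter.style.haveILetI false

open Cfsg
open scoped MonoidAlgebra

namespace H85.Cyc

universe u

variable {M : Ideal AlgInt} [hMp : M.IsPrime] {G : Type u} [Group G] [Fintype G] {p : ℕ}
  [hp : Fact p.Prime] [CharP (H20.k M) p] [IsAlgClosed (H20.k M)]

/-- The inertial group read on the characters is the stabiliser of the pair. -/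
theorem mem_stab_of_chars {D : Subgroup G}
    {b : Set (IrrCharacter (Subgroup.centralizer (D : Set G)))} (hb : IsPBlock M b) (g : G) :
    g ∈ H23.stab D (H23.eG M (Subgroup.centralizer (D : Set G)) b) ↔
      g ∈ Subgroup.normalizer (D : Set G) ∧
        ∀ θ ∈ b, ∀ θ' : IrrCharacter (Subgroup.centralizer (D : Set G)),
          (∀ h h' : Subgroup.centralizer (D : Set G), (h' : G) = g * h * g⁻¹ →
            (θ' : Subgroup.centralizer (D : Set G) → ℂ) h' =
              (θ : Subgroup.centralizer (D : Set G) → ℂ) h) → θ' ∈ b := by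
  rw [H19.AbelianLocal.mem_stab_iff hb]
  refine and_congr_right fun hg => ?_
  have h := H23.cjS_normalizer_centralizer (Q := D) le_rfl hg
  constructor
  · rintro ⟨-, hs⟩ θ hθ θ' hc
    obtain ⟨χ', hχ', hc'⟩ := hs θ hθ
    have : θ' = χ' := by
      refine Subtype.ext (funext fun k' => ?_)
      obtain ⟨k, rfl⟩ := (H23.cjEquiv h).surjective k'
      rw [hc k _ (H23.coe_cjEquiv h k), hc' k _ (H23.coe_cjEquiv h k)]
    rwa [this]
  · intro hs
    refine ⟨H23.mem_normalizer_of_cjS_eq h, fun χ hχ => ?_⟩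
    have hc : IsConjCharOf (Subgroup.centralizer (D : Set G)) g
        (χ : Subgroup.centralizer (D : Set G) → ℂ)
        (H23.pushChar h χ : Subgroup.centralizer (D : Set G) → ℂ) := fun k k' hk => by
      rw [show k' = H23.cjEquiv h k from Subtype.ext hk, H23.pushChar_apply]
    exact ⟨_, hs χ hχ _ hc, hc⟩

/-- The setup of a block with a cyclic defect group and a block of the centraliser inducing it. -/
theorem exists_setup_of_induced (hM : IsPModular p M) {D : Subgroup G} (hD : IsCyclic D) {a : ℕ}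
    (ha : 1 ≤ a) (hDa : Nat.card D = p ^ a) {B : Set (IrrCharacter G)} (hB : IsPBlock M B)
    (hBD : IsDefectGroup p M B D) {b : Set (IrrCharacter (Subgroup.centralizer (D : Set G)))}
    (hind : IsInducedBlock M (Subgroup.centralizer (D : Set G)) b B) {T : Subgroup G}
    (hT : ∀ g : G, g ∈ T ↔ (g ∈ Subgroup.normalizer (D : Set G) ∧
        ∀ θ ∈ b, ∀ θ' : IrrCharacter (Subgroup.centralizer (D : Set G)),
          (∀ h h' : Subgroup.centralizer (D : Set G), (h' : G) = g * h * g⁻¹ →
            (θ' : Subgroup.centralizer (D : Set G) → ℂ) h' =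
              (θ : Subgroup.centralizer (D : Set G) → ℂ) h) → θ' ∈ b)) :
    ∃ S : Setup M G p, S.B = B ∧ S.D = D ∧ S.T = T := by
  have hmax := H19.AbelianLocal.isMax_cent hM hB hBD (comm_of_cyclic hD) hind
  obtain ⟨S, hSB, hSD, hSf⟩ := exists_setup hM hB hD
    (hDa ▸ dvd_pow_self p (by omega)) hmax
  refine ⟨S, hSB, hSD, SetLike.ext fun g => ?_⟩
  rw [hT, ← mem_stab_of_chars hind.1 g, Setup.T, hSD, hSf]

theorem e_dvd (S : Setup M G p) : S.e ∣ p - 1 := by
  haveI hN : ((Subgroup.centralizer (S.D : Set G)).subgroupOf S.T).Normal := by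
    refine ⟨fun c hc g => ?_⟩
    rw [Subgroup.mem_subgroupOf] at hc ⊢
    have h := H23.cjS_normalizer_centralizer (Q := S.D) le_rfl g.2.1
    have h' := H23.mem_cjS (x := (g : G)) (R := Subgroup.centralizer (S.D : Set G))
      (g := (g : G) * c * (g : G)⁻¹)
    rw [h] at h'
    simpa [mul_assoc] using h'.2 (by simpa [mul_assoc] using hc)
  have hP : S.D ≠ ⊥ := fun h => S.D1_ne_bot (le_bot_iff.1 (h ▸ S.hD1))
  exact (H19.CyclicLocal.quotient_structure (p := p) S.hcyc S.D_pgroup hP
    (T := S.T) (fun g hg => hg.1) (H19.CyclicLocal.free S.hB S.hcyc S.hmax)).2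

/-- With a cyclic defect group nilpotency is rank one. -/
theorem nilpotent_iff (hM : IsPModular p M) {B : Set (IrrCharacter G)} (hB : IsPBlock M B)
    {P : Subgroup G} (hPD : IsDefectGroup p M B P) (hcyc : IsCyclic P) :
    IsNilpotentBlock p M B ↔ blockRank p B = 1 := by
  obtain ⟨f₀, hmax⟩ := H23.exists_maxPair_defect hB hM hPD
  obtain ⟨c, hc, rfl⟩ := H23.exists_of_isPair hmax.1
  have hab := comm_of_cyclic (G := G) hcyc
  haveI := Fintype.ofFinite (Subgroup.centralizer (P : Set G))
  refine ⟨fun hnil => ?_, fun hl => ?_⟩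
  · obtain ⟨θ, -, -, -, -, -, hl, -, -⟩ := exists_family hM hnil hcyc hmax
    exact hl
  rw [H19.AbelianLocal.isNilpotentBlock_iff_stab_le hB hab hc.2 hmax]
  by_cases hP : P = ⊥
  · subst hP
    intro g _
    exact Subgroup.mem_centralizer_iff.2 fun h hh => by
      rw [Subgroup.mem_bot.1 (SetLike.mem_coe.1 hh)]
      simp
  haveI : Nontrivial P := (Subgroup.nontrivial_iff_ne_bot P).2 hP
  obtain ⟨a, ha, hPa⟩ := hmax.1.1.nontrivial_iff_card.1 inferInstance
  obtain ⟨S, hSB, hSD, hSf⟩ := exists_setup hM hB hcyc (hPa ▸ dvd_pow_self p (by omega)) hmax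
  obtain ⟨he, -⟩ := S.main a (by rw [hSD]; exact hPa)
  rw [hSB, hl] at he
  rw [Setup.e, Setup.T, hSD, hSf] at he
  exact Subgroup.relIndex_eq_one.1 he.symm

end H85.Cyc
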